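import Groth.Agent.QGorLiftLib.LocalGen

/-!
# Relative `S₂` of the reflexive powers from the Artinian base changes
-/

set_option autoImplicit false
set_option linter.style.haveILetI false
set_option linter.unusedSectionVars false
set_option backward.isDefEq.respectTransparency false
set_option backward.isDefEq.respectTransparency.types false
set_option maxHeartbeats 1000000
set_option synthInstance.maxHeartbeats 200000

noncomputable section

universe u

open CategoryTheory CategoryTheory.Limits AlgebraicGeometry IsLocalRing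
open Groth.Agent

attribute [local instance] HasDerivedCategory.standard

namespace QGorLiftLib

variable {A : Type u} [CommRing A] [IsNoetherianRing A] {Y : Scheme.{u}} [Y.Over (Spec (CommRingCat.of A))]
  [IsProper (Y ↘ Spec (CommRingCat.of A))] [Flat (Y ↘ Spec (CommRingCat.of A))] {d : ℕ}
  (hd : Cyc.HasRelDim (Y ↘ Spec (CommRingCat.of A)) d) {ω : Y.Modules}
  (hω : RelCanon.IsDualizingSheaf A Y d ω)
  (hS : RelCanon.IsSkMor (Y ↘ Spec (CommRingCat.of A)) 2)
  (hG : ∀ y : Y, y ∉ RelCanon.gorLocus (Y ↘ Spec (CommRingCat.of A)) → (2 : WithBot ℕ∞) ≤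
    ringKrullDim (((Y ↘ Spec (CommRingCat.of A)).fiber ((Y ↘ Spec (CommRingCat.of A)) y)).presheaf.stalk
      ((Y ↘ Spec (CommRingCat.of A)).asFiber y)))

variable (A Y) in
/-- A property of all the infinitesimal neighbourhoods of the fibre through a point. -/
def OnThickenings (d : ℕ) (P : ∀ {Y' S' : Scheme.{u}}, (Y' ⟶ S') → Y'.Modules → Y' → Prop) (y : Y) : Prop :=
  ∀ (k : ℕ) (Y' : Scheme.{u})
    [Y'.Over (Spec (CommRingCat.of ((Spec (CommRingCat.of A)).presheaf.stalk ((Y ↘ Spec (CommRingCat.of A)) y) ⧸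
      maximalIdeal ((Spec (CommRingCat.of A)).presheaf.stalk ((Y ↘ Spec (CommRingCat.of A)) y)) ^ (k + 1))))]
    (p : Y' ⟶ Y),
    IsPullback p (Y' ↘ Spec (CommRingCat.of ((Spec (CommRingCat.of A)).presheaf.stalk ((Y ↘ Spec (CommRingCat.of A)) y) ⧸
        maximalIdeal ((Spec (CommRingCat.of A)).presheaf.stalk ((Y ↘ Spec (CommRingCat.of A)) y)) ^ (k + 1))))
      (Y ↘ Spec (CommRingCat.of A))
      (Spec.map (CommRingCat.ofHom (Ideal.Quotient.mk
        (maximalIdeal ((Spec (CommRingCat.of A)).presheaf.stalk ((Y ↘ Spec (CommRingCat.of A)) y)) ^ (k + 1)))) ≫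
        (Spec (CommRingCat.of A)).fromSpecStalk ((Y ↘ Spec (CommRingCat.of A)) y)) →
    ∀ (ω' : Y'.Modules),
      RelCanon.IsDualizingSheaf ((Spec (CommRingCat.of A)).presheaf.stalk ((Y ↘ Spec (CommRingCat.of A)) y) ⧸
        maximalIdeal ((Spec (CommRingCat.of A)).presheaf.stalk ((Y ↘ Spec (CommRingCat.of A)) y)) ^ (k + 1)) Y' d ω' →
      ∀ y' : Y', p y' = y →
        P (Y' ↘ Spec (CommRingCat.of ((Spec (CommRingCat.of A)).presheaf.stalk ((Y ↘ Spec (CommRingCat.of A)) y) ⧸
          maximalIdeal ((Spec (CommRingCat.of A)).presheaf.stalk ((Y ↘ Spec (CommRingCat.of A)) y)) ^ (k + 1)))) ω' y'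

include hd hω hS hG in
theorem relSkAt_refPowZ_of_thickenings_aux (m : ℤ) (t : Spec (CommRingCat.of A))
    (w : (Y ↘ Spec (CommRingCat.of A)).fiber t)
    (H : OnThickenings A Y d (fun f' ω' y' => RelCanon.RelSkAt f' 2 (RelCanon.refPowZ ω' m) y') ((Y ↘ Spec (CommRingCat.of A)).fiberι t w))
    {ωt : ((Y ↘ Spec (CommRingCat.of A)).fiber t).Modules}
    (hωt : @RelCanon.IsDualizingSheaf ((Spec (CommRingCat.of A)).residueField t) _
      ((Y ↘ Spec (CommRingCat.of A)).fiber t) ⟨(Y ↘ Spec (CommRingCat.of A)).fiberToSpecResidueField t⟩ d ωt) :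
    FlatMod.IsFlatOverAt (Y ↘ Spec (CommRingCat.of A)) (RelCanon.refPowZ ω m)
        ((Y ↘ Spec (CommRingCat.of A)).fiberι t w) ∧
      Nonempty (((Scheme.Modules.pullback ((Y ↘ Spec (CommRingCat.of A)).fiberι t)).obj
          (RelCanon.refPowZ ω m)).presheaf.stalk w ≃ₗ[((Y ↘ Spec (CommRingCat.of A)).fiber t).presheaf.stalk w]
        (RelCanon.refPowZ ωt m).presheaf.stalk w) := by
  let f := Y ↘ Spec (CommRingCat.of A)
  letI : (f.fiber t).Over (Spec (CommRingCat.of ((Spec (CommRingCat.of A)).residueField t))) :=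
    ⟨f.fiberToSpecResidueField t⟩
  haveI : IsNoetherianRing (CommRingCat.of A) := ‹IsNoetherianRing A›
  haveI : IsLocallyNoetherian Y := LocallyOfFiniteType.isLocallyNoetherian f
  haveI : IsLocallyNoetherian (f.fiber t) :=
    haveI := UOpenLib.lft_fiberToSpec f t
    LocallyOfFiniteType.isLocallyNoetherian (f.fiberToSpecResidueField t)
  obtain ⟨φ, hφ⟩ := Spec.map_surjective ((Spec (CommRingCat.of A)).fromSpecResidueField t)
  have sqt : IsPullback (f.fiberι t) (f.fiber t ↘ Spec (CommRingCat.of ((Spec (CommRingCat.of A)).residueField t))) f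
      (Spec.map φ) := hφ.symm ▸ IsPullback.of_hasPullback f ((Spec (CommRingCat.of A)).fromSpecResidueField t)
  haveI : IsProper (f.fiber t ↘ Spec (CommRingCat.of ((Spec (CommRingCat.of A)).residueField t))) :=
    MorphismProperty.of_isPullback (P := @IsProper) sqt inferInstance
  let ι := f.fiberι t
  let G := QGorBCLib.gorOpen A Y
  have hGt := two_le_dim_fibre (A := A) (Y := Y) t fun z _ => hG z
  have hcω := QGorSecLib.isCoh_dualizing hd hω
  have hct := QGorSecLib.isCoh_dualizing (FibDimLib.hasRelDim_baseChange sqt hd) hωt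
  obtain ⟨T, hT, hTG, hTm, ⟨et⟩⟩ := exists_dual_presentation hd hω hS t hGt hωt m
  have hdepth : ∀ v : f.fiber t, ι v ∉ G → (2 : ℕ∞) ≤ LocCoh.depth ((f.fiber t).presheaf.stalk v)
      ((RefHull.dual ((Scheme.Modules.pullback ι).obj T)).presheaf.stalk v) := fun v hvG => by
    rw [CommAlgDim.depth_congr (stalkEquiv et v)]
    exact (LocSuppLib.depth_two_iff_bijective (ι ⁻¹ᵁ G) (QGorBCLib.isCoh_refPowZ hct m)).2
      (extends_refPowZ_fibre hS t hGt m) v hvG
  obtain ⟨hflat, ⟨es⟩⟩ := flat_dual_and_fibre_of_lifts f hT t w (by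
    intro k
    -- the thickening
    let R := (Spec (CommRingCat.of A)).presheaf.stalk (f (ι w))
    let Rk := R ⧸ maximalIdeal R ^ (k + 1)
    let g : Spec (CommRingCat.of Rk) ⟶ Spec (CommRingCat.of A) :=
      Spec.map (CommRingCat.ofHom (Ideal.Quotient.mk (maximalIdeal R ^ (k + 1)))) ≫
        (Spec (CommRingCat.of A)).fromSpecStalk (f (ι w))
    obtain ⟨gφ, hgφ⟩ := Spec.map_surjective g
    let Y' := Limits.pullback f g
    let p : Y' ⟶ Y := Limits.pullback.fst f g
    letI : Y'.Over (Spec (CommRingCat.of Rk)) := ⟨Limits.pullback.snd f g⟩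
    let f' := Y' ↘ Spec (CommRingCat.of Rk)
    have sq : IsPullback p f' f g := IsPullback.of_hasPullback f g
    haveI : IsNoetherianRing (CommRingCat.of Rk) := inferInstanceAs (IsNoetherianRing Rk)
    haveI : IsProper f' := MorphismProperty.of_isPullback (P := @IsProper) sq inferInstance
    haveI : IsLocallyNoetherian Y' := LocallyOfFiniteType.isLocallyNoetherian f'
    obtain ⟨ω', hω'⟩ := exists_dualizing (FibDimLib.hasRelDim_baseChange sq hd)
    have hcast : ∀ s' : Spec (CommRingCat.of A), s' = t →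
        ∃ c : Spec ((Spec (CommRingCat.of A)).residueField t) ⟶ Spec (CommRingCat.of
            ((Spec (CommRingCat.of A)).presheaf.stalk s' ⧸
              maximalIdeal ((Spec (CommRingCat.of A)).presheaf.stalk s') ^ (k + 1))),
          c ≫ Spec.map (CommRingCat.ofHom (Ideal.Quotient.mk
              (maximalIdeal ((Spec (CommRingCat.of A)).presheaf.stalk s') ^ (k + 1)))) ≫
            (Spec (CommRingCat.of A)).fromSpecStalk s' = (Spec (CommRingCat.of A)).fromSpecResidueField t := by
      rintro _ rfl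
      refine ⟨Spec.map (CommRingCat.ofHom (Ideal.Quotient.factor (Ideal.pow_le_self (Nat.succ_ne_zero k)))), ?_⟩
      rw [← Spec.map_comp_assoc, Scheme.fromSpecResidueField]
      rfl
    obtain ⟨c, hc⟩ := hcast (f (ι w)) ((f.range_fiberι t).le ⟨w, rfl⟩)
    have hc' : c ≫ g = (Spec (CommRingCat.of A)).fromSpecResidueField t := hc
    let q : f.fiber t ⟶ Y' := sq.lift ι (f.fiberToSpecResidueField t ≫ c) (by
      rw [Category.assoc, hc']; exact Limits.pullback.condition)
    have hqp : q ≫ p = ι := sq.lift_fst _ _ _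
    have hqw : p (q w) = ι w := by rw [← Scheme.Hom.comp_apply, hqp]
    have sqq : IsPullback q (f.fiber t ↘ Spec (CommRingCat.of ((Spec (CommRingCat.of A)).residueField t))) f' c := by
      refine IsPullback.of_right ?_ (sq.lift_snd _ _ _) sq
      rw [hqp, hc']
      exact hφ ▸ sqt
    haveI : IsPreimmersion (Spec.map (CommRingCat.ofHom (Ideal.Quotient.mk (maximalIdeal R ^ (k + 1))))) :=
      haveI := IsClosedImmersion.spec_of_surjective (CommRingCat.ofHom (Ideal.Quotient.mk (maximalIdeal R ^ (k + 1))))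
        Ideal.Quotient.mk_surjective
      inferInstance
    haveI : IsPreimmersion g := inferInstance
    haveI : IsPreimmersion p := MorphismProperty.of_isPullback (P := @IsPreimmersion) sq.flip inferInstance
    haveI : IsPreimmersion (q ≫ p) := by rw [hqp]; infer_instance
    haveI : IsPreimmersion q := IsPreimmersion.of_comp q p
    have h2 := H k Y' p sq ω' hω' (q w) hqw
    let G' := p ⁻¹ᵁ G
    have hT' := ConsLib.isCoh_pullback p hT
    let M := RefHull.dual ((Scheme.Modules.pullback p).obj T)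
    have hM : Coh.IsCoh M := RefHullLib.isCoh_dual hT'
    obtain ⟨eG⟩ := nonempty_dual_pullback_restrict p G hTG
    obtain ⟨eR⟩ := QGorBCLib.nonempty_refPowZ_restrict_iso hd hω hS hG (g := g) sq hω' m
    have hMext : QGorSecLib.Extends G' M :=
      QGorSecLib.extends_homSh _ (QGorBCLib.extends_structureModule_baseChange hS hG (g := g) sq)
    let eM : M ≅ RelCanon.refPowZ ω' m := QGorBCLib.isoOfExtends G' hMext
      (QGorBCLib.extends_refPowZ_baseChange hS hG (g := g) sq ω' m)
      (eG ≪≫ (eqToIso (by rw [hTm]) ≪≫ eR))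
    have hMinv : ∀ z ∈ G', RelCanon.InvertibleAt M z := fun z hz =>
      QGorBCLib.invertibleAt_of_isInvertible_restrict
        (HilbPolyLib.isInvertible_of_iso (QGorBCLib.restrictPullIso p G _ ≪≫ eG.symm)
          (AmpleDevLib.isInvertible_pb (p ∣_ G) (QGorBCLib.isInvertible_dual_restrict hTG))) z hz
    obtain ⟨eSk⟩ := nonempty_pullback_stalk_equiv (f'.fiberι (f' (q w))) (f'.asFiber (q w))
      (stalkEquiv eM.symm ((f'.fiberι (f' (q w))) (f'.asFiber (q w))))
    have hM2 : RelCanon.RelSkAt f' 2 M (q w) :=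
      ⟨isFlatOverAt_congr f' (stalkEquiv eM.symm (q w)) h2.1, DepthLib.hasSk_congr eSk 2 h2.2⟩
    have hfs : ∀ v : f.fiber t, f' (q v) = c (f.fiberToSpecResidueField t v) := fun v =>
      congrArg (fun φ : f.fiber t ⟶ Spec (CommRingCat.of Rk) => φ v) (sq.lift_snd _ _ _)
    have hfib : ∀ v : f.fiber t, f' (q v) = f' (q w) := fun v => (hfs v).trans
      ((congrArg c (Subsingleton.elim (α := PrimeSpectrum ((Spec (CommRingCat.of A)).residueField t)) _ _)).trans
        (hfs w).symm)
    have hpt : ∀ v : f.fiber t, v ⤳ w → v ∉ q ⁻¹ᵁ G' →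
        FlatMod.IsFlatOverAt f' M (q v) ∧ (2 : ℕ∞) ≤ CInt.fiberDepth f' M (q v) := fun v hv hvG =>
      flat_and_fiberDepth_of_relSkAt_of_open f' hM G' (fun x hx => QGorBCLib.two_le_dim_baseChange sq hG x hx) hMinv
        hM2 (hv.map q.continuous) (hfib v) hvG
    obtain ⟨eG'⟩ := nonempty_dual_pullback_restrict ι G hTG
    let eC : ((Scheme.Modules.pullback q).obj M).restrict (q ⁻¹ᵁ G').ι ≅
        (RefHull.dual ((Scheme.Modules.pullback ι).obj T)).restrict (q ⁻¹ᵁ G').ι :=
      (QGorBCLib.restrictPullIso q G' M).symm ≪≫ (Scheme.Modules.pullback (q ∣_ G')).mapIso eG ≪≫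
        QGorBCLib.restrictPullIso q G' _ ≪≫
        (Scheme.Modules.restrictFunctor (q ⁻¹ᵁ G').ι).mapIso ((Scheme.Modules.pullbackComp q p).app (RefHull.dual T) ≪≫
          (Scheme.Modules.pullbackCongr hqp).app (RefHull.dual T)) ≪≫
        (by
          have hpre : q ⁻¹ᵁ G' = ι ⁻¹ᵁ G := by rw [← hqp]; rfl
          rw [hpre]
          exact eG'.symm)
    obtain ⟨e⟩ := nonempty_pullback_stalk_equiv_of_fiberDepth sqq (q ⁻¹ᵁ G') hM
      (RefHullLib.isCoh_dual (ConsLib.isCoh_pullback ι hT))
      (by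
        have hpre : q ⁻¹ᵁ G' = ι ⁻¹ᵁ G := by rw [← hqp]; rfl
        rw [hpre]
        exact QGorSecLib.extends_homSh _ (extends_structureModule_fibre hS t hGt))
      eC (x' := w) hpt
    intro φ₀
    let B := Y.presheaf.stalk (ι w)
    let C := (f.fiber t).presheaf.stalk w
    letI : Algebra R B := (f.stalkMap (ι w)).hom.toAlgebra
    letI : Algebra B C := (ι.stalkMap w).hom.toAlgebra
    obtain ⟨-, hker⟩ := Groth.Agent.S9501.result f t w
    have hker' : RingHom.ker (algebraMap B C) = (maximalIdeal R).map (algebraMap R B) := hker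
    have hP0 : sub (B := B) (maximalIdeal R ^ (0 + 1)) B = RingHom.ker (algebraMap B C) := by
      rw [hker', sub, zero_add, pow_one, smul_eq_mul, Ideal.mul_top]
    let ε : Pq (B := B) R B 0 →ₗ[B] C :=
      Submodule.liftQ _ (Algebra.linearMap B C) fun b hb => hP0.le hb
    obtain ⟨ψ, hψ⟩ := exists_lift_thick f p q ι hqp w k f' sq hT
      (fun P hP hPle => by
        obtain ⟨v, h1, h2, h3⟩ := exists_generization f t w P hPle
        exact ⟨v, h1, hP, h2, h3⟩)
      (le_trans (Ideal.map_mono (Ideal.pow_le_self (Nat.succ_ne_zero k))) hker.ge)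
      (fun v hv => by
        by_cases hvG : ι v ∈ G
        · exact Or.inl (QGorBCLib.invertibleAt_of_isInvertible_restrict hTG _ hvG)
        · exact Or.inr (hdepth v hvG))
      e
      { toFun := fun x => ε (φ₀ x)
        map_add' := fun a b => by rw [map_add, map_add]
        map_smul' := fun b x => by rw [map_smul, map_smul, Algebra.smul_def]; rfl }
    let J : Ideal B := (maximalIdeal R ^ (k + 1)).map (f.stalkMap (ι w)).hom
    have hJ : J = sub (B := B) (maximalIdeal R ^ (k + 1)) B := by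
      rw [sub, smul_eq_mul, Ideal.mul_top]; rfl
    let eJ := Submodule.quotEquivOfEq J (sub (B := B) (maximalIdeal R ^ (k + 1)) B) hJ
    refine ⟨eJ.toLinearMap.comp ψ, fun x z hz => ?_⟩
    have h1 : ψ x = Ideal.Quotient.mk _ z := eJ.injective (hz.trans (Submodule.quotEquivOfEq_mk _ _ _ _).symm)
    obtain ⟨b, hb⟩ := Submodule.Quotient.mk_surjective _ (φ₀ x)
    have h2 : algebraMap B C b = algebraMap B C z := (congrArg ε hb).trans (hψ x z h1)
    rw [← hb]
    refine (Submodule.Quotient.eq _).2 (hP0.ge ?_)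
    rw [RingHom.mem_ker, map_sub, h2, sub_self])
  rw [hTm]
  exact ⟨hflat, ⟨es.trans (stalkEquiv et w)⟩⟩

include hd hω hS hG in
/-- Relative `S₂` of a reflexive power at a point is seen on the infinitesimal neighbourhoods of the fibre. -/
theorem relSkAt_refPowZ_of_thickenings (m : ℤ) (y : Y)
    (H : OnThickenings A Y d (fun f' ω' y' => RelCanon.RelSkAt f' 2 (RelCanon.refPowZ ω' m) y') y) :
    RelCanon.RelSkAt (Y ↘ Spec (CommRingCat.of A)) 2 (RelCanon.refPowZ ω m) y := by
  let f := Y ↘ Spec (CommRingCat.of A)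
  haveI : IsNoetherianRing (CommRingCat.of A) := ‹IsNoetherianRing A›
  haveI : IsLocallyNoetherian Y := LocallyOfFiniteType.isLocallyNoetherian f
  letI : (f.fiber (f y)).Over (Spec (CommRingCat.of ((Spec (CommRingCat.of A)).residueField (f y)))) :=
    ⟨f.fiberToSpecResidueField (f y)⟩
  obtain ⟨φ, hφ⟩ := Spec.map_surjective ((Spec (CommRingCat.of A)).fromSpecResidueField (f y))
  have sqt : IsPullback (f.fiberι (f y)) (f.fiber (f y) ↘ Spec (CommRingCat.of
      ((Spec (CommRingCat.of A)).residueField (f y)))) f (Spec.map φ) :=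
    hφ.symm ▸ IsPullback.of_hasPullback f ((Spec (CommRingCat.of A)).fromSpecResidueField (f y))
  haveI : IsProper (f.fiber (f y) ↘ Spec (CommRingCat.of ((Spec (CommRingCat.of A)).residueField (f y)))) :=
    MorphismProperty.of_isPullback (P := @IsProper) sqt inferInstance
  obtain ⟨ωt, hωt⟩ := exists_dualizing (FibDimLib.hasRelDim_baseChange sqt hd)
  have key : ∀ x, x = y → OnThickenings A Y d (fun f' ω' y' => RelCanon.RelSkAt f' 2 (RelCanon.refPowZ ω' m) y') x := by
    rintro x rfl; exact H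
  obtain ⟨hflat, ⟨e⟩⟩ := relSkAt_refPowZ_of_thickenings_aux hd hω hS hG m (f y) (f.asFiber y)
    (key _ (f.fiberι_asFiber y)) hωt
  rw [f.fiberι_asFiber] at hflat
  exact ⟨hflat, DepthLib.hasSk_congr e.symm 2
    (skAt_refPowZ_fibre hd hω hS (f y) (two_le_dim_fibre (f y) fun z _ => hG z) hωt m (f.asFiber y))⟩

end QGorLiftLib
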