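import Groth.Agent.QGorLiftLib.NhdMain
import Groth.Agent.S2090
import Groth.Agent.FlatDimLib.NonflatFibre

/-!
# Base change of reflexive powers at a point
-/

set_option autoImplicit false
set_option linter.style.haveILetI false
set_option linter.unusedSectionVars false
set_option backward.isDefEq.respectTransparency false
set_option backward.isDefEq.respectTransparency.types false
set_option maxHeartbeats 1000000
set_option synthInstance.maxHeartbeats 200000

noncomputable section

universe u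

open CategoryTheory CategoryTheory.Limits AlgebraicGeometry IsLocalRing
open Groth.Agent

attribute [local instance] HasDerivedCategory.standard

namespace QGorLiftLib

variable {X : Scheme.{u}} [IsLocallyNoetherian X]

/-- The depth of a localised stalk is the depth of the stalk at the generisation. -/
theorem depth_localized_stalk {M : X.Modules} (hM : Coh.IsCoh M) (z : X) (p : PrimeSpectrum (X.presheaf.stalk z)) :
    LocCoh.depth (Localization.AtPrime p.asIdeal) (LocalizedModule p.asIdeal.primeCompl (M.presheaf.stalk z)) =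
      LocCoh.depth (X.presheaf.stalk (EquidimLib.stalkPt z p)) (M.presheaf.stalk (EquidimLib.stalkPt z p)) := by
  haveI := hM.1
  have i : (Scheme.Modules.pullback (𝟙 X)).obj M ≅ M := (Scheme.Modules.pullbackId _).app M
  have h4 := (DepthLib.localized_stalk_invariants (𝟙 X) M hM.2 z p).2
  have h5 := depth_localized_congr p.asIdeal ((DerSch.stalkFunctor X z).mapIso i).toLinearEquiv
  have h6 := CommAlgDim.depth_congr ((DerSch.stalkFunctor X (EquidimLib.stalkPt z p)).mapIso i).toLinearEquiv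
  exact h5.symm.trans (h4.trans h6)

/-- Injectivity on a stalk spreads to annihilators at a specialization. -/
theorem exists_smul_eq_zero {M N : X.Modules} (hM : Coh.IsCoh M) [Coh.IsQCoh N] (φ : M ⟶ N) (z : X)
    (p : PrimeSpectrum (X.presheaf.stalk z))
    (h : Function.Injective (RefHull.stalkMapₗ φ (EquidimLib.stalkPt z p))) (m : M.presheaf.stalk z)
    (hm : RefHull.stalkMapₗ φ z m = 0) : ∃ g ∉ p.asIdeal, g • m = 0 := by
  haveI := hM.1
  obtain ⟨_, ⟨V, hV, rfl⟩, hzV, -⟩ :=
    X.isBasis_affineOpens.exists_subset_of_mem_open (Set.mem_univ z) isOpen_univ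
  let x := EquidimLib.stalkPt z p
  have hxV : x ∈ V := (EquidimLib.stalkPt_specializes z p).mem_open V.isOpen hzV
  letI : Algebra Γ(X, V) (X.presheaf.stalk z) := (X.presheaf.germ V z hzV).hom.toAlgebra
  letI := Module.compHom (N.presheaf.stalk z) (X.presheaf.germ V z hzV).hom
  letI := Module.compHom (N.presheaf.stalk x) (X.presheaf.germ V x hxV).hom
  letI := Module.compHom (M.presheaf.stalk x) (X.presheaf.germ V x hxV).hom
  letI := Module.compHom (M.presheaf.stalk z) (X.presheaf.germ V z hzV).hom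
  haveI : IsScalarTower Γ(X, V) (X.presheaf.stalk z) (M.presheaf.stalk z) :=
    IsScalarTower.of_algebraMap_smul fun _ _ => rfl
  let qz := (hV.primeIdealOf ⟨z, hzV⟩).asIdeal
  let qx := (hV.primeIdealOf ⟨x, hxV⟩).asIdeal
  haveI : IsLocalization.AtPrime (X.presheaf.stalk z) qz := hV.isLocalization_stalk ⟨z, hzV⟩
  haveI := FlatLib.isLocalizedModule_germLin M hV hzV
  haveI := FlatLib.isLocalizedModule_germLin M hV hxV
  haveI := FlatLib.isLocalizedModule_germLin N hV hzV
  haveI := FlatLib.isLocalizedModule_germLin N hV hxV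
  have hqx : qx = p.asIdeal.comap (algebraMap Γ(X, V) (X.presheaf.stalk z)) :=
    congrArg PrimeSpectrum.asIdeal (hV.fromSpec.isOpenEmbedding.injective
      ((hV.fromSpec_primeIdealOf ⟨x, hxV⟩).trans
        (congrArg (fun φ => φ.base p) (hV.fromSpecStalk_eq_fromSpecStalk hzV)).symm))
  have hle : ∀ w : qz.primeCompl, (w : Γ(X, V)) ∉ qx := fun w hmem => w.2 <| by
    have h2 : algebraMap Γ(X, V) (X.presheaf.stalk z) w ∈ p.asIdeal := hqx.le hmem
    exact absurd (IsLocalization.map_units (X.presheaf.stalk z) w) fun hu =>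
      p.isPrime.ne_top (Ideal.eq_top_of_isUnit_mem _ h2 hu)
  obtain ⟨⟨a, w⟩, hw⟩ := IsLocalizedModule.surj qz.primeCompl (FlatLib.germLin M hzV) m
  have h1 : FlatLib.germLin N hzV (φ.app V a) = 0 := by
    show N.presheaf.germ V z hzV (φ.app V a) = 0
    rw [← RefHull.stalkMapₗ_germ, show M.presheaf.germ V z hzV a = algebraMap Γ(X, V) (X.presheaf.stalk z) w • m from hw.symm,
      map_smul, hm, smul_zero]
  obtain ⟨c, hc⟩ := (IsLocalizedModule.eq_zero_iff qz.primeCompl (FlatLib.germLin N hzV)).1 h1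
  have h2 : FlatLib.germLin M hxV a = 0 := h (by
    rw [map_zero]
    show RefHull.stalkMapₗ φ x (M.presheaf.germ V x hxV a) = 0
    rw [RefHull.stalkMapₗ_germ]
    exact (IsLocalizedModule.eq_zero_iff qx.primeCompl (FlatLib.germLin N hxV)).2 ⟨⟨c, hle c⟩, hc⟩)
  obtain ⟨d, hd⟩ := (IsLocalizedModule.eq_zero_iff qx.primeCompl (FlatLib.germLin M hxV)).1 h2
  refine ⟨algebraMap Γ(X, V) (X.presheaf.stalk z) ((d : Γ(X, V)) * w), fun hmem => ?_, ?_⟩
  · exact (d * ⟨w, hle w⟩ : qx.primeCompl).2 (hqx.ge hmem)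
  · rw [map_mul, mul_smul, show algebraMap Γ(X, V) (X.presheaf.stalk z) w • m = FlatLib.germLin M hzV a from hw,
      algebraMap_smul, ← map_smul]
    exact (congrArg _ hd).trans (map_zero _)

theorem mk_eq_zero_iff {R : Type u} [CommRing R] {S : Submonoid R} {P : Type u} [AddCommGroup P] [Module R P] (x : P)
    (t : S) : LocalizedModule.mk x t = 0 ↔ ∃ c : S, c • x = 0 := by
  rw [IsLocalizedModule.mk_eq_mk', IsLocalizedModule.mk'_eq_zero']

/-- A prime at which the depth is positive is not associated. -/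
theorem notMem_associatedPrimes_of_depth {R : Type u} [CommRing R] [IsNoetherianRing R] {P : Type u} [AddCommGroup P]
    [Module R P] [Module.Finite R P] (p : Ideal R) [p.IsPrime]
    (h : (2 : ℕ∞) ≤ LocCoh.depth (Localization.AtPrime p) (LocalizedModule p.primeCompl P)) :
    p ∉ associatedPrimes R P := fun hP => by
  haveI : IsNoetherianRing (Localization.AtPrime p) := IsLocalization.isNoetherianRing p.primeCompl _ inferInstance
  unfold LocCoh.depth at h
  have hT1 := (DepthTwoLib.two_le_iff.1 h).1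
  obtain ⟨_, x, hx⟩ := isAssociatedPrime_iff.1 hP
  have h0 : LocalizedModule.mkLinearMap p.primeCompl P x = 0 := hT1 _ fun j hj => by
    rw [← Localization.AtPrime.map_eq_maximalIdeal] at hj
    induction hj using Submodule.span_induction with
    | mem y hy =>
      obtain ⟨r, hr, rfl⟩ := hy
      have hrx : r • x = 0 := by
        rw [hx] at hr
        rw [SetLike.mem_coe, Submodule.mem_colon_singleton, Submodule.mem_bot] at hr
        exact hr
      rw [algebraMap_smul, ← map_smul, hrx, map_zero]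
    | zero => exact zero_smul _ _
    | add a b _ _ ha hb => rw [add_smul, ha, hb, add_zero]
    | smul c a _ ha => rw [smul_eq_mul, mul_smul, ha, smul_zero]
  obtain ⟨s, hs⟩ := (IsLocalizedModule.eq_zero_iff p.primeCompl _).1 h0
  refine s.2 (hx.ge ?_)
  rw [Submodule.mem_colon_singleton, Submodule.mem_bot]
  exact hs

/-- Depth two along the generisations where it is not known to be bijective makes a map bijective on a stalk. -/
theorem bijective_stalk_of_generizations {M N : X.Modules} (hM : Coh.IsCoh M) (hN : Coh.IsCoh N) (φ : M ⟶ N) (z : X)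
    (h : ∀ v : X, v ⤳ z → Function.Bijective (RefHull.stalkMapₗ φ v) ∨
      ((2 : ℕ∞) ≤ LocCoh.depth (X.presheaf.stalk v) (M.presheaf.stalk v) ∧
        (2 : ℕ∞) ≤ LocCoh.depth (X.presheaf.stalk v) (N.presheaf.stalk v))) :
    Function.Bijective (RefHull.stalkMapₗ φ z) := by
  haveI := hM.1
  haveI := hN.1
  haveI : Module.Finite (X.presheaf.stalk z) (M.presheaf.stalk z) := ZClosLib.finite_stalk hM z
  haveI : Module.Finite (X.presheaf.stalk z) (N.presheaf.stalk z) := ZClosLib.finite_stalk hN z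
  refine Groth.Agent.S2090.result (RefHull.stalkMapₗ φ z) fun p hp => ?_
  rcases h _ (EquidimLib.stalkPt_specializes z ⟨p, hp⟩) with hb | ⟨h1, h2⟩
  · refine Or.inl ⟨(injective_iff_map_eq_zero _).2 fun x hx => ?_, fun x => ?_⟩
    · induction x using LocalizedModule.induction_on with | _ m s => ?_
      rw [LocalizedModule.map_mk, mk_eq_zero_iff] at hx
      obtain ⟨c, hc⟩ := hx
      obtain ⟨g, hg, hgm⟩ := exists_smul_eq_zero hM φ z ⟨p, hp⟩ hb.1 ((c : X.presheaf.stalk z) • m)
        ((map_smul _ _ _).trans hc)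
      exact (mk_eq_zero_iff _ _).2 ⟨⟨g, hg⟩ * c, (mul_smul g (c : X.presheaf.stalk z) m).trans hgm⟩
    · induction x using LocalizedModule.induction_on with | _ n s => ?_
      obtain ⟨g, hg, a, ha⟩ := exists_smul_mem_range hM φ z ⟨p, hp⟩ hb.2 n
      refine ⟨LocalizedModule.mk a (⟨g, hg⟩ * s), ?_⟩
      rw [LocalizedModule.map_mk, ha]
      exact LocalizedModule.mk_cancel_common_left ⟨g, hg⟩ s n
  · exact Or.inr ⟨(depth_localized_stalk hM z ⟨p, hp⟩).ge.trans' h1,
      notMem_associatedPrimes_of_depth p ((depth_localized_stalk hN z ⟨p, hp⟩).ge.trans' h2)⟩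

variable {A : Type u} [CommRing A] [IsNoetherianRing A] {Y : Scheme.{u}} [Y.Over (Spec (CommRingCat.of A))]
  [IsProper (Y ↘ Spec (CommRingCat.of A))] [Flat (Y ↘ Spec (CommRingCat.of A))] {d : ℕ}
  (hd : Cyc.HasRelDim (Y ↘ Spec (CommRingCat.of A)) d) {ω : Y.Modules}
  (hω : RelCanon.IsDualizingSheaf A Y d ω)
  (hS : RelCanon.IsSkMor (Y ↘ Spec (CommRingCat.of A)) 2)
  (hG : ∀ y : Y, y ∉ RelCanon.gorLocus (Y ↘ Spec (CommRingCat.of A)) → (2 : WithBot ℕ∞) ≤
    ringKrullDim (((Y ↘ Spec (CommRingCat.of A)).fiber ((Y ↘ Spec (CommRingCat.of A)) y)).presheaf.stalk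
      ((Y ↘ Spec (CommRingCat.of A)).asFiber y)))

include hd hω hG in
/-- Relative `S₂` passes to the generisations in the fibre, and gives depth two outside the Gorenstein locus. -/
theorem flat_and_fiberDepth_of_relSkAt (m : ℤ) {y z : Y}
    (hy : RelCanon.RelSkAt (Y ↘ Spec (CommRingCat.of A)) 2 (RelCanon.refPowZ ω m) y) (hzy : z ⤳ y)
    (hf : (Y ↘ Spec (CommRingCat.of A)) z = (Y ↘ Spec (CommRingCat.of A)) y)
    (hzG : z ∉ QGorBCLib.gorOpen A Y) :
    FlatMod.IsFlatOverAt (Y ↘ Spec (CommRingCat.of A)) (RelCanon.refPowZ ω m) z ∧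
      (2 : ℕ∞) ≤ CInt.fiberDepth (Y ↘ Spec (CommRingCat.of A)) (RelCanon.refPowZ ω m) z := by
  let f := Y ↘ Spec (CommRingCat.of A)
  haveI : IsNoetherianRing (CommRingCat.of A) := ‹IsNoetherianRing A›
  haveI : IsLocallyNoetherian Y := LocallyOfFiniteType.isLocallyNoetherian f
  let L := RelCanon.refPowZ ω m
  have hc : Coh.IsCoh L := QGorBCLib.isCoh_refPowZ (QGorSecLib.isCoh_dualizing hd hω) m
  haveI := hc.1
  have key : ∀ (s : Spec (CommRingCat.of A)) (w : f.fiber s) (x : Y), f.fiberι s w = x →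
      (RelCanon.SkAt 2 ((Scheme.Modules.pullback (f.fiberι s)).obj L) w ↔
        RelCanon.SkAt 2 ((Scheme.Modules.pullback (f.fiberι (f x))).obj L) (f.asFiber x)) := by
    rintro s w x rfl
    have hs : f (f.fiberι s w) = s := (f.range_fiberι s).le ⟨w, rfl⟩
    generalize hz : f.fiberι s w = x at hs ⊢
    subst hs
    obtain rfl : f.asFiber x = w :=
      (f.fiberι _).isEmbedding.injective ((f.fiberι_asFiber x).trans hz.symm)
    exact Iff.rfl
  haveI : IsLocallyNoetherian (f.fiber (f y)) :=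
    haveI := UOpenLib.lft_fiberToSpec f (f y)
    LocallyOfFiniteType.isLocallyNoetherian (f.fiberToSpecResidueField (f y))
  obtain ⟨w, hw⟩ : z ∈ Set.range (f.fiberι (f y)) := by rw [f.range_fiberι]; exact hf
  have hwy : w ⤳ f.asFiber y := (f.fiberι _).isEmbedding.isInducing.specializes_iff.1 (by
    rw [hw, f.fiberι_asFiber]; exact hzy)
  have h2 : RelCanon.SkAt 2 ((Scheme.Modules.pullback (f.fiberι (f y))).obj L) w :=
    (DepthLib.hasSk_pullback_stalk_iff (f.fiberι (f y)) L hc.2 w 2).2 fun v hv =>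
      (DepthLib.hasSk_pullback_stalk_iff (f.fiberι (f y)) L hc.2 (f.asFiber y) 2).1 hy.2 v (hv.trans hwy)
  exact ⟨FlatDimLib.isFlatOverAt_of_specializes f L hzy hy.1,
    QGorBCLib.two_le_fiberDepth f hc (QGorBCLib.support_refPowZ hd hω hG m) z ((key _ w z hw).1 h2) (hG z hzG)⟩

variable {B : Type u} [CommRing B] [IsNoetherianRing B] {Y' : Scheme.{u}} [Y'.Over (Spec (CommRingCat.of B))]
  {g : Spec (CommRingCat.of B) ⟶ Spec (CommRingCat.of A)} {p : Y' ⟶ Y}
  (sq : IsPullback p (Y' ↘ Spec (CommRingCat.of B)) (Y ↘ Spec (CommRingCat.of A)) g)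
  {ω' : Y'.Modules} (hω' : RelCanon.IsDualizingSheaf B Y' d ω')

/-- Isomorphic stalks have isomorphic pullbacks. -/
theorem nonempty_pullback_stalk_equiv {P Z : Scheme.{u}} (q : P ⟶ Z) {M N : Z.Modules} (w : P)
    (e : M.presheaf.stalk (q w) ≃ₗ[Z.presheaf.stalk (q w)] N.presheaf.stalk (q w)) :
    Nonempty (((Scheme.Modules.pullback q).obj M).presheaf.stalk w ≃ₗ[P.presheaf.stalk w]
      ((Scheme.Modules.pullback q).obj N).presheaf.stalk w) := by
  letI : Algebra (Z.presheaf.stalk (q w)) (P.presheaf.stalk w) := (q.stalkMap w).hom.toAlgebra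
  exact ⟨(((KFlatLib.stalkPullIso q w).symm.app M).toLinearEquiv).symm.trans
    ((LinearEquiv.baseChange (Z.presheaf.stalk (q w)) (P.presheaf.stalk w) _ _ e).trans
      ((KFlatLib.stalkPullIso q w).symm.app N).toLinearEquiv)⟩

/-- Isomorphic stalks are flat together. -/
theorem isFlatOverAt_congr {P S : Scheme.{u}} (f : P ⟶ S) {M N : P.Modules} {x : P}
    (e : M.presheaf.stalk x ≃ₗ[P.presheaf.stalk x] N.presheaf.stalk x) (h : FlatMod.IsFlatOverAt f M x) :
    FlatMod.IsFlatOverAt f N x := by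
  letI := FlatMod.moduleStalkOver f M x
  letI := FlatMod.moduleStalkOver f N x
  haveI : Module.Flat (S.presheaf.stalk (f x)) (M.presheaf.stalk x) := h
  exact Module.Flat.of_linearEquiv (R := S.presheaf.stalk (f x))
    ({ e.symm with map_smul' := fun r v => e.symm.map_smul ((f.stalkMap x).hom r) v } :
      N.presheaf.stalk x ≃ₗ[S.presheaf.stalk (f x)] M.presheaf.stalk x)

include hd hω hS hG sq hω' in
/-- Where a reflexive power is flat with fibres of depth two, it commutes with base change. -/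
theorem nonempty_stalk_equiv_of_fiberDepth (m : ℤ) {x' : Y'}
    (h : ∀ v : Y', v ⤳ x' → p v ∉ QGorBCLib.gorOpen A Y →
      FlatMod.IsFlatOverAt (Y ↘ Spec (CommRingCat.of A)) (RelCanon.refPowZ ω m) (p v) ∧
        (2 : ℕ∞) ≤ CInt.fiberDepth (Y ↘ Spec (CommRingCat.of A)) (RelCanon.refPowZ ω m) (p v)) :
    Nonempty (((Scheme.Modules.pullback p).obj (RelCanon.refPowZ ω m)).presheaf.stalk x' ≃ₗ[Y'.presheaf.stalk x']
      (RelCanon.refPowZ ω' m).presheaf.stalk x') := by
  let f := Y ↘ Spec (CommRingCat.of A)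
  let f' := Y' ↘ Spec (CommRingCat.of B)
  haveI : IsNoetherianRing (CommRingCat.of A) := ‹IsNoetherianRing A›
  haveI : IsNoetherianRing (CommRingCat.of B) := ‹IsNoetherianRing B›
  haveI : IsProper f' := MorphismProperty.of_isPullback (P := @IsProper) sq inferInstance
  haveI : IsLocallyNoetherian Y := LocallyOfFiniteType.isLocallyNoetherian f
  haveI : IsLocallyNoetherian Y' := LocallyOfFiniteType.isLocallyNoetherian f'
  let L := RelCanon.refPowZ ω m
  let G' := p ⁻¹ᵁ QGorBCLib.gorOpen A Y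
  have hc : Coh.IsCoh L := QGorBCLib.isCoh_refPowZ (QGorSecLib.isCoh_dualizing hd hω) m
  have hc' : Coh.IsCoh (RelCanon.refPowZ ω' m) :=
    QGorBCLib.isCoh_refPowZ (QGorSecLib.isCoh_dualizing (FibDimLib.hasRelDim_baseChange sq hd) hω') m
  haveI := hc'.1
  haveI := hc.1
  obtain ⟨e⟩ := QGorBCLib.nonempty_refPowZ_restrict_iso hd hω hS hG sq hω' m
  have hN := QGorBCLib.extends_refPowZ_baseChange hS hG sq ω' m
  obtain ⟨φ, hφ⟩ := QGorIdxLib.exists_hom_bijective_stalk G' (ConsLib.isCoh_pullback p hc) hN e G'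
    fun x hx hx' => absurd hx hx'
  refine ⟨LinearEquiv.ofBijective _ (bijective_stalk_of_generizations (ConsLib.isCoh_pullback p hc) hc' φ x' fun v hv => ?_)⟩
  by_cases hvG : v ∈ G'
  · exact Or.inl (hφ v hvG)
  · obtain ⟨hfl, hdep⟩ := h v hv hvG
    exact Or.inr ⟨QGorBCLib.two_le_depth_stalk f' _ (ConsLib.isCoh_pullback p hc) v
      (FlatDimLib.isFlatOverAt_baseChange sq L v hfl) (hdep.trans (QGorBCLib.fiberDepth_le_baseChange sq hc v)),
      (LocSuppLib.depth_two_iff_bijective G' hc').2 hN v hvG⟩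

include hd hω hS hG sq hω' in
/-- Relative `S₂` at a point passes to a base change supported in the fibre. -/
theorem relSkAt_refPowZ_baseChange (m : ℤ) {x' : Y'}
    (hfib : ∀ v : Y', v ⤳ x' → (Y ↘ Spec (CommRingCat.of A)) (p v) = (Y ↘ Spec (CommRingCat.of A)) (p x'))
    (hy : RelCanon.RelSkAt (Y ↘ Spec (CommRingCat.of A)) 2 (RelCanon.refPowZ ω m) (p x')) :
    RelCanon.RelSkAt (Y' ↘ Spec (CommRingCat.of B)) 2 (RelCanon.refPowZ ω' m) x' := by
  let f := Y ↘ Spec (CommRingCat.of A)
  let f' := Y' ↘ Spec (CommRingCat.of B)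
  haveI : IsNoetherianRing (CommRingCat.of A) := ‹IsNoetherianRing A›
  haveI : IsNoetherianRing (CommRingCat.of B) := ‹IsNoetherianRing B›
  haveI : IsProper f' := MorphismProperty.of_isPullback (P := @IsProper) sq inferInstance
  haveI : IsLocallyNoetherian Y := LocallyOfFiniteType.isLocallyNoetherian f
  haveI : IsLocallyNoetherian Y' := LocallyOfFiniteType.isLocallyNoetherian f'
  let L := RelCanon.refPowZ ω m
  have hcω := QGorSecLib.isCoh_dualizing hd hω
  have hc : Coh.IsCoh L := QGorBCLib.isCoh_refPowZ hcω m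
  have hc' : Coh.IsCoh (RelCanon.refPowZ ω' m) :=
    QGorBCLib.isCoh_refPowZ (QGorSecLib.isCoh_dualizing (FibDimLib.hasRelDim_baseChange sq hd) hω') m
  haveI := hc.1
  haveI := hc'.1
  have hpt : ∀ v : Y', v ⤳ x' → p v ∉ QGorBCLib.gorOpen A Y →
      FlatMod.IsFlatOverAt f L (p v) ∧ (2 : ℕ∞) ≤ CInt.fiberDepth f L (p v) := fun v hv hvG =>
    flat_and_fiberDepth_of_relSkAt hd hω hG m hy (hv.map p.continuous) (hfib v hv) hvG
  have hiso : ∀ v : Y', v ⤳ x' → Nonempty (((Scheme.Modules.pullback p).obj L).presheaf.stalk v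
      ≃ₗ[Y'.presheaf.stalk v] (RelCanon.refPowZ ω' m).presheaf.stalk v) := fun v hv =>
    nonempty_stalk_equiv_of_fiberDepth hd hω hS hG sq hω' m fun u hu => hpt u (hu.trans hv)
  obtain ⟨e⟩ := hiso x' specializes_rfl
  refine ⟨isFlatOverAt_congr f' e (FlatDimLib.isFlatOverAt_baseChange sq L x' hy.1), ?_⟩
  haveI : IsLocallyNoetherian (f'.fiber (f' x')) :=
    haveI := UOpenLib.lft_fiberToSpec f' (f' x')
    LocallyOfFiniteType.isLocallyNoetherian (f'.fiberToSpecResidueField (f' x'))
  refine (DepthLib.hasSk_pullback_stalk_iff (f'.fiberι (f' x')) _ hc'.2 (f'.asFiber x') 2).2 ?_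
  refine (DepthLib.forall_specializes_fiber_iff f' (fun s w => min ((2 : ℕ) : WithBot ℕ∞)
    (Module.supportDim ((f'.fiber s).presheaf.stalk w)
      (((Scheme.Modules.pullback (f'.fiberι s)).obj (RelCanon.refPowZ ω' m)).presheaf.stalk w)) ≤
    ((LocCoh.depth ((f'.fiber s).presheaf.stalk w)
      (((Scheme.Modules.pullback (f'.fiberι s)).obj (RelCanon.refPowZ ω' m)).presheaf.stalk w) : ℕ∞) :
        WithBot ℕ∞)) x').2 fun z _ hz => ?_
  by_cases hzG : p z ∈ QGorBCLib.gorOpen A Y
  · obtain ⟨a⟩ := QGorBCLib.nonempty_refPowZ_restrict_iso hd hω hS hG sq hω' m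
    have hinv : RelCanon.InvertibleAt (RelCanon.refPowZ ω' m) z :=
      QGorBCLib.invertibleAt_of_isInvertible_restrict (U := p ⁻¹ᵁ QGorBCLib.gorOpen A Y)
        (HilbPolyLib.isInvertible_of_iso (QGorBCLib.restrictPullIso p _ _ ≪≫ a)
          (AmpleDevLib.isInvertible_pb (p ∣_ QGorBCLib.gorOpen A Y)
            (QGorBCLib.isInvertible_refPowZ_restrict hcω (QGorBCLib.isInvertible_gorOpen hd hω) m))) z hzG
    obtain ⟨e₀⟩ := QGorBCLib.nonempty_stalk_equiv (QGorBCLib.invertibleAt_pullback (f'.fiberι (f' z))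
      (x' := f'.asFiber z) (by rw [f'.fiberι_asFiber]; exact hinv))
    have hcm := ((CMFlatLib.isCMAt_baseChange f g f' p sq z (Or.inr inferInstance)).1
      ⟨hzG.1, CMFlatLib.cm_of_gorenstein hzG.2⟩).2
    rw [Module.supportDim_eq_of_equiv e₀, CommAlgDim.depth_congr e₀, hcm.supportDim_eq_depth]
    exact min_le_right _ _
  · refine (min_le_left _ _).trans (WithBot.coe_le_coe.2 ?_)
    have h : (2 : ℕ∞) ≤ CInt.fiberDepth f' ((Scheme.Modules.pullback p).obj L) z :=
      (hpt z hz hzG).2.trans (QGorBCLib.fiberDepth_le_baseChange sq hc z)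
    obtain ⟨ez⟩ := hiso z hz
    have key : ∀ (s : Spec (CommRingCat.of B)) (w : f'.fiber s), f'.fiberι s w = z →
        LocCoh.depth ((f'.fiber s).presheaf.stalk w)
        (((Scheme.Modules.pullback (f'.fiberι s)).obj ((Scheme.Modules.pullback p).obj L)).presheaf.stalk w) =
        LocCoh.depth ((f'.fiber s).presheaf.stalk w)
          (((Scheme.Modules.pullback (f'.fiberι s)).obj (RelCanon.refPowZ ω' m)).presheaf.stalk w) := by
      intro s w hw
      subst hw
      obtain ⟨a⟩ := nonempty_pullback_stalk_equiv (f'.fiberι _) w ez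
      exact CommAlgDim.depth_congr a
    exact h.trans (key _ (f'.asFiber z) (f'.fiberι_asFiber z)).le

end QGorLiftLib
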