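import Groth.Agent.QGorLiftLib.Obstruction
import Groth.Agent.QGorLiftLib.LocalBC
import Groth.Agent.S2090
import Groth.Agent.S6876

/-!
# Local algebra of deformations of a canonical module
-/

set_option autoImplicit false

universe u

open IsLocalRing CommAlgDim
open scoped TensorProduct Pointwise

namespace QGorLiftLib

section
variable {R : Type u} [CommRing R] {M N : Type u} [AddCommGroup M] [Module R M] [AddCommGroup N] [Module R N]

/-- Two maps inverse to each other up to a scalar outside the prime. -/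
def IsoModAt (p : Ideal R) (M N : Type u) [AddCommGroup M] [Module R M] [AddCommGroup N] [Module R N] : Prop :=
  ∃ g ∉ p, ∃ (φ : M →ₗ[R] N) (ψ : N →ₗ[R] M), ψ.comp φ = g • LinearMap.id ∧ φ.comp ψ = g • LinearMap.id

/-- The map is bijective up to scalars outside the prime. -/
def BijAt (p : Ideal R) (φ : M →ₗ[R] N) : Prop :=
  (∀ x, φ x = 0 → ∃ g ∉ p, g • x = 0) ∧ ∀ y, ∃ g ∉ p, g • y ∈ LinearMap.range φ

/-- A two-sided inverse up to a scalar makes a map bijective at the prime. -/
theorem bijAt_of_inverse (p : Ideal R) {g : R} (hg : g ∉ p) (φ : M →ₗ[R] N) (ψ : N →ₗ[R] M)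
    (h₁ : ψ.comp φ = g • LinearMap.id) (h₂ : φ.comp ψ = g • LinearMap.id) : BijAt p φ :=
  ⟨fun x hx => ⟨g, hg, (LinearMap.congr_fun h₁ x).symm.trans ((congrArg ψ hx).trans (map_zero ψ))⟩,
    fun y => ⟨g, hg, ψ y, LinearMap.congr_fun h₂ y⟩⟩

theorem map_bijective_of_bijAt (p : Ideal R) [p.IsPrime] {φ : M →ₗ[R] N} (h : BijAt p φ) :
    Function.Bijective (LocalizedModule.map p.primeCompl φ) := by
  refine ⟨(injective_iff_map_eq_zero _).2 fun x hx => ?_, fun x => ?_⟩
  · induction x using LocalizedModule.induction_on with | _ m s => ?_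
    rw [LocalizedModule.map_mk, IsLocalizedModule.mk_eq_mk', IsLocalizedModule.mk'_eq_zero'] at hx
    obtain ⟨c, hc⟩ := hx
    obtain ⟨g, hg, hgm⟩ := h.1 ((c : R) • m) ((map_smul φ _ _).trans hc)
    rw [IsLocalizedModule.mk_eq_mk', IsLocalizedModule.mk'_eq_zero']
    exact ⟨⟨g, hg⟩ * c, (mul_smul g (c : R) m).trans hgm⟩
  · induction x using LocalizedModule.induction_on with | _ m s => ?_
    obtain ⟨g, hg, m', hm'⟩ := h.2 m
    refine ⟨LocalizedModule.mk m' (⟨g, hg⟩ * s), ?_⟩
    rw [LocalizedModule.map_mk, hm']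
    exact LocalizedModule.mk_eq.2 ⟨1, by simp only [one_smul, Submonoid.smul_def, Submonoid.coe_mul, smul_smul]; ring_nf⟩

/-- Bijectivity from the primes: either bijective there, or depth two on both sides. -/
theorem bijective_of_local [IsNoetherianRing R] [Module.Finite R M] [Module.Finite R N] (φ : M →ₗ[R] N)
    (h : ∀ (p : Ideal R) [p.IsPrime], BijAt p φ ∨
      ((2 : ℕ∞) ≤ LocCoh.depth (Localization.AtPrime p) (LocalizedModule p.primeCompl M) ∧
        (2 : ℕ∞) ≤ LocCoh.depth (Localization.AtPrime p) (LocalizedModule p.primeCompl N))) :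
    Function.Bijective φ := by
  refine Groth.Agent.S2090.result φ fun p hp => ?_
  rcases h p with hb | ⟨hM, hN⟩
  · exact Or.inl (map_bijective_of_bijAt p hb)
  · exact Or.inr ⟨hM, notMem_associatedPrimes_of_depth p hN⟩

end

section
variable {R : Type u} [CommRing R] {M N M' N' : Type u} [AddCommGroup M] [Module R M] [AddCommGroup N] [Module R N]
  [AddCommGroup M'] [Module R M'] [AddCommGroup N'] [Module R N'] (p : Ideal R) [p.IsPrime]
  (gM : M →ₗ[R] M') (gN : N →ₗ[R] N') [IsLocalizedModule p.primeCompl gM] [IsLocalizedModule p.primeCompl gN]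

include gM gN in
theorem isoModAt_of_equiv [IsNoetherianRing R] [Module.Finite R M] [Module.Finite R N] (e : M' ≃ₗ[R] N') :
    IsoModAt p M N := by
  haveI : Module.FinitePresentation R M := Module.finitePresentation_of_finite R M
  haveI : Module.FinitePresentation R N := Module.finitePresentation_of_finite R N
  let S := p.primeCompl
  obtain ⟨φ, s, hφ⟩ := Module.FinitePresentation.exists_lift_of_isLocalizedModule S gN (e.toLinearMap.comp gM)
  obtain ⟨ψ, t, hψ⟩ := Module.FinitePresentation.exists_lift_of_isLocalizedModule S gM (e.symm.toLinearMap.comp gN)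
  have hφ' : ∀ x, gN (φ x) = (s : R) • e (gM x) := fun x => LinearMap.congr_fun hφ x
  have hψ' : ∀ x, gM (ψ x) = (t : R) • e.symm (gN x) := fun x => LinearMap.congr_fun hψ x
  obtain ⟨a, ha⟩ := Module.Finite.exists_smul_of_comp_eq_of_isLocalizedModule S gM (ψ.comp φ)
    (((t : R) * s) • LinearMap.id) (LinearMap.ext fun x => by
      simp only [LinearMap.comp_apply, LinearMap.smul_apply, LinearMap.id_apply, hψ', hφ', map_smul, smul_smul,
        e.symm_apply_apply])
  obtain ⟨b, hb⟩ := Module.Finite.exists_smul_of_comp_eq_of_isLocalizedModule S gN (φ.comp ψ)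
    (((t : R) * s) • LinearMap.id) (LinearMap.ext fun x => by
      simp only [LinearMap.comp_apply, LinearMap.smul_apply, LinearMap.id_apply, hψ', hφ', map_smul, smul_smul,
        e.apply_symm_apply, mul_comm (s : R)])
  refine ⟨((a * b : S) : R) * ((t : R) * s), (a * b * (t * s) : S).2, ((a * b : S) : R) • φ, ψ,
    LinearMap.ext fun x => ?_, LinearMap.ext fun x => ?_⟩
  · have h1 : (a : R) • ψ (φ x) = (a : R) • ((t : R) * s) • x := LinearMap.congr_fun ha x
    simp only [LinearMap.comp_apply, LinearMap.smul_apply, LinearMap.id_apply, map_smul, Submonoid.coe_mul,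
      mul_comm (a : R) (b : R), mul_smul, h1]
  · have h1 : (b : R) • φ (ψ x) = (b : R) • ((t : R) * s) • x := LinearMap.congr_fun hb x
    simp only [LinearMap.comp_apply, LinearMap.smul_apply, LinearMap.id_apply, Submonoid.coe_mul, mul_smul, h1]

include gM gN in
theorem nonempty_equiv_of_isoModAt (h : IsoModAt p M N) : Nonempty (M' ≃ₗ[R] N') := by
  obtain ⟨g, hg, φ, ψ, h₁, h₂⟩ := h
  let S := p.primeCompl
  let f := IsLocalizedModule.map S gM gN φ
  let f' := IsLocalizedModule.map S gN gM ψ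
  have hu : ∀ z : M', f' (f z) = g • z := fun z => by
    obtain ⟨⟨m, c⟩, rfl⟩ := IsLocalizedModule.mk'_surjective S gM z
    simp only [Function.uncurry_apply_pair, f, f', IsLocalizedModule.map_mk',
      show ψ (φ m) = g • m from LinearMap.congr_fun h₁ m, IsLocalizedModule.mk'_smul]
  have hu' : ∀ z : N', f (f' z) = g • z := fun z => by
    obtain ⟨⟨m, c⟩, rfl⟩ := IsLocalizedModule.mk'_surjective S gN z
    simp only [Function.uncurry_apply_pair, f, f', IsLocalizedModule.map_mk',
      show φ (ψ m) = g • m from LinearMap.congr_fun h₂ m, IsLocalizedModule.mk'_smul]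
  have hM := (Module.End.isUnit_iff _).1 (IsLocalizedModule.map_units gM (⟨g, hg⟩ : S))
  have hN := (Module.End.isUnit_iff _).1 (IsLocalizedModule.map_units gN (⟨g, hg⟩ : S))
  refine ⟨LinearEquiv.ofBijective f ⟨fun z z' hz => hM.1 ?_, fun z => ?_⟩⟩
  · show g • z = g • z'
    rw [← hu, ← hu, hz]
  · obtain ⟨w, hw⟩ := hN.2 z
    exact ⟨f' w, (hu' w).trans hw⟩

end

section
variable {A : Type u} [CommRing A] [IsLocalRing A] [IsNoetherianRing A]
  {B : Type u} [CommRing B] [IsNoetherianRing B] [IsLocalRing B] [Algebra A B] [IsLocalHom (algebraMap A B)]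

/-- Relations with coefficients in a minimal generating family of an ideal become trivial modulo the maximal
ideal at the prime. -/
def RelAt (A : Type u) [CommRing A] [IsLocalRing A] [Algebra A B] (p : Ideal B) (K : Type u) [AddCommGroup K]
    [Module B K] : Prop :=
  ∀ (r : ℕ) (g : Fin r → A), (∀ a : Fin r → A, ∑ i, a i * g i = 0 → ∀ i, a i ∈ maximalIdeal A) →
    ∀ k : Fin r → K, ∑ i, algebraMap A B (g i) • k i = 0 → ∃ f ∉ p, ∀ i, f • k i ∈ sub (B := B) (maximalIdeal A) K

variable {p : Ideal B} [hp : p.IsPrime]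

/-- Generators are eventually killed: the kernel of a map onto a module without such relations meets the
multiples of the maximal ideal trivially at the prime. -/
theorem exists_smul_eq_zero_of_rel {E Q : Type u} [AddCommGroup E] [Module B E] [Module.Finite B E]
    [AddCommGroup Q] [Module B Q] (π : E →ₗ[B] Q) (hπ : Function.Surjective π)
    (hrel : RelAt A p Q) (hIp : (maximalIdeal A).map (algebraMap A B) ≤ p)
    (hker : ∀ z, π z = 0 → ∀ a ∈ maximalIdeal A, algebraMap A B a • z = 0)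
    (z : E) (hz : π z = 0) (hzI : z ∈ sub (B := B) (maximalIdeal A) E) : ∃ f ∉ p, f • z = 0 := by
  let I := (maximalIdeal A).map (algebraMap A B)
  have step : ∀ n, ∃ f ∉ p, f • z ∈ sub (B := B) (maximalIdeal A ^ (n + 1)) E := by
    intro n
    induction n with
    | zero => exact ⟨1, hp.one_notMem, by rw [one_smul, zero_add, pow_one]; exact hzI⟩
    | succ n ih =>
      obtain ⟨f, hf, hfz⟩ := ih
      obtain ⟨r, g, hg, hmin⟩ := exists_min_gens (maximalIdeal A ^ (n + 1))
      have hdec : ∀ (X : Type u) [AddCommGroup X] [Module B X] (x : X),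
          x ∈ sub (B := B) (maximalIdeal A ^ (n + 1)) X → ∃ y : Fin r → X, x = ∑ i, algebraMap A B (g i) • y i := by
        intro X _ _ x hx
        refine Submodule.smul_induction_on (p := fun w => ∃ y : Fin r → X, w = ∑ i, algebraMap A B (g i) • y i) hx
          (fun c hc w _ => ?_) ?_
        · rw [← hg, Ideal.map_span, ← Set.range_comp] at hc
          obtain ⟨d, rfl⟩ := (Submodule.mem_span_range_iff_exists_fun B).1 hc
          exact ⟨fun i => d i • w, by
            rw [Finset.sum_smul]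
            exact Finset.sum_congr rfl fun i _ => by rw [Function.comp_apply, smul_assoc, smul_comm]⟩
        · rintro _ _ ⟨y, rfl⟩ ⟨y', rfl⟩
          exact ⟨y + y', by simp [Finset.sum_add_distrib]⟩
      obtain ⟨y, hy⟩ := hdec E (f • z) hfz
      obtain ⟨f', hf', hf'y⟩ := hrel r g (fun a h => hmin a (by rw [h]; exact zero_mem _)) (fun i => π (y i)) (by
        simp only [← map_smul π, ← map_sum]
        rw [← hy, map_smul, hz, smul_zero])
      have hlift : ∀ i, ∃ e ∈ sub (B := B) (maximalIdeal A) E, π e = f' • π (y i) := fun i => by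
        have h1 := hf'y i
        rw [sub, ← LinearMap.range_eq_top.2 hπ, LinearMap.range_eq_map, ← Submodule.map_smul''] at h1
        exact h1
      choose e he hπe using hlift
      have hsum : f' • f • z = ∑ i, algebraMap A B (g i) • e i := by
        rw [hy, Finset.smul_sum]
        refine Finset.sum_congr rfl fun i _ => sub_eq_zero.1 ?_
        rw [smul_comm f', ← smul_sub]
        refine hker _ (by rw [map_sub, map_smul, hπe, sub_self]) _ ?_
        exact (Ideal.pow_le_self (Nat.succ_ne_zero n)) (hg ▸ Ideal.subset_span ⟨i, rfl⟩)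
      refine ⟨f' * f, fun h => (hp.mem_or_mem h).elim hf' hf, ?_⟩
      rw [mul_smul, hsum, sub, pow_succ, Ideal.map_mul, ← smul_eq_mul, Submodule.smul_assoc]
      exact Submodule.sum_mem _ fun i _ =>
        Submodule.smul_mem_smul (Ideal.mem_map_of_mem _ (hg ▸ Ideal.subset_span ⟨i, rfl⟩)) (he i)
  let S := p.primeCompl
  let gE := LocalizedModule.mkLinearMap S E
  let Bp := Localization.AtPrime p
  haveI : IsNoetherianRing Bp := IsLocalization.isNoetherianRing S _ inferInstance
  haveI : Module.Finite Bp (LocalizedModule S E) := Module.Finite.of_isLocalizedModule S gE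
  let J := I.map (algebraMap B Bp)
  have hJ : J ≠ ⊤ := fun h => (maximalIdeal.isMaximal Bp).ne_top (top_le_iff.1 (h.ge.trans (by
    rw [← Localization.AtPrime.map_eq_maximalIdeal]; exact Ideal.map_mono hIp)))
  have h0 : gE z = 0 := by
    rw [← Submodule.mem_bot Bp, ← Ideal.iInf_pow_smul_eq_bot_of_isLocalRing J hJ, Submodule.mem_iInf]
    intro n
    obtain ⟨f, hf, hfz⟩ := step n
    have h1 : gE (f • z) ∈ (J ^ n • ⊤ : Submodule Bp (LocalizedModule S E)) := by
      refine Submodule.smul_induction_on (p := fun w => gE w ∈ (J ^ n • ⊤ : Submodule Bp (LocalizedModule S E))) hfz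
        (fun c hc w _ => ?_) fun a b ha hb => by rw [map_add]; exact Submodule.add_mem _ ha hb
      rw [map_smul, ← algebraMap_smul Bp c]
      refine Submodule.smul_mem_smul ?_ trivial
      have h2 : c ∈ I ^ (n + 1) := by rwa [← Ideal.map_pow]
      have h3 : algebraMap B Bp c ∈ J ^ (n + 1) := by
        rw [← Ideal.map_pow]; exact Ideal.mem_map_of_mem _ h2
      exact Ideal.pow_le_pow_right (Nat.le_succ n) h3
    rw [map_smul, ← algebraMap_smul Bp f] at h1
    exact (Submodule.smul_mem_iff_of_isUnit _ (IsLocalization.map_units Bp (⟨f, hf⟩ : S))).1 h1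
  obtain ⟨c, hc⟩ := (IsLocalizedModule.eq_zero_iff S gE).1 h0
  exact ⟨c, c.2, hc⟩

end

section
variable {A : Type u} [CommRing A] [IsLocalRing A] [IsNoetherianRing A]
  {B : Type u} [CommRing B] [IsNoetherianRing B] [IsLocalRing B] [Algebra A B] [IsLocalHom (algebraMap A B)]

/-- Extensions of `Q` by `N` killed by the ideal split at the prime up to a scalar. -/
def ExtSplitAt (I p : Ideal B) (Q N : Type u) [AddCommGroup Q] [Module B Q] [AddCommGroup N] [Module B N] : Prop :=
  ∀ (E : Type u) [AddCommGroup E] [Module B E] [Module.Finite B E] (i : N →ₗ[B] E) (π : E →ₗ[B] Q),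
    (∀ c ∈ I, ∀ x : E, c • x = 0) → Function.Injective i → Function.Exact i π → Function.Surjective π →
      ∃ f ∉ p, ∃ h : Q →ₗ[B] E, π.comp h = f • LinearMap.id

variable {P : Type u} [AddCommGroup P] [Module B P] [Module A P] [IsScalarTower A B P] [Module.Finite B P]
  [Module.Flat A P] {K : Type u} [AddCommGroup K] [Module B K] [Module.Finite B K]

/-- Homomorphisms into a thickening lift to the next one at a prime where the source has no relations and the
extensions on the fibre split. -/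
theorem exists_liftsMul (p : Ideal B) [hp : p.IsPrime] (hIp : (maximalIdeal A).map (algebraMap A B) ≤ p)
    (hrel : RelAt A p K)
    (hext : ExtSplitAt ((maximalIdeal A).map (algebraMap A B)) p (K ⧸ sub (B := B) (maximalIdeal A) K)
      (Pq (B := B) A P 0))
    (n : ℕ) (φ : K →ₗ[B] Pq (B := B) A P n) : ∃ f ∉ p, LiftsMul P K n φ f := by
  classical
  obtain ⟨r, ι, π, hι, hex, hπ, hπmk⟩ := exists_thick_exact (A := A) (B := B) P n
  let I := (maximalIdeal A).map (algebraMap A B)
  have hN : ∀ c ∈ I, ∀ z : Pq (B := B) A P 0, c • z = 0 := fun c hc z => by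
    obtain ⟨y, rfl⟩ := Submodule.Quotient.mk_surjective _ z
    rw [← Submodule.Quotient.mk_smul]
    exact (Submodule.Quotient.mk_eq_zero _).2 (by rw [sub, zero_add, pow_one]; exact Submodule.smul_mem_smul hc trivial)
  -- the pullback
  let E₀ := LinearMap.ker (π.comp (LinearMap.fst B _ K) - φ.comp (LinearMap.snd B (Pq (B := B) A P (n + 1)) K))
  have hmem : ∀ x, x ∈ E₀ ↔ π x.1 = φ x.2 := fun x => by
    simp only [E₀, LinearMap.mem_ker, LinearMap.sub_apply, sub_eq_zero]; rfl
  let i₀ : (Fin r → Pq (B := B) A P 0) →ₗ[B] E₀ := (LinearMap.prod ι 0).codRestrict _ fun z =>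
    (hmem _).2 (by rw [LinearMap.prod_apply]; exact ((hex _).2 ⟨z, rfl⟩).trans (map_zero φ).symm)
  let π₀ : E₀ →ₗ[B] K := (LinearMap.snd B _ K).comp E₀.subtype
  have hπ₀ : Function.Surjective π₀ := fun k => by
    obtain ⟨x, hx⟩ := hπ (φ k)
    exact ⟨⟨(x, k), (hmem _).2 hx⟩, rfl⟩
  have hi₀ : Function.Injective i₀ := fun z z' h => hι (congrArg Prod.fst (congrArg Subtype.val h))
  have hex₀ : ∀ e : E₀, π₀ e = 0 → ∃ z, e = i₀ z := fun e he => by
    obtain ⟨z, hz⟩ := (hex e.1.1).1 (((hmem _).1 e.2).trans ((congrArg φ he).trans (map_zero φ)))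
    exact ⟨z, Subtype.ext (Prod.ext hz.symm he)⟩
  have hπ₀i : ∀ z, π₀ (i₀ z) = 0 := fun z => rfl
  have hkill : ∀ c ∈ I, ∀ z : Fin r → Pq (B := B) A P 0, c • z = 0 := fun c hc z => funext fun j => hN c hc (z j)
  -- the intersection is killed
  let Zc := (sub (B := B) (maximalIdeal A) E₀).comap i₀
  obtain ⟨m, gen, hgen⟩ := Submodule.fg_iff_exists_fin_generating_family.1 (IsNoetherian.noetherian Zc)
  have hkz : ∀ l, ∃ f ∉ p, f • gen l = 0 := fun l => by
    obtain ⟨f, hf, hfz⟩ := exists_smul_eq_zero_of_rel (A := A) π₀ hπ₀ hrel hIp (fun z hz a ha => by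
      obtain ⟨z', rfl⟩ := hex₀ z hz
      rw [← map_smul, hkill _ (Ideal.mem_map_of_mem _ ha), map_zero]) (i₀ (gen l)) (hπ₀i _)
      (show gen l ∈ Zc from hgen.le (Submodule.subset_span ⟨l, rfl⟩))
    exact ⟨f, hf, hi₀ (by rw [map_smul, hfz, map_zero])⟩
  choose fl hfl hflz using hkz
  let f₀ := ∏ l, fl l
  have hf₀ : f₀ ∉ p := fun h => by
    obtain ⟨l, -, hl⟩ := hp.prod_mem_iff.1 h
    exact hfl l hl
  have hf₀z : ∀ z ∈ Zc, f₀ • z = 0 := fun z hz => by
    rw [← hgen] at hz
    induction hz using Submodule.span_induction with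
    | mem y hy =>
      obtain ⟨l, rfl⟩ := hy
      show (∏ l, fl l) • gen l = 0
      rw [← Finset.prod_erase_mul _ fl (Finset.mem_univ l), mul_smul, hflz, smul_zero]
    | zero => rw [smul_zero]
    | add a b _ _ ha hb => rw [smul_add, ha, hb, add_zero]
    | smul c a _ ha => rw [smul_comm, ha, smul_zero]
  -- the components
  have hcomp : ∀ j : Fin r, ∃ f ∉ p, ∃ ρ : E₀ →ₗ[B] Pq (B := B) A P 0, ∀ z, ρ (i₀ z) = f • z j := by
    intro j
    let G : (Fin r → Pq (B := B) A P 0) →ₗ[B] Pq (B := B) A P 0 × E₀ :=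
      LinearMap.prod (f₀ • LinearMap.proj j) (-i₀)
    let Rj : Submodule B (Pq (B := B) A P 0 × E₀) :=
      LinearMap.range G ⊔ (sub (B := B) (maximalIdeal A) E₀).map (LinearMap.inr B _ _)
    have hRj : ∀ x, x ∈ Rj → ∃ z, ∃ w ∈ sub (B := B) (maximalIdeal A) E₀, x = (f₀ • z j, -i₀ z + w) := by
      intro x hx
      obtain ⟨_, ⟨z, rfl⟩, _, ⟨w, hw, rfl⟩, rfl⟩ := Submodule.mem_sup.1 hx
      exact ⟨z, w, hw, Prod.ext (by simp [G]) (by simp [G])⟩
    let πj : ((Pq (B := B) A P 0 × E₀) ⧸ Rj) →ₗ[B] K ⧸ sub (B := B) (maximalIdeal A) K :=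
      Rj.liftQ ((Submodule.mkQ _).comp (π₀.comp (LinearMap.snd B _ _))) fun x hx => by
        obtain ⟨z, w, hw, rfl⟩ := hRj x hx
        rw [LinearMap.mem_ker, LinearMap.comp_apply, LinearMap.comp_apply, LinearMap.snd_apply, map_add π₀, map_neg π₀,
          hπ₀i, neg_zero, zero_add, Submodule.mkQ_apply, Submodule.Quotient.mk_eq_zero]
        exact (Submodule.map_smul'' _ _ π₀).le.trans (Submodule.smul_mono le_rfl le_top) ⟨w, hw, rfl⟩
    let ij : Pq (B := B) A P 0 →ₗ[B] (Pq (B := B) A P 0 × E₀) ⧸ Rj := Rj.mkQ.comp (LinearMap.inl B _ _)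
    have hij : Function.Injective ij := (injective_iff_map_eq_zero _).2 fun z hz => by
      obtain ⟨z', w, hw, he⟩ := hRj _ ((Submodule.Quotient.mk_eq_zero _).1 hz)
      obtain ⟨h1, h2⟩ := Prod.ext_iff.1 he
      have h3 : z' ∈ Zc := by
        show i₀ z' ∈ sub (B := B) (maximalIdeal A) E₀
        rwa [show i₀ z' = w from (neg_add_eq_zero.1 h2.symm)]
      exact h1.trans (congrFun (hf₀z z' h3) j)
    have hexj : Function.Exact ij πj := fun x => by
      obtain ⟨⟨z, e⟩, rfl⟩ := Submodule.Quotient.mk_surjective _ x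
      constructor
      · intro hx
        have h1 : π₀ e ∈ sub (B := B) (maximalIdeal A) K := (Submodule.Quotient.mk_eq_zero _).1 hx
        rw [sub, ← LinearMap.range_eq_top.2 hπ₀, LinearMap.range_eq_map, ← Submodule.map_smul''] at h1
        obtain ⟨w, hw, hwe⟩ := h1
        obtain ⟨z', hz'⟩ := hex₀ (e - w) (by rw [map_sub, hwe, sub_self])
        refine ⟨z + f₀ • z' j, (Submodule.Quotient.eq _).2 ?_⟩
        have : ((z + f₀ • z' j, (0 : E₀)) - (z, e)) = G z' + LinearMap.inr B _ _ (-w) :=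
          Prod.ext (by simp [G]) (show (0 : E₀) - e = -i₀ z' + -w by rw [← hz']; abel)
        show (z + f₀ • z' j, (0 : E₀)) - (z, e) ∈ Rj
        rw [this]
        exact Submodule.add_mem_sup ⟨z', rfl⟩ ⟨-w, Submodule.neg_mem _ hw, rfl⟩
      · rintro ⟨y, hy⟩
        rw [← hy]
        show Submodule.mkQ _ (π₀ (0 : E₀)) = 0
        rw [map_zero, map_zero]
    have hπj : Function.Surjective πj := fun x => by
      obtain ⟨k, rfl⟩ := Submodule.Quotient.mk_surjective _ x
      obtain ⟨e, rfl⟩ := hπ₀ k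
      exact ⟨Submodule.Quotient.mk (0, e), rfl⟩
    obtain ⟨f, hf, h, hh⟩ := hext _ ij πj (fun c hc x => by
      obtain ⟨⟨z, e⟩, rfl⟩ := Submodule.Quotient.mk_surjective _ x
      rw [← Submodule.Quotient.mk_smul]
      refine (Submodule.Quotient.mk_eq_zero _).2 (Submodule.mem_sup_right ⟨c • e, Submodule.smul_mem_smul hc trivial, ?_⟩)
      exact Prod.ext (hN c hc z).symm rfl) hij hexj hπj
    let D : ((Pq (B := B) A P 0 × E₀) ⧸ Rj) →ₗ[B] ((Pq (B := B) A P 0 × E₀) ⧸ Rj) := f • LinearMap.id - h.comp πj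
    have hD : ∀ x, D x ∈ LinearMap.range ij := fun x => (hexj _).1 (by
      show πj (f • x - h (πj x)) = 0
      rw [map_sub, map_smul, show πj (h (πj x)) = f • πj x from LinearMap.congr_fun hh _, sub_self])
    let ρ : E₀ →ₗ[B] Pq (B := B) A P 0 := (LinearEquiv.ofInjective ij hij).symm.toLinearMap.comp
      ((D.codRestrict _ hD).comp (Rj.mkQ.comp (LinearMap.inr B _ _)))
    refine ⟨f * f₀, fun h => (hp.mem_or_mem h).elim hf hf₀, ρ, fun z => ?_⟩
    refine (LinearEquiv.symm_apply_eq _).2 (Subtype.ext ?_)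
    show D (Rj.mkQ (0, i₀ z)) = ij ((f * f₀) • z j)
    have h1 : Rj.mkQ (0, i₀ z) = ij (f₀ • z j) := (Submodule.Quotient.eq _).2 (by
      have : ((0, i₀ z) - (f₀ • z j, (0 : E₀)) : Pq (B := B) A P 0 × E₀) = G (-z) :=
        Prod.ext (by simp [G]) (by simp [G])
      show ((0, i₀ z) - (f₀ • z j, (0 : E₀)) : Pq (B := B) A P 0 × E₀) ∈ Rj
      rw [this]
      exact Submodule.mem_sup_left ⟨_, rfl⟩)
    rw [h1, mul_smul, map_smul ij f]
    show f • ij (f₀ • z j) - h (πj (ij (f₀ • z j))) = _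
    rw [(hexj _).2 ⟨_, rfl⟩, map_zero, sub_zero]
  choose fj hfj ρ hρ using hcomp
  let F := ∏ j, fj j
  let ρ' : E₀ →ₗ[B] Fin r → Pq (B := B) A P 0 := LinearMap.pi fun j => (∏ l ∈ Finset.univ.erase j, fj l) • ρ j
  have hρ' : ∀ z, ρ' (i₀ z) = F • z := fun z => funext fun j => by
    show (∏ l ∈ Finset.univ.erase j, fj l) • ρ j (i₀ z) = (∏ l, fj l) • z j
    rw [hρ, smul_smul, Finset.prod_erase_mul _ _ (Finset.mem_univ j)]
  refine ⟨F, fun h => by obtain ⟨j, -, hj⟩ := hp.prod_mem_iff.1 h; exact hfj j hj, ?_⟩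
  let D₀ : E₀ →ₗ[B] Pq (B := B) A P (n + 1) :=
    ((LinearMap.fst B _ K).comp E₀.subtype).comp (F • LinearMap.id - i₀.comp ρ')
  have hD₀ : LinearMap.ker π₀ ≤ LinearMap.ker D₀ := fun e he => by
    obtain ⟨z, rfl⟩ := hex₀ e he
    show ((LinearMap.fst B _ K).comp E₀.subtype) (F • i₀ z - i₀ (ρ' (i₀ z))) = 0
    rw [hρ', ← map_smul i₀, sub_self, map_zero]
  let ψ : K →ₗ[B] Pq (B := B) A P (n + 1) :=
    ((LinearMap.ker π₀).liftQ D₀ hD₀).comp (π₀.quotKerEquivOfSurjective hπ₀).symm.toLinearMap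
  refine ⟨ψ, fun k z hz => ?_⟩
  obtain ⟨e, rfl⟩ := hπ₀ k
  have he : ψ (π₀ e) = D₀ e := by
    show (LinearMap.ker π₀).liftQ D₀ hD₀ ((π₀.quotKerEquivOfSurjective hπ₀).symm (π₀ e)) = D₀ e
    rw [LinearMap.quotKerEquivOfSurjective_symm_apply, Submodule.liftQ_apply]
  rw [← hπmk z, ← hz, he]
  show F • φ (π₀ e) = π (F • e.1.1 - ι (ρ' e))
  rw [map_sub, map_smul, (hex _).2 ⟨_, rfl⟩, sub_zero, (hmem _).1 e.2]
  rfl

end

end QGorLiftLib
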