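import Groth.Agent.QGorLiftLib.CanAlg

/-!
# Deformations of a canonical module are isomorphic to it
-/

set_option autoImplicit false

universe u

open IsLocalRing CommAlgDim
open scoped TensorProduct Pointwise

namespace QGorLiftLib

/-- A module of homomorphisms has depth two at a prime where the target has. -/
theorem two_le_depth_hom {R : Type u} [CommRing R] [IsNoetherianRing R] (p : Ideal R) [p.IsPrime]
    (K N : Type u) [AddCommGroup K] [Module R K] [Module.Finite R K] [AddCommGroup N] [Module R N] [Module.Finite R N]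
    (h : (2 : ℕ∞) ≤ LocCoh.depth (Localization.AtPrime p) (LocalizedModule p.primeCompl N)) :
    (2 : ℕ∞) ≤ LocCoh.depth (Localization.AtPrime p) (LocalizedModule p.primeCompl (K →ₗ[R] N)) := by
  haveI : Module.FinitePresentation R K := Module.finitePresentation_of_finite R K
  haveI : IsNoetherianRing (Localization.AtPrime p) := IsLocalization.isNoetherianRing p.primeCompl _ inferInstance
  haveI : Module.Finite (Localization.AtPrime p) (LocalizedModule p.primeCompl K) :=
    Module.Finite.of_isLocalizedModule p.primeCompl (LocalizedModule.mkLinearMap p.primeCompl K)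
  haveI : Module.Finite (Localization.AtPrime p) (LocalizedModule p.primeCompl N) :=
    Module.Finite.of_isLocalizedModule p.primeCompl (LocalizedModule.mkLinearMap p.primeCompl N)
  have h2 := (Groth.Agent.S6876.result (Localization.AtPrime p) (LocalizedModule p.primeCompl K)
    (LocalizedModule p.primeCompl N)).2 h
  exact h2.trans_eq (CommAlgDim.depth_congr ((IsLocalizedModule.iso p.primeCompl
    (LocalizedModule.map p.primeCompl (M := K) (N := N))).extendScalarsOfIsLocalization
      p.primeCompl (Localization.AtPrime p))).symm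

/-- A generator of the homomorphisms is bijective up to a scalar where the modules are isomorphic so. -/
theorem bijAt_of_cyclic {B : Type u} [CommRing B] {M N : Type u} [AddCommGroup M] [Module B M] [AddCommGroup N]
    [Module B N] (p : Ideal B) (h : IsoModAt p M N) (ψ : M →ₗ[B] N)
    (hgen : ∀ φ : M →ₗ[B] N, ∃ a : B, φ = a • ψ) : BijAt p ψ := by
  obtain ⟨g, hg, φ, φ', h1, h2⟩ := h
  obtain ⟨a, rfl⟩ := hgen φ
  exact bijAt_of_inverse p hg ψ (a • φ') (by rw [LinearMap.smul_comp, ← LinearMap.comp_smul, h1])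
    (by rw [LinearMap.comp_smul, ← LinearMap.smul_comp, h2])

section
variable {A : Type u} [CommRing A] [IsLocalRing A] [IsNoetherianRing A]
  {B : Type u} [CommRing B] [IsNoetherianRing B] [IsLocalRing B] [Algebra A B] [IsLocalHom (algebraMap A B)]

/-- A map surjective on the fibre is surjective, and injective when the target is flat and it is injective on the
fibre. -/
theorem bijective_of_bijective_quot {P : Type u} [AddCommGroup P] [Module B P] [Module A P] [IsScalarTower A B P]
    [Module.Finite B P] [Module.Flat A P] {K : Type u} [AddCommGroup K] [Module B K] [Module.Finite B K]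
    (ψ : K →ₗ[B] P) (hs : ∀ x : P, ∃ k, x - ψ k ∈ sub (B := B) (maximalIdeal A) P)
    (hi : ∀ k, ψ k ∈ sub (B := B) (maximalIdeal A) P → k ∈ sub (B := B) (maximalIdeal A) K) :
    Function.Bijective ψ := by
  let I := (maximalIdeal A).map (algebraMap A B)
  have hI : I ≤ maximalIdeal B := Ideal.map_le_iff_le_comap.2 fun a ha => map_nonunit (algebraMap A B) a ha
  have hsurj : Function.Surjective ψ := by
    rw [← LinearMap.range_eq_top, eq_top_iff]
    refine Submodule.le_of_le_smul_of_le_jacobson_bot (I := I) (Module.Finite.fg_top (R := B) (M := P))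
      (hI.trans (maximalIdeal_le_jacobson _)) fun x _ => ?_
    obtain ⟨k, hk⟩ := hs x
    exact sub_add_cancel x (ψ k) ▸ Submodule.add_mem _ (Submodule.mem_sup_right hk) (Submodule.mem_sup_left ⟨k, rfl⟩)
  refine ⟨(injective_iff_map_eq_zero ψ).2 fun k hk => ?_, hsurj⟩
  have step : ∀ n, k ∈ sub (B := B) (maximalIdeal A ^ (n + 1)) K := by
    intro n
    induction n with
    | zero =>
      rw [zero_add, pow_one]
      exact hi k (hk ▸ zero_mem _)
    | succ n ih =>
      obtain ⟨r, g, hg, hmin⟩ := exists_min_gens (maximalIdeal A ^ (n + 1))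
      letI : Module A K := Module.compHom K (algebraMap A B)
      haveI : IsScalarTower A B K := IsScalarTower.of_algebraMap_smul fun _ _ => rfl
      obtain ⟨y, hy⟩ := (mem_sub_iff (F := K) hg k).1 ih
      have h0 : ∑ j, g j • ψ (y j) = 0 := by
        rw [← hk, hy, map_sum]
        exact Finset.sum_congr rfl fun j _ => (LinearMap.map_smul_of_tower ψ (g j) (y j)).symm
      rw [hy, sub, pow_succ, Ideal.map_mul, ← smul_eq_mul, Submodule.smul_assoc]
      refine Submodule.sum_mem _ fun j _ => ?_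
      rw [← algebraMap_smul B (g j)]
      exact Submodule.smul_mem_smul (Ideal.mem_map_of_mem _ (hg ▸ Ideal.subset_span ⟨j, rfl⟩))
        (hi _ (mem_sub_max_of_relation hmin h0 j))
  rw [← Submodule.mem_bot B, ← Ideal.iInf_pow_smul_eq_bot_of_isLocalRing I
    (fun h => (maximalIdeal.isMaximal B).ne_top (top_le_iff.1 (h.ge.trans hI))), Submodule.mem_iInf]
  intro n
  have h1 : sub (B := B) (maximalIdeal A ^ (n + 1)) K ≤ I ^ n • ⊤ := by
    rw [sub, Ideal.map_pow]
    exact Submodule.smul_mono_left (Ideal.pow_le_pow_right (Nat.le_succ n))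
  exact h1 (step n)

variable {P : Type u} [AddCommGroup P] [Module B P] [Module A P] [IsScalarTower A B P] [Module.Finite B P]
  [Module.Flat A P] {K : Type u} [AddCommGroup K] [Module B K] [Module.Finite B K]

/-- The data at a Cohen–Macaulay point of the fibre. -/
def CanonAt (p : Ideal B) (σ : K →ₗ[B] Pq (B := B) A P 0) : Prop :=
  RelAt A p K ∧
    ExtSplitAt ((maximalIdeal A).map (algebraMap A B)) p (K ⧸ sub (B := B) (maximalIdeal A) K) (Pq (B := B) A P 0) ∧
    ∃ g ∉ p, ∃ ρ : Pq (B := B) A P 0 →ₗ[B] K ⧸ sub (B := B) (maximalIdeal A) K,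
      (∀ k, ρ (σ k) = g • Submodule.Quotient.mk k) ∧ ∀ z k, ρ z = Submodule.Quotient.mk k → σ k = g • z

/-- The homomorphisms to the fibre module are the multiples of the given one. -/
theorem bijective_smul_hom (σ : K →ₗ[B] Pq (B := B) A P 0)
    (hEnd : ∀ φ : Pq (B := B) A P 0 →ₗ[B] Pq (B := B) A P 0, ∃ b : B, ∀ z, φ z = b • z)
    (hfaith : ∀ b : B, (∀ z : Pq (B := B) A P 0, b • z = 0) → b ∈ (maximalIdeal A).map (algebraMap A B))
    (hloc : ∀ (p : Ideal B) [p.IsPrime], (maximalIdeal A).map (algebraMap A B) ≤ p →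
      CanonAt p σ ∨
      ((2 : ℕ∞) ≤ LocCoh.depth (Localization.AtPrime p) (LocalizedModule p.primeCompl (Pq (B := B) A P 0)) ∧
        (2 : ℕ∞) ≤ LocCoh.depth (Localization.AtPrime p)
          (LocalizedModule p.primeCompl (B ⧸ (maximalIdeal A).map (algebraMap A B))))) :
    ∃ e : (B ⧸ (maximalIdeal A).map (algebraMap A B)) ≃ₗ[B] (K →ₗ[B] Pq (B := B) A P 0),
      ∀ b : B, e (Submodule.Quotient.mk b) = b • σ := by
  let I := (maximalIdeal A).map (algebraMap A B)
  let N := Pq (B := B) A P 0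
  have hN : ∀ c ∈ I, ∀ z : N, c • z = 0 := fun c hc z => by
    obtain ⟨y, rfl⟩ := Submodule.Quotient.mk_surjective _ z
    rw [← Submodule.Quotient.mk_smul]
    exact (Submodule.Quotient.mk_eq_zero _).2 (by rw [sub, zero_add, pow_one]; exact Submodule.smul_mem_smul hc trivial)
  let Φ : (B ⧸ I) →ₗ[B] (K →ₗ[B] N) := Submodule.liftQ I (LinearMap.toSpanSingleton B _ σ) fun b hb =>
    LinearMap.ext fun k => hN b hb (σ k)
  refine ⟨LinearEquiv.ofBijective Φ (bijective_of_local Φ fun p hp => ?_), fun b => rfl⟩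
  by_cases hIp : I ≤ p
  swap
  · obtain ⟨c, hcI, hcp⟩ := SetLike.not_le_iff_exists.1 hIp
    refine Or.inl ⟨fun x _ => ⟨c, hcp, ?_⟩, fun φ => ⟨c, hcp, 0, ?_⟩⟩
    · obtain ⟨b, rfl⟩ := Submodule.Quotient.mk_surjective _ x
      rw [← Submodule.Quotient.mk_smul]
      exact (Submodule.Quotient.mk_eq_zero _).2 (Ideal.mul_mem_right _ _ hcI)
    · rw [map_zero]
      exact LinearMap.ext fun k => (hN c hcI (φ k)).symm
  rcases hloc p hIp with ⟨-, -, g, hg, ρ, hρ1, hρ2⟩ | ⟨hN2, hC2⟩
  · refine Or.inl ⟨fun x hx => ?_, fun φ => ?_⟩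
    · obtain ⟨b, rfl⟩ := Submodule.Quotient.mk_surjective _ x
      refine ⟨g, hg, ?_⟩
      rw [← Submodule.Quotient.mk_smul]
      refine (Submodule.Quotient.mk_eq_zero _).2 (hfaith _ fun z => ?_)
      obtain ⟨k, hk⟩ := Submodule.Quotient.mk_surjective _ (ρ z)
      rw [smul_eq_mul, mul_comm, mul_smul, ← hρ2 z k hk.symm]
      exact LinearMap.congr_fun hx k
    · have hle : sub (B := B) (maximalIdeal A) K ≤ LinearMap.ker φ := by
        refine Submodule.smul_le.2 fun c hc k _ => ?_
        rw [LinearMap.mem_ker, map_smul, hN c hc]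
      obtain ⟨b, hb⟩ := hEnd (((sub (B := B) (maximalIdeal A) K).liftQ φ hle).comp ρ)
      refine ⟨g, hg, Submodule.Quotient.mk b, LinearMap.ext fun k => ?_⟩
      show b • σ k = g • φ k
      rw [← hb, LinearMap.comp_apply, hρ1, map_smul, Submodule.liftQ_apply]
  · exact Or.inr ⟨hC2, two_le_depth_hom p K N hN2⟩

/-- A lift of the fibre map generating all homomorphisms. -/
theorem exists_generator (σ : K →ₗ[B] Pq (B := B) A P 0)
    (hEnd : ∀ φ : Pq (B := B) A P 0 →ₗ[B] Pq (B := B) A P 0, ∃ b : B, ∀ z, φ z = b • z)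
    (hfaith : ∀ b : B, (∀ z : Pq (B := B) A P 0, b • z = 0) → b ∈ (maximalIdeal A).map (algebraMap A B))
    (hloc : ∀ (p : Ideal B) [p.IsPrime], (maximalIdeal A).map (algebraMap A B) ≤ p →
      CanonAt p σ ∨
      ((2 : ℕ∞) ≤ LocCoh.depth (Localization.AtPrime p) (LocalizedModule p.primeCompl (Pq (B := B) A P 0)) ∧
        (3 : ℕ∞) ≤ LocCoh.depth (Localization.AtPrime p)
          (LocalizedModule p.primeCompl (B ⧸ (maximalIdeal A).map (algebraMap A B))))) :
    ∃ ψ : K →ₗ[B] P, (∀ k, Submodule.Quotient.mk (ψ k) = σ k) ∧ ∀ φ : K →ₗ[B] P, ∃ a : B, φ = a • ψ := by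
  let I := (maximalIdeal A).map (algebraMap A B)
  obtain ⟨e, he⟩ := bijective_smul_hom σ hEnd hfaith fun p hp hle => (hloc p hle).imp id fun ⟨h1, h2⟩ =>
    ⟨h1, le_trans (by norm_num) h2⟩
  have hN : ∀ c ∈ I, ∀ z : Pq (B := B) A P 0, c • z = 0 := fun c hc z => by
    obtain ⟨y, rfl⟩ := Submodule.Quotient.mk_surjective _ z
    rw [← Submodule.Quotient.mk_smul]
    exact (Submodule.Quotient.mk_eq_zero _).2 (by rw [sub, zero_add, pow_one]; exact Submodule.smul_mem_smul hc trivial)
  haveI : Module.Finite B (K →ₗ[B] Pq (B := B) A P 0) := Module.Finite.equiv e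
  have hlocB : ∀ (p : Ideal B) [p.IsPrime],
      (∀ (n : ℕ) (φ : K →ₗ[B] Pq (B := B) A P n), ∃ f ∉ p, LiftsMul P K n φ f) ∨
      ((2 : ℕ∞) ≤ LocCoh.depth (Localization.AtPrime p) (LocalizedModule p.primeCompl (Pq (B := B) A P 0)) ∧
        (3 : ℕ∞) ≤ LocCoh.depth (Localization.AtPrime p)
          (LocalizedModule p.primeCompl (K →ₗ[B] Pq (B := B) A P 0))) := by
    intro p hp
    by_cases hIp : I ≤ p
    swap
    · obtain ⟨c, hcI, hcp⟩ := SetLike.not_le_iff_exists.1 hIp
      have h2 := le_depth_localized_of_annihilated p (M := Pq (B := B) A P 0) hcp (hN c hcI) 2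
      have h3 := le_depth_localized_of_annihilated p (M := K →ₗ[B] Pq (B := B) A P 0) hcp
        (fun φ => LinearMap.ext fun k => hN c hcI (φ k)) 3
      exact Or.inr ⟨by exact_mod_cast h2, by exact_mod_cast h3⟩
    rcases hloc p hIp with ⟨hrel, hext, -⟩ | ⟨h2, h3⟩
    · exact Or.inl fun n φ => exists_liftsMul p hIp hrel hext n φ
    · exact Or.inr ⟨h2, h3.trans_eq (depth_localized_congr p e)⟩
  obtain ⟨-, hsurj, hker⟩ := flat_hom_of_lifts P K fun n φ => exists_lifts P K hlocB n φ
  obtain ⟨ψ, hψ⟩ := hsurj σ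
  refine ⟨ψ, fun k => LinearMap.congr_fun hψ k, fun φ => ?_⟩
  haveI : Module.Finite B (K →ₗ[B] P) := inferInstance
  have hle : (⊤ : Submodule B (K →ₗ[B] P)) ≤ Submodule.span B {ψ} ⊔ I • ⊤ := by
    intro φ' _
    obtain ⟨b, hb⟩ := Submodule.Quotient.mk_surjective _ (e.symm ((Submodule.mkQ _).comp φ'))
    have h1 : (Submodule.mkQ _).comp φ' = b • σ := by rw [← he, hb, e.apply_symm_apply]
    have h2 : φ' - b • ψ ∈ sub (B := B) (maximalIdeal A) (K →ₗ[B] P) := hker _ fun k => by
      have h3 : (Submodule.mkQ (sub (B := B) (maximalIdeal A ^ (0 + 1)) P)) (φ' k - b • ψ k) = 0 := by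
        rw [map_sub, map_smul, Submodule.mkQ_apply, Submodule.mkQ_apply,
          show Submodule.Quotient.mk (φ' k) = b • σ k from LinearMap.congr_fun h1 k,
          show Submodule.Quotient.mk (ψ k) = σ k from LinearMap.congr_fun hψ k, sub_self]
      have h4 := (Submodule.Quotient.mk_eq_zero _).1 h3
      rw [zero_add, pow_one] at h4
      exact h4
    exact sub_add_cancel φ' (b • ψ) ▸ Submodule.add_mem _ (Submodule.mem_sup_right h2)
      (Submodule.mem_sup_left (Submodule.smul_mem _ _ (Submodule.mem_span_singleton_self ψ)))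
  obtain ⟨a, ha⟩ := Submodule.mem_span_singleton.1 (Submodule.le_of_le_smul_of_le_jacobson_bot
    (Module.Finite.fg_top (R := B) (M := K →ₗ[B] P))
    ((Ideal.map_le_iff_le_comap.2 fun c hc => map_nonunit (algebraMap A B) c hc : I ≤ maximalIdeal B).trans
      (maximalIdeal_le_jacobson _))
    hle (Submodule.mem_top (x := φ)))
  exact ⟨a, ha.symm⟩

/-- At a Cohen–Macaulay point a lift of the canonical map is bijective. -/
theorem bijective_of_canonAt_maximalIdeal (σ : K →ₗ[B] Pq (B := B) A P 0) (h : CanonAt (maximalIdeal B) σ)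
    (ψ : K →ₗ[B] P) (hψ : ∀ k, Submodule.Quotient.mk (ψ k) = σ k) : Function.Bijective ψ := by
  obtain ⟨-, -, g, hg, ρ, hρ1, hρ2⟩ := h
  obtain ⟨v, rfl⟩ := notMem_maximalIdeal.1 hg
  refine bijective_of_bijective_quot (A := A) ψ (fun x => ?_) fun k hk => ?_
  · obtain ⟨k, hk⟩ := Submodule.Quotient.mk_surjective _ (ρ (Submodule.Quotient.mk x))
    refine ⟨(↑v⁻¹ : B) • k, ?_⟩
    have h2 := hρ2 _ k hk.symm
    have h1 : (Submodule.Quotient.mk x : Pq (B := B) A P 0) = Submodule.Quotient.mk (ψ ((↑v⁻¹ : B) • k)) := by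
      rw [map_smul, Submodule.Quotient.mk_smul, hψ, h2, smul_smul, Units.inv_mul, one_smul]
    have h3 := (Submodule.Quotient.eq _).1 h1
    rwa [zero_add, pow_one] at h3
  · have h1 : σ k = 0 := by
      rw [← hψ]
      exact (Submodule.Quotient.mk_eq_zero _).2 (by rwa [zero_add, pow_one])
    have h2 := hρ1 k
    rw [h1, map_zero, eq_comm, ← Submodule.Quotient.mk_smul, Submodule.Quotient.mk_eq_zero] at h2
    simpa [smul_smul] using Submodule.smul_mem _ (↑v⁻¹ : B) h2

end

end QGorLiftLib
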