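import Groth.Agent.QGorLiftLib.FibreIso
import Groth.Agent.LMLib.End
import Groth.Agent.EGA2SymLib.PBTwist
import Groth.Agent.Ref1Lib.Ops
import Groth.Agent.QGorBridgeLib.Basic
import Groth.Agent.FLILib.Invertible

/-!
# The relative canonical sheaf along a fibre with a flat deformation of its dualizing sheaf
-/

set_option autoImplicit false
set_option linter.style.haveILetI false
set_option linter.unusedSectionVars false
set_option backward.isDefEq.respectTransparency false
set_option backward.isDefEq.respectTransparency.types false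
set_option maxHeartbeats 1000000
set_option synthInstance.maxHeartbeats 200000

noncomputable section

universe u

open CategoryTheory CategoryTheory.Limits AlgebraicGeometry IsLocalRing TopologicalSpace
open Groth.Agent
open CubeConsLib (IsoCls cl cl_eq_iff)
open ProjFormLib (ger exists_ger)
open scoped TensorProduct

attribute [local instance] HasDerivedCategory.standard

namespace QGorLiftLib

/-- Evaluation. -/
def evSh {X : Scheme.{u}} (L P : X.Modules) : KFlatLib.tens L (RefHull.homSh L P) ⟶ P :=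
  CategoryStruct.comp (Y := ((DCoh.tensorBi (X := X)).obj L).obj (CohCmpLib.homMod L P))
    (((DCoh.tensorBi (X := X)).obj L).map (LMLib.homShIso L P).hom) (CohCmpLib.evMod L P)

theorem evS_evSh {X : Scheme.{u}} (L P : X.Modules) (y : X) (θ : (RefHull.homSh L P).presheaf.stalk y) :
    CohCmpLib.evS (evSh L P) y θ = RefHull.evalStalk L P y θ := by
  obtain ⟨V, hy, g, rfl⟩ := TopCat.Presheaf.exists_germ_eq (RefHull.homSh L P).presheaf (x := y) θ
  refine (CohCmpLib.evS_map (LMLib.homShIso L P).hom (CohCmpLib.evMod L P) y _).trans ?_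
  refine (congrArg (CohCmpLib.evS (CohCmpLib.evMod L P) y) (ProjFormLib.ger_map (LMLib.homShIso L P).hom y hy g)).trans ?_
  refine (CohCmpLib.evS_evMod _ y hy).trans ?_
  rw [RefHull.evalStalk_germ]
  rfl

/-- Evaluation is bijective where the stalks are isomorphic and the endomorphisms are the scalars. -/
theorem bijective_stalk_evSh {X : Scheme.{u}} [IsLocallyNoetherian X] {L P : X.Modules} (hL : Coh.IsCoh L) (y : X)
    (e : P.presheaf.stalk y ≃ₗ[X.presheaf.stalk y] L.presheaf.stalk y)
    (hEnd : Function.Bijective fun b : X.presheaf.stalk y =>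
      b • (LinearMap.id : P.presheaf.stalk y →ₗ[X.presheaf.stalk y] P.presheaf.stalk y)) :
    Function.Bijective (RefHull.stalkMapₗ (evSh L P) y) := by
  have hev := RefHullLib.evalStalk_bijective (G := P) (QCohLib.isFP_of_isCoh L hL) y
  obtain ⟨θ₀, hθ₀⟩ := hev.2 e.symm.toLinearMap
  let Eb := LinearEquiv.ofBijective (KFlatLib.stalkTensorLin L (RefHull.homSh L P) y)
    (KFlatLib.stalkTensorLin_bijective L (RefHull.homSh L P) y)
  have hmap : ∀ x θ, RefHull.stalkMapₗ (evSh L P) y (Eb (x ⊗ₜ θ)) = RefHull.evalStalk L P y θ x := fun x θ =>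
    LinearMap.congr_fun (evS_evSh L P y θ) x
  have hgen : ∀ θ, ∃ b : X.presheaf.stalk y, θ = b • θ₀ := fun θ => by
    obtain ⟨b, hb⟩ := hEnd.2 ((RefHull.evalStalk L P y θ).comp e.toLinearMap)
    refine ⟨b, hev.1 ?_⟩
    rw [map_smul, hθ₀]
    refine LinearMap.ext fun x => ?_
    show RefHull.evalStalk L P y θ x = b • e.symm x
    have h1 := LinearMap.congr_fun hb (e.symm x)
    simp only [LinearMap.smul_apply, LinearMap.id_apply, LinearMap.comp_apply, LinearEquiv.coe_coe,
      e.apply_symm_apply] at h1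
    exact h1.symm
  have hform : ∀ t : L.presheaf.stalk y ⊗[X.presheaf.stalk y] (RefHull.homSh L P).presheaf.stalk y,
      ∃ x, t = x ⊗ₜ θ₀ := fun t => by
    induction t with
    | zero => exact ⟨0, (TensorProduct.zero_tmul _ _).symm⟩
    | tmul x θ =>
      obtain ⟨b, rfl⟩ := hgen θ
      exact ⟨b • x, (TensorProduct.tmul_smul b x θ₀).trans (TensorProduct.smul_tmul' b x θ₀)⟩
    | add t t' h h' =>
      obtain ⟨x, rfl⟩ := h
      obtain ⟨x', rfl⟩ := h'
      exact ⟨x + x', (TensorProduct.add_tmul x x' θ₀).symm⟩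
  refine ⟨(injective_iff_map_eq_zero _).2 fun v hv => ?_, fun v => ⟨Eb (e v ⊗ₜ θ₀), ?_⟩⟩
  · obtain ⟨t, rfl⟩ := Eb.surjective v
    obtain ⟨x, rfl⟩ := hform t
    rw [hmap, hθ₀] at hv
    rw [show x = 0 from e.symm.map_eq_zero_iff.1 hv, TensorProduct.zero_tmul, map_zero]
  · rw [hmap, hθ₀]
    exact e.symm_apply_apply v

/-- The locus where a map of coherent modules is bijective is open. -/
theorem isOpen_bijective {X : Scheme.{u}} [IsLocallyNoetherian X] {M P : X.Modules} (hM : Coh.IsCoh M)
    (hP : Coh.IsCoh P) (u : M ⟶ P) : IsOpen {y : X | Function.Bijective (RefHull.stalkMapₗ u y)} := by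
  have h1 := QCohLib.isClosed_support _ (QCohLib.isCoh_kernel u hM hP.1).2
  have h2 := QCohLib.isClosed_support _ (QCohLib.isCoh_cokernel u hM.1 hP).2
  convert (h1.union h2).isOpen_compl using 1
  ext y
  show Function.Bijective ((DerSch.stalkFunctor X y).map u).hom ↔ _
  simp only [Set.mem_compl_iff, Set.mem_union, CohB1.support, Set.mem_setOf_eq, not_or, not_not,
    Function.Bijective, CohCmpLib.injective_stalk_iff, CohCmpLib.surjective_stalk_iff]

/-- The inverse image of a map is bijective where the map is. -/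
theorem bijective_stalk_pullback {P Z : Scheme.{u}} (q : P ⟶ Z) {M N : Z.Modules} (u : M ⟶ N) (w : P)
    (h : Function.Bijective (RefHull.stalkMapₗ u (q w))) :
    IsIso ((DerSch.stalkFunctor P w).map ((Scheme.Modules.pullback q).map u)) := by
  haveI : IsIso ((DerSch.stalkFunctor Z (q w)).map u) := (ConcreteCategory.isIso_iff_bijective _).2 h
  exact (NatIso.isIso_map_iff (KFlatLib.stalkPullIso q w) u).2
    (inferInstanceAs (IsIso ((ModuleCat.extendScalars (q.stalkMap w).hom).map ((DerSch.stalkFunctor Z (q w)).map u))))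

/-- An invertible module fixing a module with scalar endomorphisms is trivial. -/
theorem nonempty_iso_of_tensor {X : Scheme.{u}} [IsLocallyNoetherian X] {W J : X.Modules}
    (hJ : PicF.IsInvertible J) [IsIso (QGorEndLib.scalarMap W)] (e : CohB1.tensorMod W J ≅ W) :
    Nonempty (J ≅ Coh.structureModule X) := by
  let o : CohCmpLib.homMod W W ≅ Coh.structureModule X :=
    (LMLib.homShIso W W).symm ≪≫ (asIso (QGorEndLib.scalarMap W)).symm
  obtain ⟨r⟩ := LMLib.nonempty_homMod_right J o.symm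
  obtain ⟨c⟩ := MiscFlat6.nonempty_dualIso hJ
  let d : MiscFlat6.dual J ≅ Coh.structureModule X :=
    (HilbPolyLib.unitLeft _).symm ≪≫ HilbPolyLib.swapIso _ _ ≪≫ (FLI.homModIso c (Coh.structureModule X)).symm ≪≫
      r ≪≫ (LMLib.homModTensorIso W J W).symm ≪≫ LMLib.homModLeftIso e W ≪≫ o
  exact ⟨(HilbPolyLib.unitLeft J).symm ≪≫ HilbPolyLib.swapIso _ _ ≪≫
    ((DCoh.tensorBi (X := X)).obj J).mapIso d.symm ≪≫ c⟩

theorem isCoh_tensor {X : Scheme.{u}} [IsLocallyNoetherian X] {F G : X.Modules} (hF : Coh.IsCoh F) (hG : Coh.IsCoh G) :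
    Coh.IsCoh (CohB1.tensorMod F G) := by
  haveI := hF.1
  haveI := hG.1
  obtain ⟨h1, h2⟩ := Groth.Agent.S2297.result F G
  exact ⟨h1, h2 hF.2 hG.2⟩

/-- The stalk of `Hom(L, P)` where the stalks are isomorphic and the endomorphisms are the scalars. -/
theorem nonempty_stalk_homSh_equiv {X : Scheme.{u}} [IsLocallyNoetherian X] {L P : X.Modules} (hL : Coh.IsCoh L)
    (y : X) (e : P.presheaf.stalk y ≃ₗ[X.presheaf.stalk y] L.presheaf.stalk y)
    (hEnd : Function.Bijective fun b : X.presheaf.stalk y =>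
      b • (LinearMap.id : P.presheaf.stalk y →ₗ[X.presheaf.stalk y] P.presheaf.stalk y)) :
    Nonempty ((RefHull.homSh L P).presheaf.stalk y ≃ₗ[X.presheaf.stalk y] X.presheaf.stalk y) :=
  ⟨(LinearEquiv.ofBijective (RefHull.evalStalk L P y)
      (RefHullLib.evalStalk_bijective (G := P) (QCohLib.isFP_of_isCoh L hL) y)).trans
    ((LinearEquiv.arrowCongr e.symm (LinearEquiv.refl _ _)).trans
      (LinearEquiv.ofBijective (LinearMap.toSpanSingleton _ _ LinearMap.id) hEnd).symm)⟩

variable {A : Type u} [CommRing A] [IsNoetherianRing A] {Y : Scheme.{u}} [Y.Over (Spec (CommRingCat.of A))]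
  [IsProper (Y ↘ Spec (CommRingCat.of A))] {d : ℕ}
  (hS : RelCanon.IsSkMor (Y ↘ Spec (CommRingCat.of A)) 2)
  (hd : Cyc.HasRelDim (Y ↘ Spec (CommRingCat.of A)) d)
  {ω : Y.Modules} (hω : RelCanon.IsDualizingSheaf A Y d ω) {L : Y.Modules} (hL : Coh.IsCoh L)
  (t : Spec (CommRingCat.of A)) (hLf : FlatMod.IsFlatOver (Y ↘ Spec (CommRingCat.of A)) L)
  (hLt : RelCanon.IsDualizingSheafFib (Y ↘ Spec (CommRingCat.of A)) d L t)

include hS hd hω hL hLf hLt in
/-- Where the deformation is locally the relative canonical sheaf, that sheaf commutes with passage to the fibre. -/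
theorem canonical_along_fibre
    (he : ∀ w : (Y ↘ Spec (CommRingCat.of A)).fiber t,
      Nonempty (ω.presheaf.stalk ((Y ↘ Spec (CommRingCat.of A)).fiberι t w)
        ≃ₗ[Y.presheaf.stalk ((Y ↘ Spec (CommRingCat.of A)).fiberι t w)]
          L.presheaf.stalk ((Y ↘ Spec (CommRingCat.of A)).fiberι t w))) :
    (∀ y : Y, (Y ↘ Spec (CommRingCat.of A)) y = t →
      RelCanon.InvertibleAt (RefHull.homSh L ω) y ∧ RelCanon.RelSkAt (Y ↘ Spec (CommRingCat.of A)) 2 ω y) ∧
    Nonempty ((Scheme.Modules.pullback ((Y ↘ Spec (CommRingCat.of A)).fiberι t)).obj (RefHull.homSh L ω) ≅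
      Coh.structureModule ((Y ↘ Spec (CommRingCat.of A)).fiber t)) ∧
    RelCanon.IsDualizingSheafFib (Y ↘ Spec (CommRingCat.of A)) d ω t ∧
    (∃ V : Y.Opens, (∀ y : Y, (Y ↘ Spec (CommRingCat.of A)) y = t → y ∈ V) ∧
      Nonempty ((CohB1.tensorMod L (RefHull.homSh L ω)).restrict V.ι ≅ ω.restrict V.ι)) := by
  let f := Y ↘ Spec (CommRingCat.of A)
  letI : (f.fiber t).Over (Spec (CommRingCat.of ((Spec (CommRingCat.of A)).residueField t))) :=
    ⟨f.fiberToSpecResidueField t⟩
  haveI : Flat (Y ↘ Spec (CommRingCat.of A)) := hS.1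
  haveI : IsNoetherianRing (CommRingCat.of A) := ‹IsNoetherianRing A›
  haveI : IsLocallyNoetherian Y := LocallyOfFiniteType.isLocallyNoetherian f
  haveI : IsLocallyNoetherian (f.fiber t) :=
    haveI := UOpenLib.lft_fiberToSpec f t
    LocallyOfFiniteType.isLocallyNoetherian (f.fiberToSpecResidueField t)
  let ι := f.fiberι t
  have hcω := QGorSecLib.isCoh_dualizing hd hω
  have hsurj : ∀ y : Y, f y = t → ∃ w, ι w = y := fun y hy =>
    show y ∈ Set.range ι by rw [f.range_fiberι]; exact hy
  have hEnd : ∀ w, _ := fun w : f.fiber t => bijective_smul_stalk hd hω hS (ι w)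
  -- the comparison with the dualizing sheaf of the fibre
  obtain ⟨φ, hφ⟩ := exists_canonical_map hd hS hω t hLt
  obtain ⟨hct, hSk⟩ := isCoh_and_skAt_dualizing_fibre hd t hLt
  have hφbij : ∀ v, Function.Bijective (RefHull.stalkMapₗ φ v) := fun v =>
    bijective_stalk_of_generizations (ConsLib.isCoh_pullback ι hcω) hct φ v fun v' _ => by
      by_cases hv : ι v' ∈ cmOpen A Y
      · exact Or.inl (hφ v' hv)
      · have hdim : (2 : WithBot ℕ∞) ≤ ringKrullDim ((f.fiber t).presheaf.stalk v') := by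
          obtain ⟨y, hy⟩ : ∃ y, ι v' = y := ⟨_, rfl⟩
          have hyt : f y = t := hy ▸ (f.range_fiberι t).le ⟨v', rfl⟩
          subst hyt
          have hv' : v' = f.asFiber y := (f.fiberι (f y)).isEmbedding.injective (hy.trans (by simp))
          rw [hv']
          exact (lt_dim_of_notMem_cmOpen hS (hy ▸ hv)).le
        have h2 := two_le_depth_dualizing_fibre hd t hLt v' hdim
        obtain ⟨e₀⟩ := he v'
        obtain ⟨ep⟩ := nonempty_pullback_stalk_equiv ι v' e₀
        exact Or.inr ⟨h2.trans_eq (CommAlgDim.depth_congr ep).symm, h2⟩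
  haveI : IsIso φ := FiltSectLib.isIso_of_stalks φ fun v => by
    exact (ConcreteCategory.isIso_iff_bijective _).2 (hφbij v)
  -- `Hom(L, ω)` is invertible along the fibre
  have hcM := RefHullLib.isCoh_homSh (F := L) (G := ω) hL hcω
  have hinv : ∀ w, RelCanon.InvertibleAt (RefHull.homSh L ω) (ι w) := fun w => by
    obtain ⟨e₀⟩ := he w
    obtain ⟨eM⟩ := nonempty_stalk_homSh_equiv hL (ι w) e₀ (hEnd w)
    exact QGorDescLib.invertibleAt_of_stalk hcM eM
  -- evaluation is bijective along the fibre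
  have hev : ∀ w, Function.Bijective (RefHull.stalkMapₗ (evSh L ω) (ι w)) := fun w => by
    obtain ⟨e₀⟩ := he w
    exact bijective_stalk_evSh hL (ι w) e₀ (hEnd w)
  refine ⟨fun y hy => ?_, ?_, QGorBridgeLib.isDualizingSheaf_of_iso (asIso φ).symm hLt,
    ⟨_, isOpen_bijective (isCoh_tensor hL hcM) hcω (evSh L ω)⟩, ?_, ?_⟩
  · obtain ⟨w, hw⟩ := hsurj y hy
    refine ⟨hw ▸ hinv w, ?_⟩
    subst hy
    obtain rfl : w = f.asFiber y := (f.fiberι (f y)).isEmbedding.injective (hw.trans (by simp))
    obtain ⟨e₀⟩ := he (f.asFiber y)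
    obtain ⟨ep⟩ := nonempty_pullback_stalk_equiv ι (f.asFiber y) e₀
    refine ⟨?_, DepthLib.hasSk_congr ep.symm 2 (hSk (f.asFiber y)).1⟩
    have := isFlatOverAt_congr f e₀.symm (hLf _)
    rwa [hw] at this
  · let ψ := (Scheme.Modules.pullback ι).map (evSh L ω)
    haveI : IsIso ψ := FiltSectLib.isIso_of_stalks ψ fun v => bijective_stalk_pullback ι (evSh L ω) v (hev v)
    let e : CohB1.tensorMod ((Scheme.Modules.pullback ι).obj L) ((Scheme.Modules.pullback ι).obj (RefHull.homSh L ω)) ≅
        (Scheme.Modules.pullback ι).obj L :=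
      (EGA2SymLib.pullθIso ι L (RefHull.homSh L ω)).symm ≪≫ asIso ψ ≪≫ asIso φ
    obtain ⟨g, sq⟩ := exists_fibre_square (A := A) (Y := Y) t
    haveI : IsProper (f.fiber t ↘ Spec (CommRingCat.of ((Spec (CommRingCat.of A)).residueField t))) :=
      MorphismProperty.of_isPullback (P := @IsProper) sq inferInstance
    haveI : Flat (f.fiber t ↘ Spec (CommRingCat.of ((Spec (CommRingCat.of A)).residueField t))) :=
      MorphismProperty.of_isPullback (P := @Flat) sq inferInstance
    haveI := QGorEndLib.isIso_scalarMap (FibDimLib.hasRelDim_baseChange sq hd) hLt (isSkMor_baseChange hS sq)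
    exact nonempty_iso_of_tensor (fun v => QGorBCLib.invertibleAt_pullback ι (hinv v)) e
  · intro y hy
    obtain ⟨w, rfl⟩ := hsurj y hy
    exact hev w
  · haveI := RefHullLib.isIso_restrict
      (Scheme.Opens.ι (X := Y) ⟨_, isOpen_bijective (isCoh_tensor hL hcM) hcω (evSh L ω)⟩) (evSh L ω) fun v => v.2
    exact ⟨asIso ((Scheme.Modules.restrictFunctor _).map (evSh L ω))⟩

end QGorLiftLib
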