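import Groth.Agent.QGorLiftLib.RootAlg
import Groth.Agent.RestrictFinLib.Main
import Groth.Agent.S4718
import Mathlib.RingTheory.Ideal.KrullsHeightTheorem

/-!
# Roots of forms on the thickenings of a fibre
-/

set_option autoImplicit false

universe u

open IsLocalRing CommAlgDim
open scoped TensorProduct Pointwise

namespace QGorLiftLib

section
variable {B : Type u} [CommRing B] [IsNoetherianRing B] [IsLocalRing B] {K : Type u} [AddCommGroup K] [Module B K]
  {C : Type u} [CommRing C] [IsLocalRing C] [Algebra B C]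

/-- A power of a section equal to a form near the points where a set of depth two is avoided differs from it by a
unit. -/
theorem exists_unit_const (hs : Function.Surjective (algebraMap B C)) {k : ℕ} (q : K → B)
    (hq : ∀ (c : B) (x : K), q (c • x) = c ^ k * q x) (σ : K →ₗ[B] C)
    (hloc : ∀ (p : Ideal B) [p.IsPrime], RingHom.ker (algebraMap B C) ≤ p →
      (∃ (g s : B) (t : K) (l : K →ₗ[B] B), g ∉ p ∧ (∀ x, g • x = l x • t) ∧ q t ∉ p ∧ s ∉ p ∧
        algebraMap B C s = σ t) ∨
      (2 : ℕ∞) ≤ LocCoh.depth (Localization.AtPrime p) (LocalizedModule p.primeCompl C)) :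
    ∃ c : C, IsUnit c ∧ ∀ x, algebraMap B C (q x) = c * σ x ^ k := by
  haveI : Module.Finite B C := Module.Finite.of_surjective (Algebra.linearMap B C) hs
  haveI : IsNoetherianRing C := isNoetherianRing_of_surjective B C _ hs
  let al := algebraMap B C
  let I : Ideal B :=
    { carrier := {f | (∃ c : C, ∀ x, al f * al (q x) = c * σ x ^ k) ∧
        ∀ c : C, (∀ x, c * σ x ^ k = 0) → al f * c = 0}
      add_mem' := by
        rintro f g ⟨⟨c, hc⟩, hf⟩ ⟨⟨c', hc'⟩, hg⟩
        exact ⟨⟨c + c', fun x => by rw [map_add]; linear_combination hc x + hc' x⟩,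
          fun d hd => by rw [map_add]; linear_combination hf d hd + hg d hd⟩
      zero_mem' := ⟨⟨0, fun x => by simp⟩, fun d _ => by simp⟩
      smul_mem' := by
        rintro b f ⟨⟨c, hc⟩, hf⟩
        exact ⟨⟨al b * c, fun x => by rw [smul_eq_mul, map_mul]; linear_combination al b * hc x⟩,
          fun d hd => by rw [smul_eq_mul, map_mul]; linear_combination al b * hf d hd⟩ }
  have hfac : ∀ (g s : B) (t : K) (l : K →ₗ[B] B), (∀ x, g • x = l x • t) → al s = σ t →
      (g * s) ^ k ∈ I := by
    intro g s t l hgt hst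
    have hσ : ∀ x, al g * σ x = al (l x) * σ t := fun x => by
      rw [← Algebra.smul_def, ← Algebra.smul_def, ← map_smul, ← map_smul, hgt]
    refine ⟨⟨al (g ^ k * q t), fun x => ?_⟩, fun d hd => ?_⟩
    · have h1 : al g ^ k * al (q x) = al (l x) ^ k * al (q t) := by
        rw [← map_pow, ← map_pow, ← map_mul, ← map_mul, ← hq, ← hq, hgt]
      have h2 : al g ^ k * σ x ^ k = al (l x) ^ k * σ t ^ k := by rw [← mul_pow, hσ, mul_pow]
      rw [map_pow, map_mul, map_mul, map_pow, hst, mul_pow]
      linear_combination (σ t ^ k) * h1 - al (q t) * h2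
    · rw [map_pow, map_mul, hst, mul_pow]
      linear_combination al g ^ k * hd t
  have hdepth : ∀ (p : Ideal B) [p.IsPrime], RingHom.ker al ≤ p → I ≤ p →
      (2 : ℕ∞) ≤ LocCoh.depth (Localization.AtPrime p) (LocalizedModule p.primeCompl C) := by
    intro p hp hk hle
    refine (hloc p hk).resolve_left fun ⟨g, s, t, l, hg, hgt, _, hs', hst⟩ => ?_
    have := hle (hfac g s t l hgt hst)
    exact (hp.mem_or_mem (hp.mem_of_pow_mem _ this)).elim hg hs'
  have hkI : RingHom.ker al ≤ I := fun f hf => ⟨⟨0, fun x => by rw [RingHom.mem_ker.1 hf, zero_mul, zero_mul]⟩,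
    fun d _ => by rw [RingHom.mem_ker.1 hf, zero_mul]⟩
  obtain ⟨a, ⟨⟨ca, hca⟩, ha⟩, b, ⟨⟨cb, hcb⟩, -⟩, hab⟩ := exists_R2 (Q := C) I
    ((hasSeqIn_iff_forall_localization I 2).2 fun p hp hle => by exact_mod_cast hdepth p (hkI.trans hle) hle)
  have hd0 : al b * ca - al a * cb = 0 := hab.1 _ (by
    rw [Algebra.smul_def]
    exact ha _ fun x => by linear_combination al a * hcb x - al b * hca x)
  obtain ⟨c, hc⟩ := hab.2 ca cb (by rw [Algebra.smul_def, Algebra.smul_def]; linear_combination hd0)
  have hc' : ∀ x, al (q x) = c * σ x ^ k := fun x => sub_eq_zero.1 (hab.1 _ (by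
    have h := hca x
    rw [hc] at h
    simp only [Algebra.smul_def] at h ⊢
    linear_combination h))
  refine ⟨c, ?_, hc'⟩
  by_contra hu
  obtain ⟨P, hP, -⟩ := Ideal.exists_minimalPrimes_le (I := Ideal.span {c}) (J := maximalIdeal C)
    ((Ideal.span_singleton_le_iff_mem _).2 (by rwa [mem_maximalIdeal, mem_nonunits_iff]))
  haveI hPp : P.IsPrime := hP.1.1
  let p := P.comap al
  have hcP : c ∈ P := hP.1.2 (Ideal.mem_span_singleton_self c)
  rcases hloc p (fun f hf => by
      show al f ∈ P
      rw [RingHom.mem_ker.1 hf]; exact zero_mem _) with ⟨g, s, t, l, -, -, hqt, -, -⟩ | h2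
  · apply hqt
    show al (q t) ∈ P
    rw [hc' t]
    exact Ideal.mul_mem_right _ _ hcP
  · have h3 : (2 : ℕ∞) ≤ LocCoh.depth (Localization.AtPrime P) (LocalizedModule P.primeCompl C) :=
      h2.trans_eq (RestrictFinLib.sdim_sdep_of_surjective hs C P).2
    let ε : LocalizedModule P.primeCompl C ≃ₗ[Localization.AtPrime P] Localization.AtPrime P :=
      (IsLocalizedModule.iso P.primeCompl (Algebra.linearMap C (Localization.AtPrime P))).extendScalarsOfIsLocalization
        P.primeCompl (Localization.AtPrime P)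
    rw [CommAlgDim.depth_congr ε] at h3
    haveI : IsNoetherianRing (Localization.AtPrime P) := IsLocalization.isNoetherianRing P.primeCompl _ inferInstance
    have h4 := (Groth.Agent.S4718.depth_le_supportDim (Localization.AtPrime P) (Localization.AtPrime P)).trans_eq
      (Module.supportDim_self_eq_ringKrullDim _)
    rw [IsLocalization.AtPrime.ringKrullDim_eq_height P (Localization.AtPrime P)] at h4
    have h5 : P.height ≤ 1 := Ideal.height_le_one_of_isPrincipal_of_mem_minimalPrimes (Ideal.span {c}) P hP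
    have h6 : LocCoh.depth (Localization.AtPrime P) (Localization.AtPrime P) ≤ P.height := WithBot.coe_le_coe.1 h4
    exact absurd (h3.trans (h6.trans h5)) (by decide)

end

variable {A : Type u} [CommRing A] [IsLocalRing A] [IsNoetherianRing A]
  {B : Type u} [CommRing B] [IsNoetherianRing B] [IsLocalRing B] [Algebra A B] [IsLocalHom (algebraMap A B)]
  [Module.Flat A B] (K : Type u) [AddCommGroup K] [Module B K]

/-- The ideals of the thickenings of the fibre. -/
abbrev thick (A : Type u) [CommRing A] [IsLocalRing A] {B : Type u} [CommRing B] [Algebra A B] (n : ℕ) : Ideal B :=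
  (maximalIdeal A ^ (n + 1)).map (algebraMap A B)

omit [IsNoetherianRing A] [IsNoetherianRing B] [IsLocalRing B] [IsLocalHom (algebraMap A B)] [Module.Flat A B] in
theorem sub_eq_thick (n : ℕ) : sub (B := B) (maximalIdeal A ^ (n + 1)) B = thick (B := B) A n := by
  rw [sub, smul_eq_mul, Ideal.mul_top]

/-- Roots of a form lift to all thickenings of the fibre across a set of depth two. -/
theorem exists_roots {k : ℕ} (hk : 0 < k) (hku : IsUnit (k : B)) (q : K → B)
    (hq : ∀ (c : B) (x : K), q (c • x) = c ^ k * q x)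
    (σ : K →ₗ[B] B ⧸ thick (B := B) A 0)
    (hσ : ∀ x, σ x ^ k = Ideal.Quotient.mk _ (q x))
    (hloc : ∀ (p : Ideal B) [p.IsPrime],
      (∃ (g : B) (t : K) (l : K →ₗ[B] B), g ∉ p ∧ (∀ x, g • x = l x • t) ∧ q t ∉ p) ∨
      (2 : ℕ∞) ≤ LocCoh.depth (Localization.AtPrime p) (LocalizedModule p.primeCompl (Pq (B := B) A B 0)))
    (n : ℕ) : ∃ φ : K →ₗ[B] B ⧸ thick (B := B) A n, (∀ x, φ x ^ k = Ideal.Quotient.mk _ (q x)) ∧
      ∀ x z, φ x = Ideal.Quotient.mk _ z → σ x = Ideal.Quotient.mk _ z := by
  induction n with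
  | zero => exact ⟨σ, hσ, fun x z h => h⟩
  | succ n ih =>
    obtain ⟨φ, hφ, hφσ⟩ := ih
    have hle : thick (B := B) A (n + 1) ≤ thick (B := B) A n :=
      Ideal.map_mono (Ideal.pow_le_pow_right (Nat.le_succ _))
    let π : (B ⧸ thick (B := B) A (n + 1)) →ₐ[B] B ⧸ thick (B := B) A n := Ideal.Quotient.factorₐ B hle
    obtain ⟨κ, hκ⟩ := hku.exists_left_inv
    obtain ⟨ψ, hψ1, hψ2⟩ := exists_root_lift π (Ideal.Quotient.factor_surjective hle)
      (fun z z' hz hz' => by
        obtain ⟨y, rfl⟩ := Ideal.Quotient.mk_surjective z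
        obtain ⟨y', rfl⟩ := Ideal.Quotient.mk_surjective z'
        rw [← map_mul]
        refine Ideal.Quotient.eq_zero_iff_mem.2 ?_
        have h1 : y ∈ thick (B := B) A n := Ideal.Quotient.eq_zero_iff_mem.1 hz
        have h2 : y' ∈ thick (B := B) A n := Ideal.Quotient.eq_zero_iff_mem.1 hz'
        have h3 := Ideal.mul_mem_mul h1 h2
        rw [← Ideal.map_mul, ← pow_add] at h3
        exact Ideal.map_mono (Ideal.pow_le_pow_right (by omega)) h3)
      hk hκ q hq φ (fun x => hφ x) fun I hI => by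
        obtain ⟨a, ha, b, hb, hab⟩ := exists_R2 (Q := Pq (B := B) A B 0) I
          ((hasSeqIn_iff_forall_localization I 2).2 fun p hp hle' => by
            have h2 := (hloc p).resolve_left fun ⟨g, t, l, hg, hgt, hqt⟩ => hqt (hI p hp hle' g t l hg hgt)
            exact_mod_cast h2)
        exact ⟨a, ha, b, hb, R2.congr (Submodule.quotEquivOfEq _ _ (sub_eq_thick (n + 1))) (R2.thick B hab (n + 1)),
          R2.congr (Submodule.quotEquivOfEq _ _ (sub_eq_thick n)) (R2.thick B hab n)⟩
    exact ⟨ψ, hψ2, fun x z hz => hφσ x z (by rw [← hψ1, hz]; rfl)⟩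

end QGorLiftLib
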