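import Groth.Agent.QGorLiftLib.CanIso
import Groth.Agent.QGorLiftLib.RootThick

/-!
# Deformations of a canonical module with an invertible power
-/

set_option autoImplicit false

universe u

open IsLocalRing CommAlgDim
open scoped TensorProduct Pointwise

namespace QGorLiftLib

variable {A : Type u} [CommRing A] [IsLocalRing A] [IsNoetherianRing A]
  {B : Type u} [CommRing B] [IsNoetherianRing B] [IsLocalRing B] [Algebra A B] [IsLocalHom (algebraMap A B)]
  [Module.Flat A B]
  {P : Type u} [AddCommGroup P] [Module B P] [Module A P] [IsScalarTower A B P] [Module.Finite B P]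
  [Module.Flat A P] {K : Type u} [AddCommGroup K] [Module B K] [Module.Finite B K]

/-- Homomorphisms to the canonical module are the multiples of one of them when a power is so. -/
theorem exists_generator_of_power (σ : K →ₗ[B] Pq (B := B) A P 0)
    (hEndK : ∀ φ : K →ₗ[B] K, ∃ b : B, ∀ x, φ x = b • x)
    (hfaithK : ∀ b : B, (∀ x : K, b • x = 0) → b = 0)
    (hEnd : ∀ φ : Pq (B := B) A P 0 →ₗ[B] Pq (B := B) A P 0, ∃ b : B, ∀ z, φ z = b • z)
    (hfaith : ∀ b : B, (∀ z : Pq (B := B) A P 0, b • z = 0) → b ∈ (maximalIdeal A).map (algebraMap A B))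
    {k : ℕ} (hk : 0 < k) (hku : IsUnit (k : B))
    (q : (P →ₗ[B] K) → B) (hq : ∀ (c : B) (m : P →ₗ[B] K), q (c • m) = c ^ k * q m)
    (q' : (K →ₗ[B] P) → B)
    (hqq : ∀ (g : B) (m : P →ₗ[B] K) (m' : K →ₗ[B] P), m'.comp m = g • LinearMap.id →
      m.comp m' = g • LinearMap.id → q' m' * q m = g ^ k)
    (hfib : ∀ (p : Ideal B) [p.IsPrime], (maximalIdeal A).map (algebraMap A B) ≤ p →
      (CanonAt p σ ∧ IsoModAt p K P) ∨
      ((2 : ℕ∞) ≤ LocCoh.depth (Localization.AtPrime p) (LocalizedModule p.primeCompl (Pq (B := B) A P 0)) ∧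
        (2 : ℕ∞) ≤ LocCoh.depth (Localization.AtPrime p)
          (LocalizedModule p.primeCompl (B ⧸ (maximalIdeal A).map (algebraMap A B)))))
    (hgen : ∀ (p : Ideal B) [p.IsPrime], IsoModAt p K P ∨
      ((2 : ℕ∞) ≤ LocCoh.depth (Localization.AtPrime p) (LocalizedModule p.primeCompl K) ∧
        (2 : ℕ∞) ≤ LocCoh.depth (Localization.AtPrime p) (LocalizedModule p.primeCompl B))) :
    ∃ h : P →ₗ[B] K, ∀ m : P →ₗ[B] K, ∃ a : B, m = a • h := by
  let I := (maximalIdeal A).map (algebraMap A B)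
  have hI0 : thick (B := B) A 0 = I := by
    show (maximalIdeal A ^ (0 + 1)).map (algebraMap A B) = I
    rw [zero_add, pow_one]
  let C := B ⧸ thick (B := B) A 0
  let π : P →ₗ[B] Pq (B := B) A P 0 := Submodule.mkQ _
  have hπ : Function.Surjective π := Submodule.mkQ_surjective _
  -- the homomorphisms from `P` to the fibre
  let e₀ : C →ₗ[B] (P →ₗ[B] Pq (B := B) A P 0) :=
    Submodule.liftQ _ (LinearMap.toSpanSingleton B _ π) fun b hb => LinearMap.ext fun x =>
      (Submodule.Quotient.mk_eq_zero (sub (B := B) (maximalIdeal A ^ (0 + 1)) P) (x := b • x)).2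
        (Submodule.smul_mem_smul hb trivial)
  have he₀ : Function.Bijective e₀ := by
    refine ⟨(injective_iff_map_eq_zero _).2 fun c hc => ?_, fun φ => ?_⟩
    · obtain ⟨b, rfl⟩ := Ideal.Quotient.mk_surjective c
      refine Ideal.Quotient.eq_zero_iff_mem.2 (hI0.ge (hfaith b fun z => ?_))
      obtain ⟨x, rfl⟩ := hπ z
      exact LinearMap.congr_fun hc x
    · have hle : sub (B := B) (maximalIdeal A ^ (0 + 1)) P ≤ LinearMap.ker φ :=
        Submodule.smul_le.2 fun c hc x _ => by
          rw [LinearMap.mem_ker, map_smul]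
          obtain ⟨y, hy⟩ := hπ (φ x)
          rw [← hy, ← map_smul]
          exact (Submodule.Quotient.mk_eq_zero _).2 (Submodule.smul_mem_smul hc trivial)
      obtain ⟨b, hb⟩ := hEnd ((sub (B := B) (maximalIdeal A ^ (0 + 1)) P).liftQ φ hle)
      exact ⟨Ideal.Quotient.mk _ b, LinearMap.ext fun x => (hb (π x)).symm⟩
  let E₀ := LinearEquiv.ofBijective e₀ he₀
  let μ : (P →ₗ[B] K) →ₗ[B] C :=
    E₀.symm.toLinearMap.comp (LinearMap.llcomp B P K (Pq (B := B) A P 0) σ)
  have hμ : ∀ (m : P →ₗ[B] K) (b : B), μ m = Ideal.Quotient.mk _ b → σ.comp m = b • π := fun m b h =>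
    (E₀.apply_symm_apply _).symm.trans (congrArg E₀ h)
  obtain ⟨eσ, heσ⟩ := bijective_smul_hom σ hEnd hfaith fun p hp hle => (hfib p hle).imp And.left id
  -- the points where the modules are isomorphic
  have hfac : ∀ (p : Ideal B) [p.IsPrime], IsoModAt p K P → ∃ (g : B) (t : P →ₗ[B] K) (t' : K →ₗ[B] P)
      (l : (P →ₗ[B] K) →ₗ[B] B), g ∉ p ∧ t'.comp t = g • LinearMap.id ∧ t.comp t' = g • LinearMap.id ∧
      (∀ m, g • m = l m • t) ∧ l t = g ∧ q t ∉ p := by
    rintro p hp ⟨g, hg, φ, t, h1, h2⟩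
    choose b hb using fun m : P →ₗ[B] K => hEndK (m.comp φ)
    have huniq : ∀ b b' : B, (∀ x : K, b • x = b' • x) → b = b' := fun b b' h =>
      sub_eq_zero.1 (hfaithK _ fun x => by rw [sub_smul, h, sub_self])
    refine ⟨g, t, φ,
      { toFun := b
        map_add' := fun m m' => huniq _ _ fun x => by rw [← hb, add_smul, ← hb, ← hb]; rfl
        map_smul' := fun c m => huniq _ _ fun x => by
          rw [← hb, RingHom.id_apply, smul_eq_mul, mul_smul, ← hb]; rfl }, hg, h2, h1, fun m => ?_, ?_, ?_⟩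
    · refine LinearMap.ext fun x => ?_
      show g • m x = b m • t x
      rw [← hb, LinearMap.comp_apply, show φ (t x) = g • x from LinearMap.congr_fun h2 x, map_smul]
    · exact huniq _ _ fun x => (hb t x).symm.trans (LinearMap.congr_fun h1 x)
    · intro hmem
      refine hg (hp.mem_of_pow_mem k ?_)
      rw [← hqq g t φ h2 h1]
      exact Ideal.mul_mem_left _ _ hmem
  have hkinds : ∀ (p : Ideal B) [p.IsPrime], thick (B := B) A 0 ≤ p →
      (∃ (g s : B) (t : P →ₗ[B] K) (l : (P →ₗ[B] K) →ₗ[B] B), g ∉ p ∧ (∀ m, g • m = l m • t) ∧ q t ∉ p ∧ s ∉ p ∧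
        Ideal.Quotient.mk (thick (B := B) A 0) s = μ t) ∨
      (2 : ℕ∞) ≤ LocCoh.depth (Localization.AtPrime p) (LocalizedModule p.primeCompl C) := by
    intro p hp hle
    rcases hfib p (hI0.ge.trans hle) with ⟨⟨-, -, g', hg', ρ, hρ1, hρ2⟩, hiso⟩ | ⟨-, h2⟩
    · left
      obtain ⟨g, t, φ, l, hg, h2, h1, hl, -, hqt⟩ := hfac p hiso
      obtain ⟨s, hs⟩ := Ideal.Quotient.mk_surjective (μ t)
      refine ⟨g, s, t, l, hg, hl, hqt, fun hsp => ?_, hs⟩
      obtain ⟨d, hd⟩ := Submodule.Quotient.mk_surjective _ (eσ.symm (π.comp φ))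
      have hd' : π.comp φ = d • σ := by rw [← heσ, hd, eσ.apply_symm_apply]
      have h3 : (g - s * d) * g' ∈ I := hfaith _ fun z => by
        obtain ⟨x, hx⟩ := Submodule.Quotient.mk_surjective _ (ρ z)
        rw [mul_smul, ← hρ2 z x hx.symm, sub_smul, sub_eq_zero, mul_smul,
          show d • σ x = π (φ x) from (LinearMap.congr_fun hd' x).symm,
          show s • π (φ x) = σ (t (φ x)) from (LinearMap.congr_fun (hμ t s hs.symm) (φ x)).symm,
          show t (φ x) = g • x from LinearMap.congr_fun h1 x, map_smul]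
      have h4 : (g - s * d) ∈ p := (hp.mem_or_mem ((hI0.ge.trans hle : I ≤ p) h3)).resolve_right hg'
      exact hg (by simpa using p.add_mem h4 (p.mul_mem_right d hsp))
    · right
      exact h2.trans_eq (depth_localized_congr p (Submodule.quotEquivOfEq _ _ hI0).symm)
  have hImax : thick (B := B) A 0 ≤ maximalIdeal B :=
    hI0.le.trans (Ideal.map_le_iff_le_comap.2 fun a ha => map_nonunit (algebraMap A B) a ha : I ≤ maximalIdeal B)
  haveI : Nontrivial C := Ideal.Quotient.nontrivial_iff.2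
    fun h => (maximalIdeal.isMaximal B).ne_top (top_le_iff.1 (h.ge.trans hImax))
  haveI : IsLocalRing C := IsLocalRing.of_surjective' (Ideal.Quotient.mk _) Ideal.Quotient.mk_surjective
  have hker : RingHom.ker (algebraMap B C) = thick (B := B) A 0 := Ideal.mk_ker
  obtain ⟨c, hcu, hc⟩ := exists_unit_const (K := P →ₗ[B] K) (C := C) Ideal.Quotient.mk_surjective q hq μ
    fun p hp hle => hkinds p (hker.ge.trans hle)
  obtain ⟨c₀, hc₀⟩ := Ideal.Quotient.mk_surjective c
  have hc₀u : IsUnit c₀ := by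
    by_contra h
    obtain ⟨v, hv⟩ := hcu.exists_left_inv
    obtain ⟨v₀, rfl⟩ := Ideal.Quotient.mk_surjective v
    rw [← hc₀, ← map_mul, ← map_one (Ideal.Quotient.mk (thick (B := B) A 0)), Ideal.Quotient.mk_eq_mk_iff_sub_mem] at hv
    have h1 : v₀ * c₀ - 1 ∈ maximalIdeal B := hImax hv
    exact (maximalIdeal.isMaximal B).ne_top ((Ideal.eq_top_iff_one _).2
      (by simpa using (maximalIdeal B).sub_mem ((maximalIdeal B).mul_mem_left v₀ ((mem_maximalIdeal _).2 h)) h1))
  obtain ⟨c₁, hc₁⟩ := hc₀u.exists_left_inv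
  let q₁ : (P →ₗ[B] K) → B := fun m => c₁ * q m
  have hq₁ : ∀ (b : B) (m : P →ₗ[B] K), q₁ (b • m) = b ^ k * q₁ m := fun b m => by
    show c₁ * q (b • m) = b ^ k * (c₁ * q m)
    rw [hq]; ring
  have hμk : ∀ m, μ m ^ k = Ideal.Quotient.mk _ (q₁ m) := fun m => by
    rw [map_mul, show Ideal.Quotient.mk _ (q m) = c * μ m ^ k from hc m, ← hc₀, ← mul_assoc, ← map_mul, hc₁, map_one,
      one_mul]
  let jB : Pq (B := B) A B 0 ≃ₗ[B] C := Submodule.quotEquivOfEq _ _ (sub_eq_thick 0)
  have hroots := exists_roots (A := A) (P →ₗ[B] K) hk hku q₁ hq₁ μ hμk fun p hp => by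
    by_cases hIp : thick (B := B) A 0 ≤ p
    · rcases hkinds p hIp with ⟨g, s, t, l, hg, hl, hqt, -, -⟩ | h2
      · exact Or.inl ⟨g, t, l, hg, hl, fun h => (hp.mem_or_mem h).elim
          (fun h1 => hp.ne_top (Ideal.eq_top_of_isUnit_mem _ h1 (IsUnit.of_mul_eq_one _ hc₁))) hqt⟩
      · exact Or.inr (h2.trans_eq (depth_localized_congr p jB.symm))
    · obtain ⟨b, hbI, hbp⟩ := SetLike.not_le_iff_exists.1 hIp
      have hb : ∀ x : Pq (B := B) A B 0, b • x = 0 := fun x => by
        obtain ⟨y, rfl⟩ := Submodule.Quotient.mk_surjective _ x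
        rw [← Submodule.Quotient.mk_smul]
        exact (Submodule.Quotient.mk_eq_zero _).2 (Submodule.smul_mem_smul hbI trivial)
      exact Or.inr (by exact_mod_cast le_depth_localized_of_annihilated p hbp hb 2)
  -- the homomorphisms to the fibre ring
  haveI : Module.Finite B (P →ₗ[B] K) := inferInstance
  let Φ : C →ₗ[B] ((P →ₗ[B] K) →ₗ[B] C) := Submodule.liftQ _ (LinearMap.toSpanSingleton B _ μ) fun b hb => LinearMap.ext fun m => by
      show b • μ m = 0
      obtain ⟨y, hy⟩ := Ideal.Quotient.mk_surjective (μ m)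
      rw [← hy]
      exact Ideal.Quotient.eq_zero_iff_mem.2 (Ideal.mul_mem_right y _ hb)
  have hΦmk : ∀ b : B, Φ (Ideal.Quotient.mk _ b) = b • μ := fun b => rfl
  have hΦ : Function.Bijective Φ := bijective_of_local Φ fun p hp => by
    by_cases hIp : thick (B := B) A 0 ≤ p
    · rcases hkinds p hIp with ⟨g, s, t, l, hg, hl, -, hs, hst⟩ | h2
      · have hμt : ∀ m, g • μ m = Ideal.Quotient.mk _ (l m * s) := fun m => by
          rw [← map_smul, hl, map_smul, ← hst]; rfl
        refine Or.inl ⟨fun x hx => ?_, fun φ => ?_⟩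
        · obtain ⟨b, rfl⟩ := Ideal.Quotient.mk_surjective x
          refine ⟨s, hs, ?_⟩
          show Ideal.Quotient.mk _ (s * b) = 0
          rw [mul_comm, map_mul, hst]
          exact LinearMap.congr_fun hx t
        · obtain ⟨y, hy⟩ := Ideal.Quotient.mk_surjective (φ t)
          refine ⟨g * s, fun h => (hp.mem_or_mem h).elim hg hs, Ideal.Quotient.mk _ (g * y), LinearMap.ext fun m => ?_⟩
          rw [hΦmk, LinearMap.smul_apply, LinearMap.smul_apply, mul_comm g y, mul_smul, hμt, mul_comm g s,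
            mul_smul s g (φ m), ← map_smul φ, hl, map_smul, ← hy]
          show Ideal.Quotient.mk _ (y * (l m * s)) = Ideal.Quotient.mk _ (s * (l m * y))
          congr 1; ring
      · exact Or.inr ⟨h2, two_le_depth_hom p _ C h2⟩
    · obtain ⟨b, hbI, hbp⟩ := SetLike.not_le_iff_exists.1 hIp
      have hb : ∀ x : C, b • x = 0 := fun x => by
        obtain ⟨y, rfl⟩ := Ideal.Quotient.mk_surjective x
        exact Ideal.Quotient.eq_zero_iff_mem.2 (Ideal.mul_mem_right y _ hbI)
      exact Or.inl ⟨fun x _ => ⟨b, hbp, hb x⟩, fun φ => ⟨b, hbp, 0, by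
        rw [map_zero]; exact LinearMap.ext fun m => (hb (φ m)).symm⟩⟩
  obtain ⟨hflat, hsurj, hker'⟩ := flat_hom_of_lifts B (P →ₗ[B] K) fun n φ => by
    obtain ⟨φn, -, hφn⟩ := hroots n
    obtain ⟨x, hx⟩ := hΦ.2 (jB.toLinearMap.comp φ)
    obtain ⟨b, rfl⟩ := Ideal.Quotient.mk_surjective x
    let jn := Submodule.quotEquivOfEq _ _ (sub_eq_thick (A := A) (B := B) n)
    refine ⟨b • jn.symm.toLinearMap.comp φn, fun m z hz => jB.injective ?_⟩
    obtain ⟨y, hy⟩ := Ideal.Quotient.mk_surjective (φn m)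
    have h1 : μ m = Ideal.Quotient.mk _ y := hφn m y hy.symm
    have h4 : (Submodule.Quotient.mk z : Pq (B := B) A B n) = Submodule.Quotient.mk (b * y) := by
      rw [← hz, LinearMap.smul_apply, LinearMap.comp_apply, LinearEquiv.coe_coe, ← hy]
      rfl
    have hle : sub (B := B) (maximalIdeal A ^ (n + 1)) B ≤ sub (B := B) (maximalIdeal A ^ (0 + 1)) B :=
      Submodule.smul_mono_left (Ideal.map_mono (Ideal.pow_le_pow_right (by omega)))
    rw [show (Submodule.Quotient.mk z : Pq (B := B) A B 0) = Submodule.Quotient.mk (b * y) from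
      (Submodule.Quotient.eq _).2 (hle ((Submodule.Quotient.eq _).1 h4))]
    exact (LinearMap.congr_fun hx m).symm.trans (congrArg (b • ·) h1)
  obtain ⟨τ, hτ⟩ := hsurj (jB.symm.toLinearMap.comp μ)
  let D := (P →ₗ[B] K) →ₗ[B] B
  haveI : Module.Finite B D := inferInstance
  haveI : Module.Flat A D := hflat
  have hdec : ∀ (b : B) (τ' : D), jB.toLinearMap.comp ((Submodule.mkQ _).comp τ') = b • μ →
      τ' - b • τ ∈ sub (B := B) (maximalIdeal A) D := fun b τ' h => hker' _ fun m => by
    have h1 : jB (Submodule.Quotient.mk (τ' m)) = b • μ m := LinearMap.congr_fun h m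
    have h2 : jB (Submodule.Quotient.mk (τ m)) = μ m := by
      rw [show (Submodule.Quotient.mk (τ m) : Pq (B := B) A B 0) = jB.symm (μ m) from LinearMap.congr_fun hτ m,
        jB.apply_symm_apply]
    have h3 : (Submodule.Quotient.mk ((τ' - b • τ) m) : Pq (B := B) A B 0) = 0 := jB.injective (by
      rw [LinearMap.sub_apply, LinearMap.smul_apply, Submodule.Quotient.mk_sub, Submodule.Quotient.mk_smul,
        map_sub, map_smul, h1, h2, sub_self, map_zero])
    have h4 := (Submodule.Quotient.mk_eq_zero _).1 h3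
    rw [zero_add, pow_one] at h4
    exact h4
  have hτb : Function.Bijective (LinearMap.toSpanSingleton B D τ) := by
    refine bijective_of_bijective_quot (A := A) (LinearMap.toSpanSingleton B D τ) (fun τ' => ?_) fun b hb => ?_
    · obtain ⟨x, hx⟩ := hΦ.2 (jB.toLinearMap.comp ((Submodule.mkQ _).comp τ'))
      obtain ⟨b, rfl⟩ := Ideal.Quotient.mk_surjective x
      exact ⟨b, hdec b τ' hx.symm⟩
    · rw [sub, smul_eq_mul, Ideal.mul_top]
      refine hI0.le (Ideal.Quotient.eq_zero_iff_mem.1 (hΦ.1 (Eq.trans (LinearMap.ext fun m => ?_) (map_zero Φ).symm)))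
      rw [hΦmk, LinearMap.smul_apply, LinearMap.zero_apply, ← jB.apply_symm_apply (μ m),
        ← show (Submodule.Quotient.mk (τ m) : Pq (B := B) A B 0) = jB.symm (μ m) from LinearMap.congr_fun hτ m,
        ← map_smul jB, ← Submodule.Quotient.mk_smul, ← map_zero jB]
      refine congrArg jB ((Submodule.Quotient.mk_eq_zero _).2 ?_)
      rw [zero_add, pow_one]
      have h5 := Submodule.mem_map_of_mem (f := LinearMap.applyₗ m) hb
      rw [Submodule.map_smul''] at h5
      exact Submodule.smul_mono le_rfl le_top h5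
  let eD : B ≃ₗ[B] D := LinearEquiv.ofBijective _ hτb
  haveI : Module.Finite B (Module.Dual B D) := Module.Finite.equiv ((LinearMap.ringLmapEquivSelf B B B).symm.trans
    (LinearEquiv.congrLeft B B eD))
  have hev : Function.Bijective (Module.Dual.eval B (P →ₗ[B] K)) := bijective_of_local _ fun p hp => by
    rcases hgen p with hiso | ⟨hK, hB⟩
    · obtain ⟨g, t, φ, l, hg, -, -, hl, hlt, -⟩ := hfac p hiso
      refine Or.inl ⟨fun x hx => ⟨g, hg, ?_⟩, fun Φ' => ?_⟩
      · have h : l x = 0 := LinearMap.congr_fun hx l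
        rw [hl, h, zero_smul]
      · refine ⟨g, hg, Φ' l • t, LinearMap.ext fun ξ => ?_⟩
        have hξ : g • ξ = ξ t • l := LinearMap.ext fun m => by
          show g • ξ m = ξ t • l m
          rw [← map_smul, hl, map_smul, smul_eq_mul, smul_eq_mul, mul_comm]
        show ξ (Φ' l • t) = g • Φ' ξ
        rw [← map_smul Φ', hξ, map_smul, map_smul, smul_eq_mul, smul_eq_mul, mul_comm]
    · exact Or.inr ⟨two_le_depth_hom p P K hK, two_le_depth_hom p D B hB⟩
  let E : (P →ₗ[B] K) ≃ₗ[B] B := (LinearEquiv.ofBijective _ hev).trans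
    ((LinearEquiv.congrLeft B B eD.symm).trans (LinearMap.ringLmapEquivSelf B B B))
  exact ⟨E.symm 1, fun m => ⟨E m, by rw [← map_smul, smul_eq_mul, mul_one, E.symm_apply_apply]⟩⟩

end QGorLiftLib
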