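import Groth.Agent.QGorLiftLib.Flat

/-!
# Duals which lift along thickenings of the base are flat and commute with reduction
-/

set_option autoImplicit false

universe u

open IsLocalRing
open scoped TensorProduct Pointwise

namespace QGorLiftLib

section
variable {B : Type u} [CommRing B] [IsNoetherianRing B] (K : Type u) [AddCommGroup K] [Module B K]
  [Module.Finite B K]

/-- Generators and relations. -/
theorem exists_matrix : ∃ (b a : ℕ) (k : Fin b → K) (r : Fin a → Fin b → B),
    Submodule.span B (Set.range k) = ⊤ ∧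
    ∀ (Q : Type u) [AddCommGroup Q] [Module B Q] (q : Fin b → Q),
      (∃ φ : K →ₗ[B] Q, ∀ j, φ (k j) = q j) ↔ ∀ i, ∑ j, r i j • q j = 0 := by
  obtain ⟨b, k, hk⟩ := Submodule.fg_iff_exists_fin_generating_family.1 (Module.Finite.fg_top (R := B) (M := K))
  let π : (Fin b → B) →ₗ[B] K := Fintype.linearCombination B k
  have hπ : Function.Surjective π := by
    rw [← LinearMap.range_eq_top, Fintype.range_linearCombination, hk]
  obtain ⟨a, r, hr⟩ := Submodule.fg_iff_exists_fin_generating_family.1 (IsNoetherian.noetherian (LinearMap.ker π))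
  refine ⟨b, a, k, r, hk, fun Q _ _ q => ⟨?_, fun h => ?_⟩⟩
  · rintro ⟨φ, hφ⟩ i
    have hmem : r i ∈ LinearMap.ker π := hr.le (Submodule.subset_span ⟨i, rfl⟩)
    rw [LinearMap.mem_ker, Fintype.linearCombination_apply] at hmem
    simp only [← hφ, ← map_smul, ← map_sum, hmem, map_zero]
  · let ρ : (Fin b → B) →ₗ[B] Q := Fintype.linearCombination B q
    have hle : LinearMap.ker π ≤ LinearMap.ker ρ := by
      rw [← hr, Submodule.span_le]
      rintro _ ⟨i, rfl⟩
      simpa [ρ, Fintype.linearCombination_apply] using h i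
    refine ⟨((LinearMap.ker π).liftQ ρ hle).comp (π.quotKerEquivOfSurjective hπ).symm.toLinearMap, fun j => ?_⟩
    have hj : π (Pi.single j 1) = k j := by
      simp [π, Fintype.linearCombination_apply_single]
    rw [LinearMap.comp_apply, LinearEquiv.coe_coe, ← hj, LinearMap.quotKerEquivOfSurjective_symm_apply,
      Submodule.liftQ_apply]
    simp [ρ, Fintype.linearCombination_apply_single]

end

variable {A : Type u} [CommRing A] [IsLocalRing A] [IsNoetherianRing A]
  {B : Type u} [CommRing B] [IsNoetherianRing B] [IsLocalRing B] [Algebra A B] [IsLocalHom (algebraMap A B)]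
  (P : Type u) [AddCommGroup P] [Module B P] [Module A P] [IsScalarTower A B P]

/-- The thickenings `P / 𝔪ⁿ⁺¹ P` of the fibre. -/
abbrev Pq (A : Type u) [CommRing A] [IsLocalRing A] [Algebra A B] (P : Type u) [AddCommGroup P] [Module B P]
    (n : ℕ) : Type u :=
  P ⧸ sub (B := B) (maximalIdeal A ^ (n + 1)) P

omit [IsLocalRing A] [IsNoetherianRing A] [IsNoetherianRing B] [IsLocalRing B] [IsLocalHom (algebraMap A B)]
  [Module A P] [IsScalarTower A B P] in
theorem mem_sub_pi {ι : Type} [Fintype ι] (a : Ideal A) (x : ι → P) :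
    x ∈ sub (B := B) a (ι → P) ↔ ∀ j, x j ∈ sub (B := B) a P := by
  classical
  constructor
  · intro hx j
    refine Submodule.smul_induction_on hx (fun c hc z _ => ?_) fun z z' h h' => Submodule.add_mem _ h h'
    exact Submodule.smul_mem_smul hc (trivial : z j ∈ (⊤ : Submodule B P))
  · intro h
    rw [← Finset.univ_sum_single x]
    refine Submodule.sum_mem _ fun j _ => ?_
    have := Submodule.mem_map_of_mem (f := LinearMap.single B (fun _ : ι => P) j) (h j)
    rw [Submodule.map_smul''] at this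
    exact Submodule.smul_mono le_rfl le_top this

variable (K : Type u) [AddCommGroup K] [Module B K] [Module.Finite B K] [Module.Finite B P] [Module.Flat A P]

/-- If every homomorphism into the fibre lifts to all thickenings, then the module of homomorphisms is flat over
the base, surjects onto the homomorphisms into the fibre, and the kernel is its multiple by the maximal ideal. -/
theorem flat_hom_of_lifts
    (hlift : ∀ (n : ℕ) (φ : K →ₗ[B] Pq (B := B) A P 0), ∃ ψ : K →ₗ[B] Pq (B := B) A P n,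
      ∀ k z, ψ k = Submodule.Quotient.mk z → φ k = Submodule.Quotient.mk z) :
    Module.Flat A (K →ₗ[B] P) ∧
      (∀ φ : K →ₗ[B] Pq (B := B) A P 0, ∃ ψ : K →ₗ[B] P, (Submodule.mkQ _).comp ψ = φ) ∧
      ∀ ψ : K →ₗ[B] P, (∀ k, ψ k ∈ sub (B := B) (maximalIdeal A) P) →
        ψ ∈ sub (B := B) (maximalIdeal A) (K →ₗ[B] P) := by
  classical
  haveI hpi : ∀ n : ℕ, Module.Flat A (Fin n → P) := fun n =>
    Module.Flat.of_linearEquiv (DirectSum.linearEquivFunOnFintype A (Fin n) fun _ => P).symm
  obtain ⟨b, a, k, r, hk, hmat⟩ := exists_matrix (B := B) K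
  let T : (Fin b → P) →ₗ[B] (Fin a → P) := LinearMap.pi fun i => ∑ j, r i j • LinearMap.proj j
  have hT : ∀ x i, T x i = ∑ j, r i j • x j := fun x i => by simp [T]
  let ev : (K →ₗ[B] P) →ₗ[B] (Fin b → P) := LinearMap.pi fun j => LinearMap.applyₗ (k j)
  have hev : ∀ φ : K →ₗ[B] P, T (ev φ) = 0 := fun φ => funext fun i => by
    rw [hT]; exact (hmat P _).1 ⟨φ, fun j => rfl⟩ i
  let e : (K →ₗ[B] P) →ₗ[B] LinearMap.ker T := ev.codRestrict _ hev
  have he : Function.Bijective e := by
    refine ⟨fun φ φ' h => ?_, fun ⟨x, hx⟩ => ?_⟩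
    · refine LinearMap.ext_on hk ?_
      rintro _ ⟨j, rfl⟩
      exact congrFun (congrArg Subtype.val h) j
    · obtain ⟨φ, hφ⟩ := (hmat P x).2 fun i => (hT x i).symm.trans (congrFun (LinearMap.mem_ker.1 hx) i)
      exact ⟨φ, Subtype.ext (funext hφ)⟩
  let q := Submodule.mkQ (sub (B := B) (maximalIdeal A ^ (0 + 1)) P)
  have hsurj : ∀ x : Fin b → P, T x ∈ sub (B := B) (maximalIdeal A) (Fin a → P) →
      ∃ z ∈ LinearMap.ker T, x - z ∈ sub (B := B) (maximalIdeal A) (Fin b → P) := by
    intro x hx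
    obtain ⟨φ, hφ⟩ := (hmat (Pq (B := B) A P 0) fun j => q (x j)).2 fun i => by
      simp only [← map_smul, ← map_sum, ← hT]
      refine (Submodule.Quotient.mk_eq_zero _).2 ?_
      rw [zero_add, pow_one]
      exact (mem_sub_pi P _ _).1 hx i
    refine exists_mem_ker_of_approx T _ x fun n => ?_
    obtain ⟨ψ, hψ⟩ := hlift n φ
    choose z hz using fun j => Submodule.Quotient.mk_surjective _ (ψ (k j))
    refine ⟨z, (mem_sub_pi P _ _).2 fun j => ?_, ?_⟩
    · have h1 := (hψ (k j) (z j) (hz j).symm)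
      rw [hφ j] at h1
      have h2 := (Submodule.Quotient.eq _).1 h1
      rwa [zero_add, pow_one] at h2
    · rw [← Ideal.map_pow]
      refine (mem_sub_pi P _ _).2 fun i => (Submodule.Quotient.mk_eq_zero _).1 ?_
      rw [hT]
      show Submodule.mkQ _ (∑ j, r i j • z j) = 0
      simp only [map_sum, map_smul]
      exact (hmat _ _).1 ⟨ψ, fun j => (hz j).symm⟩ i
  haveI := flat_ker T hsurj
  let E : (K →ₗ[B] P) ≃ₗ[B] LinearMap.ker T := LinearEquiv.ofBijective e he
  refine ⟨Module.Flat.of_linearEquiv (E.restrictScalars A), fun φ => ?_, fun ψ hψ => ?_⟩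
  · choose x hx using fun j => Submodule.Quotient.mk_surjective _ (φ (k j))
    obtain ⟨z, hz, hxz⟩ := hsurj x (by
      refine (mem_sub_pi P _ _).2 fun i => ?_
      rw [← pow_one (maximalIdeal A)]
      refine (Submodule.Quotient.mk_eq_zero _).1 ?_
      rw [hT]
      show Submodule.mkQ _ (∑ j, r i j • x j) = 0
      simp only [map_sum, map_smul]
      exact (hmat _ _).1 ⟨φ, fun j => (hx j).symm⟩ i)
    refine ⟨E.symm ⟨z, hz⟩, LinearMap.ext_on hk ?_⟩
    rintro _ ⟨j, rfl⟩
    rw [LinearMap.comp_apply, ← hx j]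
    refine ((Submodule.Quotient.eq _).2 ?_).symm
    have h1 : x j - z j ∈ sub (B := B) (maximalIdeal A) P := (mem_sub_pi P _ _).1 hxz j
    have h2 : z j = (E.symm ⟨z, hz⟩) (k j) :=
      congrFun (congrArg Subtype.val (E.apply_symm_apply ⟨z, hz⟩)).symm j
    rw [zero_add, pow_one, ← h2]
    exact h1
  · have h0 : (E ψ : Fin b → P) ∈ LinearMap.ker T ⊓ sub (B := B) (maximalIdeal A) (Fin b → P) :=
      ⟨(E ψ).2, (mem_sub_pi P _ _).2 fun j => hψ (k j)⟩
    rw [ker_inf_sub_eq T hsurj] at h0
    have h1 : E ψ ∈ sub (B := B) (maximalIdeal A) (LinearMap.ker T) := (Submodule.mem_smul_top_iff _ _ _).2 h0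
    have h2 := Submodule.mem_map_of_mem (f := E.symm.toLinearMap) h1
    rw [Submodule.map_smul'', Submodule.map_top, LinearEquiv.coe_coe, LinearEquiv.symm_apply_apply] at h2
    exact Submodule.smul_mono le_rfl le_top h2

end QGorLiftLib
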