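import Groth.Agent.QGorLiftLib.Geom

/-!
# Flatness of a dual sheaf from an extension of the dual on the fibre
-/

set_option autoImplicit false
set_option linter.style.haveILetI false
set_option linter.unusedSectionVars false
set_option backward.isDefEq.respectTransparency false
set_option backward.isDefEq.respectTransparency.types false
set_option maxHeartbeats 1000000
set_option synthInstance.maxHeartbeats 200000

noncomputable section

universe u

open CategoryTheory CategoryTheory.Limits AlgebraicGeometry IsLocalRing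
open Groth.Agent
open scoped TensorProduct Pointwise

namespace QGorLiftLib

variable {X S : Scheme.{u}} [IsLocallyNoetherian X] [IsLocallyNoetherian S] (f : X ⟶ S) [Flat f]
  [LocallyOfFiniteType f]

/-- A module mapping to a dual, which reduces to the dual on the fibre, forces the dual to be flat. -/
theorem flat_dual_and_fibre_of_hom {T M N' : X.Modules} (hT : Coh.IsCoh T) (hM : Coh.IsCoh M)
    [Coh.IsQCoh N'] (u : M ⟶ N') (c : RefHull.dual T ⟶ N') (s : S) (w : f.fiber s)
    (hc : Function.Bijective (RefHull.stalkMapₗ c (f.fiberι s w)))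
    (e : ((Scheme.Modules.pullback (f.fiberι s)).obj M).presheaf.stalk w ≃ₗ[(f.fiber s).presheaf.stalk w]
      (RefHull.dual ((Scheme.Modules.pullback (f.fiberι s)).obj T)).presheaf.stalk w)
    (hloc : ∀ v : f.fiber s, v ⤳ w →
      (RelCanon.InvertibleAt T (f.fiberι s v) ∧
        Function.Surjective (RefHull.stalkMapₗ u (f.fiberι s v))) ∨
      (2 : ℕ∞) ≤ LocCoh.depth ((f.fiber s).presheaf.stalk v)
        ((RefHull.dual ((Scheme.Modules.pullback (f.fiberι s)).obj T)).presheaf.stalk v)) :
    FlatMod.IsFlatOverAt f (RefHull.dual T) (f.fiberι s w) ∧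
      Nonempty (((Scheme.Modules.pullback (f.fiberι s)).obj (RefHull.dual T)).presheaf.stalk w ≃ₗ[(f.fiber s).presheaf.stalk w]
        (RefHull.dual ((Scheme.Modules.pullback (f.fiberι s)).obj T)).presheaf.stalk w) := by
  haveI : IsLocallyNoetherian (f.fiber s) :=
    haveI : LocallyOfFiniteType (f.fiberToSpecResidueField s) :=
      inferInstanceAs (LocallyOfFiniteType (Limits.pullback.snd _ _))
    LocallyOfFiniteType.isLocallyNoetherian (f.fiberToSpecResidueField s)
  let ι := f.fiberι s
  let B := X.presheaf.stalk (ι w)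
  let C := (f.fiber s).presheaf.stalk w
  let K := T.presheaf.stalk (ι w)
  let N := M.presheaf.stalk (ι w)
  let Tt := (Scheme.Modules.pullback ι).obj T
  have hTt := ConsLib.isCoh_pullback ι hT
  have hD := RefHullLib.isCoh_dual hTt
  letI : Algebra B C := (ι.stalkMap w).hom.toAlgebra
  obtain ⟨hsC, -⟩ := Groth.Agent.S9501.result f s w
  replace hsC : Function.Surjective (algebraMap B C) := hsC
  let I : Ideal B := RingHom.ker (algebraMap B C)
  let D := (RefHull.dual Tt).presheaf.stalk w
  letI : Module B D := Module.compHom D (algebraMap B C)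
  haveI : IsScalarTower B C D := IsScalarTower.of_algebraMap_smul fun _ _ => rfl
  obtain ⟨ed⟩ := RefHullLib.nonempty_dual_stalk hTt w
  obtain ⟨ez⟩ := RefHullLib.nonempty_dual_stalk hT (ι w)
  let eT : C ⊗[B] K ≃ₗ[C] Tt.presheaf.stalk w := ((KFlatLib.stalkPullIso ι w).symm.app T).toLinearEquiv
  let eQ : (K →ₗ[B] C) ≃ₗ[B] D :=
    ((LinearMap.liftBaseChangeEquiv C).trans ((LinearEquiv.congrLeft C C eT).trans ed.symm)).restrictScalars B
  haveI : Module.Finite C D := ZClosLib.finite_stalk hD w
  haveI : Module.Finite B C := Module.Finite.of_surjective (Algebra.linearMap B C) hsC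
  haveI : Module.Finite B D := Module.Finite.trans C D
  haveI : Module.Finite B (K →ₗ[B] C) := Module.Finite.equiv eQ.symm
  let cz : (RefHull.dual T).presheaf.stalk (ι w) ≃ₗ[B] N'.presheaf.stalk (ι w) :=
    LinearEquiv.ofBijective (RefHull.stalkMapₗ c (ι w)) hc
  let β : N →ₗ[B] (K →ₗ[B] C) :=
    (LinearMap.compRight B (Algebra.linearMap B C)).comp
      ((cz.symm.trans ez).toLinearMap.comp (RefHull.stalkMapₗ u (ι w)))
  have hI : ∀ c ∈ I, ∀ q : K →ₗ[B] C, c • q = 0 := fun c hc q => LinearMap.ext fun k => by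
    rw [LinearMap.smul_apply, Algebra.smul_def, show algebraMap B C c = 0 from RingHom.mem_ker.1 hc, zero_mul,
      LinearMap.zero_apply]
  let eS : (B ⧸ I) ≃ₗ[B] C := (Ideal.quotientKerAlgEquivOfSurjective (f := Algebra.ofId B C) hsC).toLinearEquiv
  let eM : C ⊗[B] N ≃ₗ[C] ((Scheme.Modules.pullback ι).obj M).presheaf.stalk w :=
    ((KFlatLib.stalkPullIso ι w).symm.app M).toLinearEquiv
  let eN : (N ⧸ I • (⊤ : Submodule B N)) ≃ₗ[B] (K →ₗ[B] C) :=
    (TensorProduct.quotTensorEquivQuotSMul N I).symm.trans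
      ((TensorProduct.congr eS (LinearEquiv.refl B N)).trans
        (((eM.trans e).restrictScalars B).trans eQ.symm))
  have hsurj : Function.Surjective β := by
    refine surjective_of_equiv_quot I β hI eN fun p hp => ?_
    by_cases hIp : I ≤ p
    swap
    · obtain ⟨c, hcI, hcp⟩ := SetLike.not_le_iff_exists.1 hIp
      exact Or.inl fun q => ⟨c, hcp, by rw [hI c hcI q]; exact zero_mem _⟩
    obtain ⟨v, hvw, hιv, key⟩ := exists_generization f s w p hIp
    rcases hloc v hvw with ⟨hinv, hu⟩ | h2
    · left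
      intro q
      obtain ⟨g, hg, t, l, hgt, -⟩ := exists_factor_of_invertibleAt hT (ι w) ⟨p, hp⟩ (hιv ▸ hinv)
      obtain ⟨x, hx⟩ := hsC (q t)
      obtain ⟨g', hg', n, hn⟩ := exists_smul_mem_range hM u (ι w) ⟨p, hp⟩
        (hιv ▸ hu) (cz (ez.symm (x • l)))
      refine ⟨g' * g, hp.mul_notMem hg' hg, n, LinearMap.ext fun k => ?_⟩
      show algebraMap B C (ez (cz.symm (RefHull.stalkMapₗ u (ι w) n)) k) = (g' * g) • q k
      rw [hn, map_smul, map_smul, LinearEquiv.symm_apply_apply, LinearEquiv.apply_symm_apply, LinearMap.smul_apply, LinearMap.smul_apply, smul_eq_mul,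
        smul_eq_mul, mul_smul, ← map_smul q g k, hgt, map_smul, ← hx, Algebra.smul_def, Algebra.smul_def,
        map_mul, map_mul, mul_comm (algebraMap B C (l k))]
    · right
      rw [depth_localized_congr p eQ, key _ hD]
      exact h2
  refine flat_dual_and_fibre_of_surjective f hT s w fun φ => ?_
  obtain ⟨n, hn⟩ := hsurj
    { toFun := φ
      map_add' := φ.map_add
      map_smul' := fun c k => by rw [LinearMap.map_smulₛₗ, Algebra.smul_def]; rfl }
  exact ⟨ez (cz.symm (RefHull.stalkMapₗ u (ι w) n)), fun k => LinearMap.congr_fun hn k⟩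

end QGorLiftLib
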