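import Groth.Agent.QGorLiftLib.Near
import Groth.Agent.HilbPolyLib.Twist

/-!
# The exponents with invertible reflexive power
-/

set_option autoImplicit false
set_option linter.style.haveILetI false
set_option linter.unusedSectionVars false
set_option backward.isDefEq.respectTransparency false
set_option backward.isDefEq.respectTransparency.types false
set_option maxHeartbeats 1000000
set_option synthInstance.maxHeartbeats 200000

noncomputable section

universe u

open CategoryTheory CategoryTheory.Limits AlgebraicGeometry TopologicalSpace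
open Groth.Agent
open CubeConsLib (IsoCls cl cl_eq_iff pull pull_cl)

namespace QGorLiftLib

variable {X : Scheme.{u}} [IsLocallyNoetherian X] (G W : X.Opens)

/-- Modules of depth two which agree on an open agree. -/
theorem nonempty_stalk_equiv_of_restrict_iso {M N : X.Modules} (hM : Coh.IsCoh M) (hN : Coh.IsCoh N)
    (hMd : ∀ x ∈ W, x ∉ G → (2 : ℕ∞) ≤ LocCoh.depth (X.presheaf.stalk x) (M.presheaf.stalk x))
    (hNd : ∀ x ∈ W, x ∉ G → (2 : ℕ∞) ≤ LocCoh.depth (X.presheaf.stalk x) (N.presheaf.stalk x))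
    (e : M.restrict G.ι ≅ N.restrict G.ι) {z : X} (hz : z ∈ W) :
    Nonempty (M.presheaf.stalk z ≃ₗ[X.presheaf.stalk z] N.presheaf.stalk z) :=
  ⟨(LinearEquiv.ofBijective _ (bijective_stalk_unit G hM W hMd z hz)).trans
    ((stalkEquiv ((Scheme.Modules.pushforward G.ι).mapIso e) z).trans
      (LinearEquiv.ofBijective _ (bijective_stalk_unit G hN W hNd z hz)).symm)⟩

variable (hW : ∀ x ∈ W, x ∉ G → (2 : ℕ∞) ≤ LocCoh.depth (X.presheaf.stalk x) (X.presheaf.stalk x))

include hW in
/-- Duals which agree on the open are invertible at the same points. -/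
theorem invertibleAt_dual_of_restrict_iso {P Q : X.Modules} (hP : Coh.IsCoh P) (hQ : Coh.IsCoh Q)
    (e : (RefHull.dual P).restrict G.ι ≅ (RefHull.dual Q).restrict G.ι) {z : X} (hz : z ∈ W)
    (h : RelCanon.InvertibleAt (RefHull.dual Q) z) : RelCanon.InvertibleAt (RefHull.dual P) z := by
  obtain ⟨a⟩ := nonempty_stalk_equiv_of_restrict_iso G W (RefHullLib.isCoh_dual hP) (RefHullLib.isCoh_dual hQ)
    (fun x hx hxG => RhoBigLib.two_le_depth_dual hP x (hW x hx hxG))
    (fun x hx hxG => RhoBigLib.two_le_depth_dual hQ x (hW x hx hxG)) e hz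
  obtain ⟨b⟩ := QGorBCLib.nonempty_stalk_equiv h
  exact QGorDescLib.invertibleAt_of_stalk (RefHullLib.isCoh_dual hP) (a.trans b)

variable {F : X.Modules} (hF : Coh.IsCoh F) (hFG : PicF.IsInvertible (F.restrict G.ι))

include hF hFG in
theorem cl_refPowZ_nat (n : ℕ) :
    cl ((RelCanon.refPowZ F n).restrict G.ι) = cl (F.restrict G.ι) ^ n := by
  rw [RelCanon.refPowZ_ofNat, cl_eq_iff.2 (QGorBCLib.nonempty_ddual_restrict (QGorBCLib.isCoh_tensorPow hF n)
    (QGorBCLib.isInvertible_tensorPow_restrict hFG n)), QGorBCLib.cl_restrict, QGorBCLib.cl_restrict,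
    QGorBCLib.cl_tensorPow, map_pow]

include hW hF hFG in
/-- The remainder of an exponent with invertible power by another one has invertible power. -/
theorem invertibleAt_refPowZ_sub {n a b : ℕ} {z : X} (hz : z ∈ W)
    (hn : RelCanon.InvertibleAt (RelCanon.refPowZ F n) z)
    (hm : RelCanon.InvertibleAt (RelCanon.refPowZ F (n * a + b : ℕ)) z) :
    RelCanon.InvertibleAt (RelCanon.refPowZ F b) z := by
  let Mn := RelCanon.refPowZ F n
  let Mm := RelCanon.refPowZ F (n * a + b : ℕ)
  let P := CohB1.tensorMod (RefHull.dual Mm) (CohB1.tensorPow Mn a)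
  have hcP : Coh.IsCoh P := BddFamLib.isCoh_tensorMod (RefHullLib.isCoh_dual (QGorBCLib.isCoh_refPowZ hF _))
    (QGorBCLib.isCoh_tensorPow (QGorBCLib.isCoh_refPowZ hF _) a)
  have hinv : ∀ V : X.Opens, PicF.IsInvertible (Mn.restrict V.ι) → PicF.IsInvertible (Mm.restrict V.ι) →
      PicF.IsInvertible (P.restrict V.ι) := by
    intro V h1 h2
    obtain ⟨e⟩ := cl_eq_iff.1 (show cl (CohB1.tensorMod ((RefHull.dual Mm).restrict V.ι)
        ((CohB1.tensorPow Mn a).restrict V.ι)) = cl (P.restrict V.ι) by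
      rw [CubeConsLib.cl_tensor, QGorBCLib.cl_restrict, QGorBCLib.cl_restrict, QGorBCLib.cl_restrict,
        CubeConsLib.cl_tensor, map_mul])
    exact HilbPolyLib.isInvertible_of_iso e (HilbPolyLib.isInvertible_tensor
      (QGorBCLib.isInvertible_dual_restrict h2) (QGorBCLib.isInvertible_tensorPow_restrict h1 a))
  have hPz : RelCanon.InvertibleAt (RefHull.dual P) z := by
    obtain ⟨V₁, hzV₁, h1⟩ := hn
    obtain ⟨V₂, hzV₂, h2⟩ := hm
    have hall : ∀ (M : X.Modules) (V : X.Opens), Nonempty (M.restrict V.ι ≅ Coh.structureModule (V : Scheme.{u})) →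
        ∀ x ∈ V, RelCanon.InvertibleAt M x := fun M V h x hx => ⟨V, hx, h⟩
    exact QGorBCLib.invertibleAt_of_isInvertible_restrict (U := V₁ ⊓ V₂) (QGorBCLib.isInvertible_dual_restrict
      (hinv _ (QGorBCLib.isInvertible_restrict_of_invertibleAt fun x hx => hall _ V₁ h1 x hx.1)
        (QGorBCLib.isInvertible_restrict_of_invertibleAt fun x hx => hall _ V₂ h2 x hx.2))) z ⟨hzV₁, hzV₂⟩
  have hnG := QGorBCLib.isInvertible_refPowZ_restrict hF hFG (n : ℤ)
  have hmG := QGorBCLib.isInvertible_refPowZ_restrict hF hFG ((n * a + b : ℕ) : ℤ)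
  have hPG := hinv G hnG hmG
  have h1 : cl (P.restrict G.ι) * cl ((RelCanon.refPowZ F b).restrict G.ι) = 1 := by
    rw [QGorBCLib.cl_restrict G P, CubeConsLib.cl_tensor, map_mul, ← QGorBCLib.cl_restrict,
      QGorBCLib.cl_tensorPow, map_pow, ← QGorBCLib.cl_restrict, cl_refPowZ_nat G hF hFG, cl_refPowZ_nat G hF hFG,
      mul_assoc, ← pow_mul, ← pow_add, ← cl_refPowZ_nat G hF hFG]
    exact QGorBCLib.cl_dual_mul hmG
  obtain ⟨e⟩ := cl_eq_iff.1 (left_inv_eq_right_inv (QGorBCLib.cl_dual_mul hPG) h1)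
  exact invertibleAt_dual_of_restrict_iso G W hW (RefHullLib.isCoh_dual (QGorBCLib.isCoh_tensorPow hF b)) hcP
    e.symm hz hPz

end QGorLiftLib
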