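import Groth.Agent.QGorLiftLib.RootGeom
import Groth.Agent.QGorLiftLib.Group

/-!
# Reflexive powers with an invertible multiple along a fibre
-/

set_option autoImplicit false
set_option linter.style.haveILetI false
set_option linter.unusedSectionVars false
set_option backward.isDefEq.respectTransparency false
set_option backward.isDefEq.respectTransparency.types false
set_option maxHeartbeats 1000000
set_option synthInstance.maxHeartbeats 200000

noncomputable section

universe u

open CategoryTheory CategoryTheory.Limits AlgebraicGeometry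
open Groth.Agent
open CubeConsLib (IsoCls cl cl_eq_iff pull pull_cl)

attribute [local instance] HasDerivedCategory.standard

namespace QGorLiftLib

/-- Proper schemes have dualizing sheaves. -/
theorem exists_dualizing {A : Type u} [CommRing A] [IsNoetherianRing A] {Y : Scheme.{u}}
    [Y.Over (Spec (CommRingCat.of A))] [IsProper (Y ↘ Spec (CommRingCat.of A))] {d : ℕ}
    (hd : Cyc.HasRelDim (Y ↘ Spec (CommRingCat.of A)) d) :
    ∃ ω : Y.Modules, RelCanon.IsDualizingSheaf A Y d ω := by
  let f := Y ↘ Spec (CommRingCat.of A)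
  haveI : IsNoetherianRing (CommRingCat.of A) := ‹IsNoetherianRing A›
  haveI : CompactSpace Y := QuasiCompact.compactSpace_of_compactSpace f
  haveI : QuasiSeparatedSpace Y := quasiSeparatedSpace_of_quasiSeparated f
  haveI := DCohRestrLib.hasRpush f
  have hf : DCoh.RpushPreservesQCoh f := fun E hE => QRlimLib.isQCohD_rpush _ hE
  haveI := KoszOrthLib.isLeftAdjoint_rpushQ f hf
  let O : DCoh.DQCoh (Spec (CommRingCat.of A)) :=
    ⟨DCoh.inD _ (Coh.structureModule _), PerfBaseLib.isQCohD_inD _ QCohLib.isQCoh_unit⟩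
  let adj := Adjunction.ofIsLeftAdjoint (DCoh.RpushQ f hf)
  exact ⟨_, (QGorBridgeLib.isGE_and_isDualizingSheaf_HD adj O ⟨Iso.refl _⟩ d (QGorSecLib.fibre_dim_le hd)).2⟩

variable {A : Type u} [CommRing A] [IsNoetherianRing A] {Y : Scheme.{u}} [Y.Over (Spec (CommRingCat.of A))]
  [IsProper (Y ↘ Spec (CommRingCat.of A))] [Flat (Y ↘ Spec (CommRingCat.of A))] {d : ℕ}
  (hd : Cyc.HasRelDim (Y ↘ Spec (CommRingCat.of A)) d) {ω : Y.Modules}
  (hω : RelCanon.IsDualizingSheaf A Y d ω)
  (hS : RelCanon.IsSkMor (Y ↘ Spec (CommRingCat.of A)) 2)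
  (t : Spec (CommRingCat.of A))
  (hGt : ∀ v : (Y ↘ Spec (CommRingCat.of A)).fiber t,
    (Y ↘ Spec (CommRingCat.of A)).fiberι t v ∉ QGorBCLib.gorOpen A Y →
      (2 : WithBot ℕ∞) ≤ ringKrullDim (((Y ↘ Spec (CommRingCat.of A)).fiber t).presheaf.stalk v))
  {ωt : ((Y ↘ Spec (CommRingCat.of A)).fiber t).Modules}
  (hωt : @RelCanon.IsDualizingSheaf ((Spec (CommRingCat.of A)).residueField t) _
    ((Y ↘ Spec (CommRingCat.of A)).fiber t) ⟨(Y ↘ Spec (CommRingCat.of A)).fiberToSpecResidueField t⟩ d ωt)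

include hd hω hS hGt hωt in
/-- A reflexive power invertible on the fibre with an invertible multiple of exponent prime to the residue
characteristic is invertible. -/
theorem invertibleAt_refPowZ_of_root (m k : ℕ) (hk : 0 < k)
    (hks : (k : (Spec (CommRingCat.of A)).residueField t) ≠ 0) (w : (Y ↘ Spec (CommRingCat.of A)).fiber t)
    (hM : RelCanon.InvertibleAt (RelCanon.refPowZ ω (m * k : ℕ)) ((Y ↘ Spec (CommRingCat.of A)).fiberι t w))
    (hσ : RelCanon.InvertibleAt (RelCanon.refPowZ ωt m) w) :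
    RelCanon.InvertibleAt (RelCanon.refPowZ ω m) ((Y ↘ Spec (CommRingCat.of A)).fiberι t w) := by
  let f := Y ↘ Spec (CommRingCat.of A)
  haveI : IsNoetherianRing (CommRingCat.of A) := ‹IsNoetherianRing A›
  haveI : IsLocallyNoetherian Y := LocallyOfFiniteType.isLocallyNoetherian f
  haveI : IsLocallyNoetherian (f.fiber t) :=
    haveI := UOpenLib.lft_fiberToSpec f t
    LocallyOfFiniteType.isLocallyNoetherian (f.fiberToSpecResidueField t)
  let G := QGorBCLib.gorOpen A Y
  have hcω := QGorSecLib.isCoh_dualizing hd hω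
  have hinv := QGorBCLib.isInvertible_gorOpen hd hω
  obtain ⟨W, hW, hW2⟩ := exists_open_near_fibre hS t hGt
  obtain ⟨T, hT, hTG, hTm, ⟨et⟩⟩ := exists_dual_presentation hd hω hS t hGt hωt (m : ℤ)
  rw [hTm]
  refine invertibleAt_dual_of_root f hT t w hk hks ?_ ?_ fun v _ => ?_
  · obtain ⟨e⟩ := cl_eq_iff.1 (show cl ((RefHull.dual (CohB1.tensorPow T k)).restrict G.ι) =
        cl ((RelCanon.refPowZ ω (m * k : ℕ)).restrict G.ι) by
      refine left_inv_eq_right_inv (QGorBCLib.cl_dual_mul (QGorBCLib.isInvertible_tensorPow_restrict hTG k)) ?_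
      rw [QGorBCLib.cl_restrict, QGorBCLib.cl_tensorPow, map_pow, ← QGorBCLib.cl_restrict,
        cl_refPowZ_nat G hcω hinv, pow_mul, ← cl_refPowZ_nat G hcω hinv, hTm, ← mul_pow, mul_comm,
        QGorBCLib.cl_dual_mul hTG, one_pow])
    exact invertibleAt_dual_of_restrict_iso G W (fun x hx hxG => (hW2 x hx hxG).2) (QGorBCLib.isCoh_tensorPow hT k)
      (RefHullLib.isCoh_dual (QGorBCLib.isCoh_tensorPow hcω _)) e (hW _ ((f.range_fiberι t).le ⟨w, rfl⟩)) hM
  · exact QGorBCLib.invertibleAt_of_iso et.symm hσ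
  · by_cases hvG : f.fiberι t v ∈ G
    · exact Or.inl (QGorBCLib.invertibleAt_of_isInvertible_restrict hTG _ hvG)
    · exact Or.inr (le_depth_self_of_skAt specializes_rfl (skAt_fibre hS t v) (hGt v hvG))

end QGorLiftLib
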