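import Groth.Agent.QGorLiftLib.CanIso
import Groth.Agent.CycDivLib.Pull
import Groth.Agent.RefHullLib.Generic
import Groth.Agent.FlatLib.QStalk

/-!
# Stalks at generizations are localisations
-/

set_option autoImplicit false
set_option linter.style.haveILetI false
set_option linter.unusedSectionVars false
set_option backward.isDefEq.respectTransparency false
set_option backward.isDefEq.respectTransparency.types false
set_option maxHeartbeats 1000000
set_option synthInstance.maxHeartbeats 200000

noncomputable section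

universe u

open CategoryTheory CategoryTheory.Limits AlgebraicGeometry IsLocalRing
open Groth.Agent

namespace QGorLiftLib

variable {X : Scheme.{u}}

theorem primeOf_eq {z : X} (p : PrimeSpectrum (X.presheaf.stalk z)) :
    CycDivLib.primeOf (EquidimLib.stalkPt_specializes z p) = p :=
  EquidimLib.stalkPt_injective z (CycDivLib.stalkPt_primeOf (EquidimLib.stalkPt_specializes z p))

/-- The map of stalks to a generization. -/
def specLin (M : X.Modules) {v z : X} (h : v ⤳ z) :
    letI := Module.compHom (M.presheaf.stalk v) (X.presheaf.stalkSpecializes h).hom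
    M.presheaf.stalk z →ₗ[X.presheaf.stalk z] M.presheaf.stalk v :=
  letI := Module.compHom (M.presheaf.stalk v) (X.presheaf.stalkSpecializes h).hom
  { toFun := fun m => (M.presheaf.stalkSpecializes h).hom m
    map_add' := fun a b => map_add _ a b
    map_smul' := fun r m => RefHullLib.stalkSpecializes_smul M h r m }

theorem specLin_germ (M : X.Modules) {v z : X} (h : v ⤳ z) {V : X.Opens} (hz : z ∈ V) (m : Γ(M, V)) :
    (M.presheaf.stalkSpecializes h).hom (M.presheaf.germ V z hz m) = M.presheaf.germ V v (h.mem_open V.isOpen hz) m :=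
  TopCat.Presheaf.germ_stalkSpecializes_apply M.presheaf (U := V) hz h m

/-- The stalk at a generization is the localised stalk. -/
theorem isLocalizedModule_specLin (M : X.Modules) [Coh.IsQCoh M] {v z : X} (h : v ⤳ z) :
    letI := Module.compHom (M.presheaf.stalk v) (X.presheaf.stalkSpecializes h).hom
    IsLocalizedModule (CycDivLib.primeOf h).asIdeal.primeCompl (specLin M h) := by
  letI := (X.presheaf.stalkSpecializes h).hom.toAlgebra
  letI := Module.compHom (M.presheaf.stalk v) (X.presheaf.stalkSpecializes h).hom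
  haveI : IsScalarTower (X.presheaf.stalk z) (X.presheaf.stalk v) (M.presheaf.stalk v) :=
    IsScalarTower.of_algebraMap_smul fun _ _ => rfl
  haveI := CycDivLib.isLocalization_stalkSpecializes h
  obtain ⟨V, hV, hzV, -⟩ := exists_isAffineOpen_mem_and_subset (X := X) (x := z) (U := ⊤) trivial
  have hvV : v ∈ V := h.mem_open V.isOpen hzV
  letI : Algebra Γ(X, V) (X.presheaf.stalk z) := (X.presheaf.germ V z hzV).hom.toAlgebra
  letI : Algebra Γ(X, V) (X.presheaf.stalk v) := (X.presheaf.germ V v hvV).hom.toAlgebra
  haveI : IsLocalization.AtPrime (X.presheaf.stalk z) (hV.primeIdealOf ⟨z, hzV⟩).asIdeal := hV.isLocalization_stalk ⟨z, hzV⟩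
  haveI : IsLocalization.AtPrime (X.presheaf.stalk v) (hV.primeIdealOf ⟨v, hvV⟩).asIdeal := hV.isLocalization_stalk ⟨v, hvV⟩
  letI := Module.compHom (M.presheaf.stalk z) (X.presheaf.germ V z hzV).hom
  letI := Module.compHom (M.presheaf.stalk v) (X.presheaf.germ V v hvV).hom
  haveI : IsScalarTower Γ(X, V) (X.presheaf.stalk z) (M.presheaf.stalk z) := IsScalarTower.of_algebraMap_smul fun _ _ => rfl
  haveI : IsScalarTower Γ(X, V) (X.presheaf.stalk v) (M.presheaf.stalk v) := IsScalarTower.of_algebraMap_smul fun _ _ => rfl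
  haveI : IsScalarTower Γ(X, V) (X.presheaf.stalk z) (X.presheaf.stalk v) := IsScalarTower.of_algebraMap_eq fun r =>
    (TopCat.Presheaf.germ_stalkSpecializes_apply X.presheaf (U := V) hzV h r).symm
  haveI : IsScalarTower Γ(X, V) (X.presheaf.stalk z) (M.presheaf.stalk v) := IsScalarTower.of_algebraMap_smul fun r m => by
    show (X.presheaf.stalkSpecializes h).hom ((X.presheaf.germ V z hzV).hom r) • m = (X.presheaf.germ V v hvV).hom r • m
    erw [TopCat.Presheaf.germ_stalkSpecializes_apply]
  haveI := FlatLib.isLocalizedModule_germLin M hV hzV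
  haveI := FlatLib.isLocalizedModule_germLin M hV hvV
  refine (isLocalizedModule_iff_isBaseChange _ (X.presheaf.stalk v) _).2 ?_
  refine IsBaseChange.of_comp (IsLocalizedModule.isBaseChange (hV.primeIdealOf ⟨z, hzV⟩).asIdeal.primeCompl
    (X.presheaf.stalk z) (FlatLib.germLin M hzV)) ?_
  have he : (specLin M h).restrictScalars Γ(X, V) ∘ₗ FlatLib.germLin M hzV = FlatLib.germLin M hvV :=
    LinearMap.ext fun m => specLin_germ M h hzV m
  rw [he]
  exact IsLocalizedModule.isBaseChange (hV.primeIdealOf ⟨v, hvV⟩).asIdeal.primeCompl (X.presheaf.stalk v)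
    (FlatLib.germLin M hvV)

/-- Isomorphic stalks at a generization give an isomorphism up to a scalar at the prime. -/
theorem isoModAt_of_stalk_equiv [IsLocallyNoetherian X] {M N : X.Modules} (hM : Coh.IsCoh M) (hN : Coh.IsCoh N)
    {v z : X} (h : v ⤳ z) (e : M.presheaf.stalk v ≃ₗ[X.presheaf.stalk v] N.presheaf.stalk v) :
    IsoModAt (CycDivLib.primeOf h).asIdeal (M.presheaf.stalk z) (N.presheaf.stalk z) := by
  haveI := hM.1
  haveI := hN.1
  haveI : Module.Finite (X.presheaf.stalk z) (M.presheaf.stalk z) := ZClosLib.finite_stalk hM z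
  haveI : Module.Finite (X.presheaf.stalk z) (N.presheaf.stalk z) := ZClosLib.finite_stalk hN z
  letI := (X.presheaf.stalkSpecializes h).hom.toAlgebra
  letI := Module.compHom (M.presheaf.stalk v) (X.presheaf.stalkSpecializes h).hom
  letI := Module.compHom (N.presheaf.stalk v) (X.presheaf.stalkSpecializes h).hom
  haveI := isLocalizedModule_specLin M h
  haveI := isLocalizedModule_specLin N h
  haveI : IsScalarTower (X.presheaf.stalk z) (X.presheaf.stalk v) (M.presheaf.stalk v) :=
    IsScalarTower.of_algebraMap_smul fun _ _ => rfl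
  haveI : IsScalarTower (X.presheaf.stalk z) (X.presheaf.stalk v) (N.presheaf.stalk v) :=
    IsScalarTower.of_algebraMap_smul fun _ _ => rfl
  exact isoModAt_of_equiv _ (specLin M h) (specLin N h) (e.restrictScalars (X.presheaf.stalk z))

variable {S : Scheme.{u}} (f : X ⟶ S)

/-- Flatness at a generization in the fibre: no relations at the prime. -/
theorem relAt_of_flat [IsLocallyNoetherian S] (M : X.Modules) [Coh.IsQCoh M] {v z : X} (h : v ⤳ z)
    (hv : f v = f z) (hflat : FlatMod.IsFlatOverAt f M v) :
    letI := (f.stalkMap z).hom.toAlgebra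
    RelAt (S.presheaf.stalk (f z)) (CycDivLib.primeOf h).asIdeal (M.presheaf.stalk z) := by
  letI := (f.stalkMap z).hom.toAlgebra
  intro r g hmin k hk
  let A := S.presheaf.stalk (f z)
  let B := X.presheaf.stalk z
  let T := X.presheaf.stalk v
  let sB := (X.presheaf.stalkSpecializes h).hom
  let sA := (S.presheaf.stalkSpecializes (h.map f.continuous)).hom
  letI : Algebra B T := sB.toAlgebra
  letI := Module.compHom (M.presheaf.stalk v) sB
  haveI : IsScalarTower B T (M.presheaf.stalk v) := IsScalarTower.of_algebraMap_smul fun _ _ => rfl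
  haveI := CycDivLib.isLocalization_stalkSpecializes h
  haveI := isLocalizedModule_specLin M h
  letI : Algebra (S.presheaf.stalk (f v)) T := (f.stalkMap v).hom.toAlgebra
  letI := FlatMod.moduleStalkOver f M v
  haveI : IsScalarTower (S.presheaf.stalk (f v)) T (M.presheaf.stalk v) := IsScalarTower.of_algebraMap_smul fun _ _ => rfl
  haveI : Module.Flat (S.presheaf.stalk (f v)) (M.presheaf.stalk v) := hflat
  have hnat : ∀ a : A, sB (algebraMap A B a) = f.stalkMap v (sA a) := fun a =>
    (Scheme.Hom.stalkSpecializes_stalkMap_apply f v z h a).symm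
  let gM := specLin M h
  have h0 : ∑ i, sA (g i) • gM (k i) = 0 := by
    rw [← map_zero gM, ← hk, map_sum]
    refine Finset.sum_congr rfl fun i _ => ?_
    rw [map_smul]
    show f.stalkMap v (sA (g i)) • gM (k i) = sB (algebraMap A B (g i)) • gM (k i)
    rw [hnat]
  haveI : IsIso (S.presheaf.stalkSpecializes (h.map f.continuous)) := by
    have key : ∀ (s s' : S) (hs : s ⤳ s'), s = s' → IsIso (S.presheaf.stalkSpecializes hs) := by
      rintro s s' hs rfl
      rw [TopCat.Presheaf.stalkSpecializes_refl]
      infer_instance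
    exact key _ _ _ hv
  have hsA : Function.Bijective sA := ConcreteCategory.bijective_of_isIso (S.presheaf.stalkSpecializes _)
  obtain ⟨κ, c, y, hy, hc⟩ := Module.Flat.isTrivialRelation_of_sum_smul_eq_zero h0
  have hmem : ∀ i, ∃ f₁ ∉ (CycDivLib.primeOf h).asIdeal,
      f₁ • k i ∈ sub (B := B) (maximalIdeal A) (M.presheaf.stalk z) := by
    intro i
    choose c' hc' using fun l => hsA.2 (c i l)
    have hcmem : ∀ l, c' l ∈ maximalIdeal A := fun l => by
      obtain ⟨d, hd⟩ : ∃ d : Fin r → A, ∀ j, sA (d j) = c j l :=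
        ⟨fun j => (hsA.2 (c j l)).choose, fun j => (hsA.2 (c j l)).choose_spec⟩
      have h1 := hmin d (hsA.1 (by
        rw [map_zero, map_sum, ← hc l]
        exact Finset.sum_congr rfl fun j _ => by rw [map_mul, hd, mul_comm])) i
      rwa [← hsA.1 ((hd i).trans (hc' l).symm)]
    choose x hx using fun l => IsLocalizedModule.surj (CycDivLib.primeOf h).asIdeal.primeCompl gM (y l)
    let s := ∏ l, (x l).2
    have hl : ∀ l, ∃ w, (s : B) • y l = gM w := fun l => by
      classical
      refine ⟨((∏ l' ∈ Finset.univ.erase l, (x l').2 : (CycDivLib.primeOf h).asIdeal.primeCompl) : B) • (x l).1, ?_⟩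
      rw [map_smul, ← show ((x l).2 : B) • y l = gM (x l).1 from hx l, smul_smul, ← Submonoid.coe_mul,
        Finset.prod_erase_mul _ _ (Finset.mem_univ l)]
    choose w hw using hl
    have h1 : gM ((s : B) • k i) = gM (∑ l, algebraMap A B (c' l) • w l) := by
      rw [map_smul, show gM (k i) = _ from hy i, Finset.smul_sum, map_sum]
      refine Finset.sum_congr rfl fun l _ => ?_
      rw [map_smul, ← hw]
      show sB (s : B) • f.stalkMap v (c i l) • y l = sB (algebraMap A B (c' l)) • sB (s : B) • y l
      rw [hnat, hc', smul_comm]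
    obtain ⟨e, he⟩ := (IsLocalizedModule.eq_iff_exists (CycDivLib.primeOf h).asIdeal.primeCompl gM).1 h1
    refine ⟨(e : B) * s, (e * s).2, ?_⟩
    rw [mul_smul, show (e : B) • (s : B) • k i = (e : B) • ∑ l, algebraMap A B (c' l) • w l from he]
    exact Submodule.smul_mem _ _ (Submodule.sum_mem _ fun l _ =>
      Submodule.smul_mem_smul (Ideal.mem_map_of_mem _ (hcmem l)) trivial)
  choose fi hfi hfk using hmem
  classical
  refine ⟨∏ i, fi i, fun h' => ?_, fun i => ?_⟩
  · obtain ⟨i, -, hi⟩ := (CycDivLib.primeOf h).2.prod_mem_iff.1 h'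
    exact hfi i hi
  · rw [← Finset.prod_erase_mul _ fi (Finset.mem_univ i), mul_smul]
    exact Submodule.smul_mem _ _ (hfk i)

end QGorLiftLib
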