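import Groth.Agent.QGorLiftLib.FibreOmega
import Groth.Agent.QGorLiftLib.StalkSpec
import Groth.Agent.QGorLiftLib.RootMain
import Groth.Agent.QGorIdxLib.Main

/-!
# The relative canonical sheaf along a fibre
-/

set_option autoImplicit false
set_option linter.style.haveILetI false
set_option linter.unusedSectionVars false
set_option backward.isDefEq.respectTransparency false
set_option backward.isDefEq.respectTransparency.types false
set_option maxHeartbeats 1000000
set_option synthInstance.maxHeartbeats 200000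

noncomputable section

universe u

open CategoryTheory CategoryTheory.Limits AlgebraicGeometry IsLocalRing TopologicalSpace
open Groth.Agent
open scoped TensorProduct Pointwise

attribute [local instance] HasDerivedCategory.standard

namespace QGorLiftLib

variable {A : Type u} [CommRing A] [IsNoetherianRing A] {Y : Scheme.{u}} [Y.Over (Spec (CommRingCat.of A))]
  [IsProper (Y ↘ Spec (CommRingCat.of A))] [Flat (Y ↘ Spec (CommRingCat.of A))] {d : ℕ}
  (hd : Cyc.HasRelDim (Y ↘ Spec (CommRingCat.of A)) d)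
  (hS : RelCanon.IsSkMor (Y ↘ Spec (CommRingCat.of A)) 2)

variable (A Y) in
/-- The open of relatively Cohen–Macaulay points. -/
def cmOpen : Y.Opens :=
  haveI : IsNoetherianRing (CommRingCat.of A) := ‹IsNoetherianRing A›
  haveI : LocallyOfFinitePresentation (Y ↘ Spec (CommRingCat.of A)) :=
    haveI : IsLocallyNoetherian Y := LocallyOfFiniteType.isLocallyNoetherian (Y ↘ Spec (CommRingCat.of A))
    UOpenLib.locallyOfFinitePresentation_of_isLocallyNoetherian _
  ⟨{y | MoreMor.IsCMAt (Y ↘ Spec (CommRingCat.of A)) y}, CMFlatLib.isOpen_isCMAt _⟩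

include hS in
theorem lt_dim_of_notMem_cmOpen {y : Y} (hy : y ∉ cmOpen A Y) :
    (2 : WithBot ℕ∞) < ringKrullDim (((Y ↘ Spec (CommRingCat.of A)).fiber
      ((Y ↘ Spec (CommRingCat.of A)) y)).presheaf.stalk ((Y ↘ Spec (CommRingCat.of A)).asFiber y)) := by
  haveI : IsNoetherianRing (CommRingCat.of A) := ‹IsNoetherianRing A›
  exact QGorEndLib.lt_dim_of_not_isCMAt (Y ↘ Spec (CommRingCat.of A)) 2 y (hS.2.2 y) hy

variable {B : Type u} [CommRing B] [IsNoetherianRing B] {Y' : Scheme.{u}} [Y'.Over (Spec (CommRingCat.of B))]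
  {g : Spec (CommRingCat.of B) ⟶ Spec (CommRingCat.of A)} {p : Y' ⟶ Y}
  (sq : IsPullback p (Y' ↘ Spec (CommRingCat.of B)) (Y ↘ Spec (CommRingCat.of A)) g)

include sq in
theorem isCMAt_of_mem_cmOpen {x : Y'} (hx : p x ∈ cmOpen A Y) :
    MoreMor.IsCMAt (Y' ↘ Spec (CommRingCat.of B)) x := by
  haveI : IsNoetherianRing (CommRingCat.of A) := ‹IsNoetherianRing A›
  haveI : IsNoetherianRing (CommRingCat.of B) := ‹IsNoetherianRing B›
  haveI : IsLocallyNoetherian Y := LocallyOfFiniteType.isLocallyNoetherian (Y ↘ Spec (CommRingCat.of A))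
  exact (CMFlatLib.isCMAt_baseChange (Y ↘ Spec (CommRingCat.of A)) g _ p sq x (Or.inr inferInstance)).1 hx

include hS sq in
/-- A base change of an `S₂`-morphism is one. -/
theorem isSkMor_baseChange : RelCanon.IsSkMor (Y' ↘ Spec (CommRingCat.of B)) 2 := by
  let f := Y ↘ Spec (CommRingCat.of A)
  let f' := Y' ↘ Spec (CommRingCat.of B)
  haveI : IsNoetherianRing (CommRingCat.of A) := ‹IsNoetherianRing A›
  haveI : IsNoetherianRing (CommRingCat.of B) := ‹IsNoetherianRing B›
  haveI : IsProper f' := MorphismProperty.of_isPullback (P := @IsProper) sq inferInstance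
  refine ⟨MorphismProperty.of_isPullback (P := @Flat) sq inferInstance, inferInstance, fun x => ?_⟩
  haveI : IsLocallyNoetherian Y := LocallyOfFiniteType.isLocallyNoetherian f
  haveI : IsLocallyNoetherian Y' := LocallyOfFiniteType.isLocallyNoetherian f'
  have hO := DevissLib.isCoh_structureModule Y
  have hO' := DevissLib.isCoh_structureModule Y'
  haveI := hO'.1
  haveI : IsLocallyNoetherian (f'.fiber (f' x)) :=
    haveI := UOpenLib.lft_fiberToSpec f' (f' x)
    LocallyOfFiniteType.isLocallyNoetherian (f'.fiberToSpecResidueField (f' x))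
  obtain ⟨e⟩ := DepthLib.nonempty_pullback_unit_stalk (f'.fiberι (f' x)) (f'.asFiber x)
  obtain ⟨e₀⟩ := RefHullLib.nonempty_stalk_unit (f'.fiber (f' x)) (f'.asFiber x)
  refine DepthLib.hasSk_congr (e.trans e₀) 2 ?_
  refine (DepthLib.hasSk_pullback_stalk_iff (f'.fiberι (f' x)) _ hO'.2 (f'.asFiber x) 2).2 ?_
  refine (DepthLib.forall_specializes_fiber_iff f' (fun s w => min ((2 : ℕ) : WithBot ℕ∞)
    (Module.supportDim ((f'.fiber s).presheaf.stalk w)
      (((Scheme.Modules.pullback (f'.fiberι s)).obj (Coh.structureModule Y')).presheaf.stalk w)) ≤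
    ((LocCoh.depth ((f'.fiber s).presheaf.stalk w)
      (((Scheme.Modules.pullback (f'.fiberι s)).obj (Coh.structureModule Y')).presheaf.stalk w) : ℕ∞) :
        WithBot ℕ∞)) x).2 fun z _ _ => ?_
  obtain ⟨ez⟩ := DepthLib.nonempty_pullback_unit_stalk (f'.fiberι (f' z)) (f'.asFiber z)
  by_cases hz : p z ∈ cmOpen A Y
  · have hcm := (isCMAt_of_mem_cmOpen sq hz).2
    rw [Module.supportDim_eq_of_equiv ez, CommAlgDim.depth_congr ez, hcm.supportDim_eq_depth]
    exact min_le_right _ _
  · refine (min_le_left _ _).trans (WithBot.coe_le_coe.2 ?_)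
    have h : (2 : ℕ∞) ≤ CInt.fiberDepth f' ((Scheme.Modules.pullback p).obj (Coh.structureModule Y)) z :=
      (QGorBCLib.two_le_fiberDepth f hO IntMultLib.support_structureModule' (p z) (by
        obtain ⟨a⟩ := DepthLib.nonempty_pullback_unit_stalk (f.fiberι (f (p z))) (f.asFiber (p z))
        obtain ⟨a₀⟩ := RefHullLib.nonempty_stalk_unit (f.fiber (f (p z))) (f.asFiber (p z))
        exact DepthLib.hasSk_congr (a.trans a₀).symm 2 (hS.2.2 (p z))) (lt_dim_of_notMem_cmOpen hS hz).le).trans
        (QGorBCLib.fiberDepth_le_baseChange sq hO z)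
    exact h.trans (le_of_eq (QGorBCLib.depth_congr_iso
      ((Scheme.Modules.pullback (f'.fiberι (f' z))).mapIso (KFlatLib.pullUnitIso p)) _))

variable {ω : Y.Modules} (hω : RelCanon.IsDualizingSheaf A Y d ω) (t : Spec (CommRingCat.of A))
  {ωt : ((Y ↘ Spec (CommRingCat.of A)).fiber t).Modules}
  (hωt : @RelCanon.IsDualizingSheaf ((Spec (CommRingCat.of A)).residueField t) _
    ((Y ↘ Spec (CommRingCat.of A)).fiber t) ⟨(Y ↘ Spec (CommRingCat.of A)).fiberToSpecResidueField t⟩ d ωt)

/-- The square of the fibre. -/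
theorem exists_fibre_square :
    letI : ((Y ↘ Spec (CommRingCat.of A)).fiber t).Over (Spec (CommRingCat.of ((Spec (CommRingCat.of A)).residueField t))) :=
      ⟨(Y ↘ Spec (CommRingCat.of A)).fiberToSpecResidueField t⟩
    ∃ g : Spec (CommRingCat.of ((Spec (CommRingCat.of A)).residueField t)) ⟶ Spec (CommRingCat.of A),
      IsPullback ((Y ↘ Spec (CommRingCat.of A)).fiberι t)
        ((Y ↘ Spec (CommRingCat.of A)).fiber t ↘ Spec (CommRingCat.of ((Spec (CommRingCat.of A)).residueField t)))
        (Y ↘ Spec (CommRingCat.of A)) g :=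
  ⟨_, IsPullback.of_hasPullback (Y ↘ Spec (CommRingCat.of A)) ((Spec (CommRingCat.of A)).fromSpecResidueField t)⟩

include hd hωt in
/-- The dualizing sheaf of the fibre is coherent, `S₂` and supported everywhere. -/
theorem isCoh_and_skAt_dualizing_fibre :
    Coh.IsCoh ωt ∧ ∀ v, RelCanon.SkAt 2 ωt v ∧ v ∈ CohB1.support ωt := by
  let f := Y ↘ Spec (CommRingCat.of A)
  letI : (f.fiber t).Over (Spec (CommRingCat.of ((Spec (CommRingCat.of A)).residueField t))) :=
    ⟨f.fiberToSpecResidueField t⟩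
  obtain ⟨g, sq⟩ := exists_fibre_square (A := A) (Y := Y) t
  haveI : IsProper (f.fiber t ↘ Spec (CommRingCat.of ((Spec (CommRingCat.of A)).residueField t))) :=
    MorphismProperty.of_isPullback (P := @IsProper) sq inferInstance
  have hdt := FibDimLib.hasRelDim_baseChange sq hd
  refine ⟨QGorSecLib.isCoh_dualizing hdt hωt, fun v => ?_⟩
  obtain ⟨_, hf, a, adj, O, hO, -, ⟨e⟩⟩ := QGorSecLib.exists_adjoint hdt hωt
  have hdim : topologicalKrullDim ↥(f.fiber t) = (d : WithBot ℕ∞) := by
    rw [MiscFlat6.dim_eq_iSup_components]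
    refine le_antisymm (iSup₂_le fun Z hZ => (hd _ Z hZ).le) ?_
    exact (hd _ _ (irreducibleComponent_mem_irreducibleComponents v)).ge.trans
      (le_iSup₂ (f := fun (Z : Set ↥(f.fiber t)) _ => topologicalKrullDim ↥Z) _
        (irreducibleComponent_mem_irreducibleComponents _))
  obtain ⟨⟨-, h2, hsupp⟩, -⟩ := Groth.Agent.S3638.result ((Spec (CommRingCat.of A)).residueField t) (f.fiber t)
    (f.fiber t ↘ Spec (CommRingCat.of ((Spec (CommRingCat.of A)).residueField t))) d hdim hf a adj O hO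
  refine ⟨DepthLib.hasSk_congr (stalkEquiv e v).symm 2 (h2 v), ?_⟩
  have hnt : Nontrivial ((DCoh.HD (a.obj O).obj (-(d : ℤ))).presheaf.stalk v) :=
    hsupp.ge (Set.mem_iUnion₂.2 ⟨irreducibleComponent v,
      ⟨irreducibleComponent_mem_irreducibleComponents _,
        hd _ _ (irreducibleComponent_mem_irreducibleComponents _)⟩, mem_irreducibleComponent⟩)
  exact fun h => not_subsingleton_iff_nontrivial.2 hnt ((DCohRestrLib.subsingleton_stalk_of_iso e v).1 h)

include hd hωt in
/-- The dualizing sheaf of the fibre has depth two in dimension two. -/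
theorem two_le_depth_dualizing_fibre (v : (Y ↘ Spec (CommRingCat.of A)).fiber t)
    (hv : (2 : WithBot ℕ∞) ≤ ringKrullDim (((Y ↘ Spec (CommRingCat.of A)).fiber t).presheaf.stalk v)) :
    (2 : ℕ∞) ≤ LocCoh.depth (((Y ↘ Spec (CommRingCat.of A)).fiber t).presheaf.stalk v) (ωt.presheaf.stalk v) := by
  haveI : IsNoetherianRing (CommRingCat.of A) := ‹IsNoetherianRing A›
  haveI : IsLocallyNoetherian ((Y ↘ Spec (CommRingCat.of A)).fiber t) :=
    haveI := UOpenLib.lft_fiberToSpec (Y ↘ Spec (CommRingCat.of A)) t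
    LocallyOfFiniteType.isLocallyNoetherian ((Y ↘ Spec (CommRingCat.of A)).fiberToSpecResidueField t)
  obtain ⟨hc, h⟩ := isCoh_and_skAt_dualizing_fibre hd t hωt
  exact le_depth_of_skAt hc (Set.eq_univ_of_forall fun v => (h v).2) specializes_rfl (h v).1 hv

include hd hS hω hωt in
/-- The comparison with the dualizing sheaf of the fibre, bijective at the Cohen–Macaulay points. -/
theorem exists_canonical_map : ∃ φ : (Scheme.Modules.pullback ((Y ↘ Spec (CommRingCat.of A)).fiberι t)).obj ω ⟶ ωt,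
    ∀ v, (Y ↘ Spec (CommRingCat.of A)).fiberι t v ∈ cmOpen A Y → Function.Bijective (RefHull.stalkMapₗ φ v) := by
  let f := Y ↘ Spec (CommRingCat.of A)
  letI : (f.fiber t).Over (Spec (CommRingCat.of ((Spec (CommRingCat.of A)).residueField t))) :=
    ⟨f.fiberToSpecResidueField t⟩
  haveI : IsNoetherianRing (CommRingCat.of A) := ‹IsNoetherianRing A›
  haveI : IsLocallyNoetherian Y := LocallyOfFiniteType.isLocallyNoetherian f
  haveI : IsLocallyNoetherian (f.fiber t) :=
    haveI := UOpenLib.lft_fiberToSpec f t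
    LocallyOfFiniteType.isLocallyNoetherian (f.fiberToSpecResidueField t)
  obtain ⟨g, sq⟩ := exists_fibre_square (A := A) (Y := Y) t
  let W := cmOpen A Y
  obtain ⟨e⟩ := QGorBCLib.nonempty_restrict_iso hd hω sq hωt W fun y hy => hy
  obtain ⟨φ, hφ⟩ := QGorIdxLib.exists_hom_bijective_stalk (f.fiberι t ⁻¹ᵁ W)
    (ConsLib.isCoh_pullback (f.fiberι t) (QGorSecLib.isCoh_dualizing hd hω))
    (QGorBCLib.extends_dualizing_baseChange hd sq hωt fun y hy => (lt_dim_of_notMem_cmOpen hS hy).le) e
    (f.fiberι t ⁻¹ᵁ W) fun x hx hx' => absurd hx hx'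
  exact ⟨φ, hφ⟩

include hd hω in
/-- The relative canonical sheaf is flat at relatively Cohen–Macaulay points. -/
theorem isFlatOverAt_dualizing {y : Y} (hy : y ∈ cmOpen A Y) :
    FlatMod.IsFlatOverAt (Y ↘ Spec (CommRingCat.of A)) ω y := by
  let f := Y ↘ Spec (CommRingCat.of A)
  haveI : IsNoetherianRing (CommRingCat.of A) := ‹IsNoetherianRing A›
  obtain ⟨_, hf, a, adj, O, hO, -, ⟨e⟩⟩ := QGorSecLib.exists_adjoint hd hω
  exact isFlatOverAt_congr f (stalkEquiv e y).symm
    (QGorEndLib.concentrated_at f hf a adj O hO d (fun y Z hZ => hd y Z hZ) y hy).2.1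

include hd hS hω in
/-- The relative canonical sheaf has depth two where the fibres have dimension two. -/
theorem two_le_depth_dualizing {y : Y}
    (hy : (2 : WithBot ℕ∞) ≤ ringKrullDim (((Y ↘ Spec (CommRingCat.of A)).fiber
      ((Y ↘ Spec (CommRingCat.of A)) y)).presheaf.stalk ((Y ↘ Spec (CommRingCat.of A)).asFiber y))) :
    (2 : ℕ∞) ≤ LocCoh.depth (Y.presheaf.stalk y) (ω.presheaf.stalk y) := by
  let f := Y ↘ Spec (CommRingCat.of A)
  haveI : IsNoetherianRing (CommRingCat.of A) := ‹IsNoetherianRing A›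
  haveI : IsLocallyNoetherian Y := LocallyOfFiniteType.isLocallyNoetherian f
  have hcoh := QGorSecLib.isCoh_dualizing hd hω
  by_cases hW : y ∈ cmOpen A Y
  · letI : (f.fiber (f y)).Over (Spec (CommRingCat.of ((Spec (CommRingCat.of A)).residueField (f y)))) :=
      ⟨f.fiberToSpecResidueField (f y)⟩
    obtain ⟨g, sq⟩ := exists_fibre_square (A := A) (Y := Y) (f y)
    haveI : IsProper (f.fiber (f y) ↘ Spec (CommRingCat.of ((Spec (CommRingCat.of A)).residueField (f y)))) :=
      MorphismProperty.of_isPullback (P := @IsProper) sq inferInstance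
    obtain ⟨ωs, hωs⟩ := exists_dualizing (FibDimLib.hasRelDim_baseChange sq hd)
    obtain ⟨φ, hφ⟩ := exists_canonical_map hd hS hω (f y) hωs
    refine QGorBCLib.two_le_depth_stalk f ω hcoh y (isFlatOverAt_dualizing hd hω hW) ?_
    rw [CommAlgDim.depth_congr (LinearEquiv.ofBijective (RefHull.stalkMapₗ φ (f.asFiber y))
      (hφ _ (by rw [f.fiberι_asFiber]; exact hW)))]
    exact two_le_depth_dualizing_fibre hd (f y) hωs _ hy
  · exact (LocSuppLib.depth_two_iff_bijective (cmOpen A Y) hcoh).2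
      (QGorSecLib.extends_dualizing hd hω fun z hz => (lt_dim_of_notMem_cmOpen hS hz).le) y hW

end QGorLiftLib
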