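import Groth.Agent.QGorLiftLib.Main
import Groth.Agent.QGorLiftLib.RootThick
import Groth.Agent.KFlatLib.StalkTensor

/-!
# A dual with an invertible power and invertible on the fibre is invertible
-/

set_option autoImplicit false
set_option linter.style.haveILetI false
set_option linter.unusedSectionVars false
set_option backward.isDefEq.respectTransparency false
set_option backward.isDefEq.respectTransparency.types false
set_option maxHeartbeats 1000000
set_option synthInstance.maxHeartbeats 200000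

noncomputable section

universe u

open CategoryTheory CategoryTheory.Limits AlgebraicGeometry IsLocalRing
open Groth.Agent
open scoped TensorProduct

namespace QGorLiftLib

/-- The powers of the elements of a stalk in the tensor powers. -/
theorem exists_power_map {X : Scheme.{u}} (T : X.Modules) (z : X) : ∀ k : ℕ,
    ∃ Pw : T.presheaf.stalk z → (CohB1.tensorPow T k).presheaf.stalk z,
      (∀ (c : X.presheaf.stalk z) (x : T.presheaf.stalk z), Pw (c • x) = c ^ k • Pw x) ∧
      ∀ l : T.presheaf.stalk z →ₗ[X.presheaf.stalk z] X.presheaf.stalk z,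
        ∃ μ : (CohB1.tensorPow T k).presheaf.stalk z →ₗ[X.presheaf.stalk z] X.presheaf.stalk z,
          ∀ x, μ (Pw x) = l x ^ k
  | 0 => by
    obtain ⟨e⟩ := RefHullLib.nonempty_stalk_unit X z
    exact ⟨fun _ => e 1, fun c x => by rw [pow_zero, one_smul],
      fun l => ⟨e.symm.toLinearMap, fun x => (e.symm_apply_apply 1).trans (pow_zero _).symm⟩⟩
  | k + 1 => by
    obtain ⟨P, hP1, hP2⟩ := exists_power_map T z k
    let E : (CohB1.tensorPow T k).presheaf.stalk z ⊗[X.presheaf.stalk z] T.presheaf.stalk z ≃ₗ[X.presheaf.stalk z]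
        (CohB1.tensorPow T (k + 1)).presheaf.stalk z :=
      LinearEquiv.ofBijective (KFlatLib.stalkTensorLin (CohB1.tensorPow T k) T z)
        (KFlatLib.stalkTensorLin_bijective (CohB1.tensorPow T k) T z)
    refine ⟨fun x => E (P x ⊗ₜ x), fun c x => ?_, fun l => ?_⟩
    · show E (P (c • x) ⊗ₜ (c • x)) = c ^ (k + 1) • E (P x ⊗ₜ x)
      rw [hP1, TensorProduct.tmul_smul, ← TensorProduct.smul_tmul', smul_smul, ← pow_succ', map_smul]
    · obtain ⟨μ, hμ⟩ := hP2 l
      refine ⟨(TensorProduct.lift ((LinearMap.mul (X.presheaf.stalk z) (X.presheaf.stalk z)).compl₁₂ μ l)).comp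
        E.symm.toLinearMap, fun x => ?_⟩
      show _ = l x ^ (k + 1)
      simp only [LinearMap.comp_apply, LinearEquiv.coe_coe]
      rw [E.symm_apply_apply, TensorProduct.lift.tmul,
        LinearMap.compl₁₂_apply, LinearMap.mul_apply', hμ, pow_succ]

variable {X S : Scheme.{u}} [IsLocallyNoetherian X] [IsLocallyNoetherian S] (f : X ⟶ S) [Flat f]
  [LocallyOfFiniteType f]

/-- A dual whose power of exponent prime to the residue characteristic is invertible and which is invertible on the
fibre is invertible, when it is so outside a set along which the fibre has depth two. -/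
theorem invertibleAt_dual_of_root {T : X.Modules} (hT : Coh.IsCoh T) (s : S) (w : f.fiber s) {k : ℕ} (hk : 0 < k)
    (hks : (k : S.residueField s) ≠ 0)
    (hτ : RelCanon.InvertibleAt (RefHull.dual (CohB1.tensorPow T k)) (f.fiberι s w))
    (hσ : RelCanon.InvertibleAt (RefHull.dual ((Scheme.Modules.pullback (f.fiberι s)).obj T)) w)
    (hloc : ∀ v : f.fiber s, v ⤳ w → RelCanon.InvertibleAt T (f.fiberι s v) ∨
      (2 : ℕ∞) ≤ LocCoh.depth ((f.fiber s).presheaf.stalk v) ((f.fiber s).presheaf.stalk v)) :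
    RelCanon.InvertibleAt (RefHull.dual T) (f.fiberι s w) := by
  haveI : IsLocallyNoetherian (f.fiber s) :=
    haveI : LocallyOfFiniteType (f.fiberToSpecResidueField s) :=
      inferInstanceAs (LocallyOfFiniteType (Limits.pullback.snd _ _))
    LocallyOfFiniteType.isLocallyNoetherian (f.fiberToSpecResidueField s)
  let ι := f.fiberι s
  let A := S.presheaf.stalk (f (ι w))
  let B := X.presheaf.stalk (ι w)
  let C := (f.fiber s).presheaf.stalk w
  let K := T.presheaf.stalk (ι w)
  let Tt := (Scheme.Modules.pullback ι).obj T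
  have hTt := ConsLib.isCoh_pullback ι hT
  letI : Algebra A B := (f.stalkMap (ι w)).hom.toAlgebra
  haveI : IsLocalHom (algebraMap A B) := inferInstanceAs (IsLocalHom (f.stalkMap (ι w)).hom)
  haveI : Module.Flat A B := Flat.stalkMap f (ι w)
  haveI : Module.Finite B K := ZClosLib.finite_stalk hT (ι w)
  letI : Algebra B C := (ι.stalkMap w).hom.toAlgebra
  obtain ⟨hsC, hker⟩ := Groth.Agent.S9501.result f s w
  replace hsC : Function.Surjective (algebraMap B C) := hsC
  haveI : Module.Finite B C := Module.Finite.of_surjective (Algebra.linearMap B C) hsC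
  replace hker : RingHom.ker (algebraMap B C) = thick (B := B) A 0 := by
    show _ = (maximalIdeal A ^ (0 + 1)).map (algebraMap A B)
    rw [zero_add, pow_one]
    exact hker
  have hkB : IsUnit (k : B) := by
    have hA : IsUnit (k : A) := by
      have key : ∀ s' : S, s' = s → IsUnit (k : S.presheaf.stalk s') := by
        rintro s' rfl
        refine not_not.1 fun h => hks ?_
        rw [← map_natCast (S.residue s').hom]
        exact (IsLocalRing.residue_eq_zero_iff _).2 h
      exact key _ ((f.range_fiberι s).le ⟨w, rfl⟩)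
    simpa using hA.map (algebraMap A B)
  -- the generator of the power
  obtain ⟨Pr, hPr1, hPr2⟩ := exists_power_map T (ι w) k
  have hTk := QGorBCLib.isCoh_tensorPow hT k
  obtain ⟨eτ⟩ := QGorBCLib.nonempty_stalk_equiv hτ
  obtain ⟨ez⟩ := RefHullLib.nonempty_dual_stalk hTk (ι w)
  let eH := ez.symm.trans eτ
  let τ := eH.symm 1
  have hgen : ∀ μ, ∃ c : B, μ = c • τ := fun μ => ⟨eH μ, by
    rw [← map_smul, smul_eq_mul, mul_one, LinearEquiv.symm_apply_apply]⟩
  let q₀ : K → B := fun x => τ (Pr x)
  have hq₀ : ∀ (c : B) (x : K), q₀ (c • x) = c ^ k * q₀ x := fun c x => by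
    show τ (Pr (c • x)) = c ^ k * τ (Pr x)
    rw [hPr1, map_smul, smul_eq_mul]
  -- the generator on the fibre
  obtain ⟨ed⟩ := RefHullLib.nonempty_dual_stalk hTt w
  let eT : C ⊗[B] K ≃ₗ[C] Tt.presheaf.stalk w := ((KFlatLib.stalkPullIso ι w).symm.app T).toLinearEquiv
  obtain ⟨eσ⟩ := QGorBCLib.nonempty_stalk_equiv hσ
  let e₀ : (K →ₗ[B] C) ≃ₗ[B] C := ((LinearMap.liftBaseChangeEquiv C).trans
    ((LinearEquiv.congrLeft C C eT).trans (ed.symm.trans eσ))).restrictScalars B
  let σ := e₀.symm 1
  have hσgen : ∀ φ : K →ₗ[B] C, ∃ b : B, φ = b • σ := fun φ => by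
    obtain ⟨b, hb⟩ := hsC (e₀ φ)
    exact ⟨b, by rw [← map_smul, Algebra.smul_def, mul_one, hb, LinearEquiv.symm_apply_apply]⟩
  -- the two kinds of primes
  have hkinds : ∀ (p : Ideal B) [p.IsPrime], RingHom.ker (algebraMap B C) ≤ p →
      (∃ (g s : B) (t : K) (l : K →ₗ[B] B), g ∉ p ∧ (∀ x, g • x = l x • t) ∧ q₀ t ∉ p ∧ s ∉ p ∧
        algebraMap B C s = σ t) ∨
      (2 : ℕ∞) ≤ LocCoh.depth (Localization.AtPrime p) (LocalizedModule p.primeCompl C) := by
    intro p hp hIp
    obtain ⟨v, hvw, hιv, key⟩ := exists_generization f s w p hIp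
    rcases hloc v hvw with hinv | h2
    · left
      obtain ⟨g, hg, t, l, hgt, hlt⟩ := exists_factor_of_invertibleAt hT (ι w) ⟨p, hp⟩ (hιv ▸ hinv)
      obtain ⟨μ, hμ⟩ := hPr2 l
      obtain ⟨c, rfl⟩ := hgen μ
      obtain ⟨b, hb⟩ := hσgen ((Algebra.linearMap B C).comp l)
      obtain ⟨s', hs'⟩ := hsC (σ t)
      refine ⟨g, s', t, l, hg, hgt, fun h => hlt ?_, fun h => hlt ?_, hs'⟩
      · refine hp.mem_of_pow_mem k ?_
        rw [← hμ, LinearMap.smul_apply, smul_eq_mul]
        exact Ideal.mul_mem_left _ _ h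
      · have h1 : algebraMap B C (l t) = algebraMap B C (b * s') := by
          rw [map_mul, hs', ← Algebra.smul_def]
          exact LinearMap.congr_fun hb t
        have h2 : l t - b * s' ∈ p := hIp (by rw [RingHom.mem_ker, map_sub, h1, sub_self])
        simpa using p.add_mem h2 (p.mul_mem_left b h)
    · right
      obtain ⟨u⟩ := RefHullLib.nonempty_stalk_unit (f.fiber s) w
      obtain ⟨u'⟩ := RefHullLib.nonempty_stalk_unit (f.fiber s) v
      letI : Module B ((Coh.structureModule (f.fiber s)).presheaf.stalk w) := Module.compHom _ (algebraMap B C)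
      haveI : IsScalarTower B C ((Coh.structureModule (f.fiber s)).presheaf.stalk w) :=
        IsScalarTower.of_algebraMap_smul fun _ _ => rfl
      rw [depth_localized_congr p (u.restrictScalars B), key _ (DevissLib.isCoh_structureModule _),
        ← CommAlgDim.depth_congr u']
      exact h2
  obtain ⟨c, hcu, hc⟩ := exists_unit_const hsC q₀ hq₀ σ hkinds
  obtain ⟨c₀, hc₀⟩ := hsC c
  have hc₀u : IsUnit c₀ := by
    haveI : IsLocalHom (algebraMap B C) := inferInstanceAs (IsLocalHom (ι.stalkMap w).hom)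
    exact isUnit_of_map_unit (algebraMap B C) _ (hc₀ ▸ hcu)
  obtain ⟨c₁, hc₁⟩ := hc₀u.exists_left_inv
  let q : K → B := fun x => c₁ * q₀ x
  have hq : ∀ (b : B) (x : K), q (b • x) = b ^ k * q x := fun b x => by
    show c₁ * q₀ (b • x) = b ^ k * (c₁ * q₀ x)
    rw [hq₀]; ring
  let eC : (B ⧸ thick (B := B) A 0) ≃ₐ[B] C := (Ideal.quotientEquivAlgOfEq B hker.symm).trans
    (Ideal.quotientKerAlgEquivOfSurjective (f := Algebra.ofId B C) hsC)
  have heC : ∀ b : B, eC (Ideal.Quotient.mk _ b) = algebraMap B C b := fun b => eC.commutes b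
  let σ' : K →ₗ[B] B ⧸ thick (B := B) A 0 := eC.symm.toLinearEquiv.toLinearMap.comp σ
  have hσ' : ∀ x, σ' x ^ k = Ideal.Quotient.mk _ (q x) := fun x => by
    refine eC.injective ?_
    rw [map_pow, heC, show eC (σ' x) = σ x from eC.apply_symm_apply _, map_mul, hc, ← mul_assoc, ← hc₀, ← map_mul,
      hc₁, map_one, one_mul]
  have hroots := exists_roots (A := A) K hk hkB q hq σ' hσ' fun p hp => by
    by_cases hIp : RingHom.ker (algebraMap B C) ≤ p
    · rcases hkinds p hIp with ⟨g, s', t, l, hg, hgt, hqt, -, -⟩ | h2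
      · exact Or.inl ⟨g, t, l, hg, hgt, fun h => (hp.mem_or_mem h).elim
          (fun h1 => hp.ne_top (Ideal.eq_top_of_isUnit_mem _ h1 (IsUnit.of_mul_eq_one _ hc₁))) hqt⟩
      · refine Or.inr ?_
        rw [depth_localized_congr p ((Submodule.quotEquivOfEq _ _ (sub_eq_thick 0)).trans eC.toLinearEquiv)]
        exact h2
    · obtain ⟨b, hbI, hbp⟩ := SetLike.not_le_iff_exists.1 hIp
      have hb : ∀ x : Pq (B := B) A B 0, b • x = 0 := fun x => by
        obtain ⟨y, rfl⟩ := Submodule.Quotient.mk_surjective _ x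
        rw [← Submodule.Quotient.mk_smul]
        exact (Submodule.Quotient.mk_eq_zero _).2 (by
          rw [sub_eq_thick, ← hker, smul_eq_mul]; exact Ideal.mul_mem_right _ _ hbI)
      exact Or.inr (by exact_mod_cast le_depth_localized_of_annihilated p hbp hb 2)
  obtain ⟨hflat, ⟨es⟩⟩ := flat_dual_and_fibre_of_lifts f hT s w fun n φ => by
    obtain ⟨φn, -, hφn⟩ := hroots n
    let j₀ := Submodule.quotEquivOfEq _ _ (sub_eq_thick (A := A) (B := B) 0)
    let jn := Submodule.quotEquivOfEq _ _ (sub_eq_thick (A := A) (B := B) n)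
    obtain ⟨b, hb⟩ := hσgen (eC.toLinearEquiv.toLinearMap.comp (j₀.toLinearMap.comp φ))
    refine ⟨b • jn.symm.toLinearMap.comp φn, fun x z hz => ?_⟩
    obtain ⟨y, hy⟩ := Ideal.Quotient.mk_surjective (φn x)
    have h1 : σ' x = Ideal.Quotient.mk _ y := hφn x y hy.symm
    have h2 : j₀ (φ x) = b • σ' x := by
      refine eC.toLinearEquiv.injective ?_
      rw [map_smul, show eC.toLinearEquiv (σ' x) = σ x from eC.apply_symm_apply _]
      exact LinearMap.congr_fun hb x
    have h3 : φ x = b • Submodule.Quotient.mk y := j₀.injective (by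
      rw [h2, h1, map_smul]
      rfl)
    have h4 : (Submodule.Quotient.mk z : Pq (B := B) A B n) = b • Submodule.Quotient.mk y := by
      rw [← hz, LinearMap.smul_apply, LinearMap.comp_apply, LinearEquiv.coe_coe, ← hy]
      rfl
    rw [← Submodule.Quotient.mk_smul] at h3 h4
    have hle : sub (B := B) (maximalIdeal A ^ (n + 1)) B ≤ sub (B := B) (maximalIdeal A ^ (0 + 1)) B :=
      Submodule.smul_mono_left (Ideal.map_mono (Ideal.pow_le_pow_right (by omega)))
    exact h3.trans ((Submodule.Quotient.eq _).2 (hle ((Submodule.Quotient.eq _).1 h4.symm)))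
  exact QGorIdxLib.invertibleAt_of_fibre' f (RefHullLib.isCoh_dual hT) s w hflat
    (QGorDescLib.invertibleAt_of_stalk (ConsLib.isCoh_pullback _ (RefHullLib.isCoh_dual hT)) (es.trans eσ))

end QGorLiftLib
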