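import Groth.Agent.QGorLiftLib.PointData
import Groth.Agent.QGorLiftLib.RootGeom
import Groth.Agent.QGorNhdLib.Main
import Groth.Agent.S2872

/-!
# A deformation of the dualizing sheaf of a fibre is locally isomorphic to the relative canonical sheaf
-/

set_option autoImplicit false
set_option linter.style.haveILetI false
set_option linter.unusedSectionVars false
set_option backward.isDefEq.respectTransparency false
set_option backward.isDefEq.respectTransparency.types false
set_option maxHeartbeats 1000000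
set_option synthInstance.maxHeartbeats 200000

noncomputable section

universe u

open CategoryTheory CategoryTheory.Limits AlgebraicGeometry IsLocalRing TopologicalSpace
open Groth.Agent
open scoped TensorProduct Pointwise

attribute [local instance] HasDerivedCategory.standard

namespace QGorLiftLib

/-- The locus of isomorphic stalks is open. -/
theorem isOpen_stalk_equiv {X : Scheme.{u}} [IsLocallyNoetherian X] {M N : X.Modules} (hM : Coh.IsCoh M)
    (hN : Coh.IsCoh N) :
    IsOpen {v : X | Nonempty (M.presheaf.stalk v ≃ₗ[X.presheaf.stalk v] N.presheaf.stalk v)} := by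
  refine isOpen_iff_forall_mem_open.2 fun v ⟨e⟩ => ?_
  haveI := hM.1
  haveI := hN.1
  obtain ⟨V, hV, hvV, -⟩ := exists_isAffineOpen_mem_and_subset (X := X) (x := v) (U := ⊤) trivial
  haveI : IsNoetherianRing Γ(X, V) := IsLocallyNoetherian.component_noetherian ⟨V, hV⟩
  haveI : Module.Finite Γ(X, V) Γ(M, V) := QCohLib.finite_of_isFT hM.2 hV
  haveI : Module.Finite Γ(X, V) Γ(N, V) := QCohLib.finite_of_isFT hN.2 hV
  letI : Algebra Γ(X, V) (X.presheaf.stalk v) := (X.presheaf.germ V v hvV).hom.toAlgebra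
  letI := Module.compHom (M.presheaf.stalk v) (X.presheaf.germ V v hvV).hom
  letI := Module.compHom (N.presheaf.stalk v) (X.presheaf.germ V v hvV).hom
  haveI : IsScalarTower Γ(X, V) (X.presheaf.stalk v) (M.presheaf.stalk v) := IsScalarTower.of_algebraMap_smul fun _ _ => rfl
  haveI : IsScalarTower Γ(X, V) (X.presheaf.stalk v) (N.presheaf.stalk v) := IsScalarTower.of_algebraMap_smul fun _ _ => rfl
  haveI := FlatLib.isLocalizedModule_germLin M hV hvV
  haveI := FlatLib.isLocalizedModule_germLin N hV hvV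
  obtain ⟨g, hg, hφ⟩ := isoModAt_of_equiv (hV.primeIdealOf ⟨v, hvV⟩).asIdeal (FlatLib.germLin M hvV)
    (FlatLib.germLin N hvV) (e.restrictScalars Γ(X, V))
  refine ⟨X.basicOpen g, fun y hy => ?_, (X.basicOpen g).2, (AssPointLib.mem_basicOpen_iff hV hvV g).2 hg⟩
  have hyV : y ∈ V := X.basicOpen_le g hy
  letI : Algebra Γ(X, V) (X.presheaf.stalk y) := (X.presheaf.germ V y hyV).hom.toAlgebra
  letI := Module.compHom (M.presheaf.stalk y) (X.presheaf.germ V y hyV).hom
  letI := Module.compHom (N.presheaf.stalk y) (X.presheaf.germ V y hyV).hom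
  haveI : IsScalarTower Γ(X, V) (X.presheaf.stalk y) (M.presheaf.stalk y) := IsScalarTower.of_algebraMap_smul fun _ _ => rfl
  haveI : IsScalarTower Γ(X, V) (X.presheaf.stalk y) (N.presheaf.stalk y) := IsScalarTower.of_algebraMap_smul fun _ _ => rfl
  haveI : IsLocalization.AtPrime (X.presheaf.stalk y) (hV.primeIdealOf ⟨y, hyV⟩).asIdeal := hV.isLocalization_stalk ⟨y, hyV⟩
  haveI := FlatLib.isLocalizedModule_germLin M hV hyV
  haveI := FlatLib.isLocalizedModule_germLin N hV hyV
  obtain ⟨e'⟩ := nonempty_equiv_of_isoModAt (hV.primeIdealOf ⟨y, hyV⟩).asIdeal (FlatLib.germLin M hyV)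
    (FlatLib.germLin N hyV) ⟨g, (AssPointLib.mem_basicOpen_iff hV hyV g).1 hy, hφ⟩
  exact ⟨LinearEquiv.ofBijective (e'.toLinearMap.extendScalarsOfIsLocalization
    (hV.primeIdealOf ⟨y, hyV⟩).asIdeal.primeCompl (X.presheaf.stalk y)) e'.bijective⟩

/-- Functoriality of the tensor powers of stalks in linear maps. -/
theorem exists_power_hom {X : Scheme.{u}} (M N : X.Modules) (z : X) : ∀ k : ℕ,
    ∃ (F : (M.presheaf.stalk z →ₗ[X.presheaf.stalk z] N.presheaf.stalk z) →
        ((CohB1.tensorPow M k).presheaf.stalk z →ₗ[X.presheaf.stalk z] (CohB1.tensorPow N k).presheaf.stalk z))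
      (G : (N.presheaf.stalk z →ₗ[X.presheaf.stalk z] M.presheaf.stalk z) →
        ((CohB1.tensorPow N k).presheaf.stalk z →ₗ[X.presheaf.stalk z] (CohB1.tensorPow M k).presheaf.stalk z)),
      (∀ (c : X.presheaf.stalk z) m, F (c • m) = c ^ k • F m) ∧
      ∀ (g : X.presheaf.stalk z) m m', m'.comp m = g • LinearMap.id → m.comp m' = g • LinearMap.id →
        (G m').comp (F m) = g ^ k • LinearMap.id
  | 0 => ⟨fun _ => LinearMap.id, fun _ => LinearMap.id,
      fun c m => by rw [pow_zero, one_smul], fun g m m' _ _ => by rw [pow_zero, one_smul]; rfl⟩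
  | k + 1 => by
    obtain ⟨F, G, hF, hFG⟩ := exists_power_hom M N z k
    let EM : (CohB1.tensorPow M k).presheaf.stalk z ⊗[X.presheaf.stalk z] M.presheaf.stalk z ≃ₗ[X.presheaf.stalk z]
        (CohB1.tensorPow M (k + 1)).presheaf.stalk z :=
      LinearEquiv.ofBijective (KFlatLib.stalkTensorLin (CohB1.tensorPow M k) M z)
        (KFlatLib.stalkTensorLin_bijective (CohB1.tensorPow M k) M z)
    let EN : (CohB1.tensorPow N k).presheaf.stalk z ⊗[X.presheaf.stalk z] N.presheaf.stalk z ≃ₗ[X.presheaf.stalk z]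
        (CohB1.tensorPow N (k + 1)).presheaf.stalk z :=
      LinearEquiv.ofBijective (KFlatLib.stalkTensorLin (CohB1.tensorPow N k) N z)
        (KFlatLib.stalkTensorLin_bijective (CohB1.tensorPow N k) N z)
    refine ⟨fun m => EN.toLinearMap.comp ((TensorProduct.map (F m) m).comp EM.symm.toLinearMap),
      fun m' => EM.toLinearMap.comp ((TensorProduct.map (G m') m').comp EN.symm.toLinearMap), fun c m => ?_,
      fun g m m' h1 h2 => ?_⟩
    · refine LinearMap.ext fun x => ?_
      show EN (TensorProduct.map (F (c • m)) (c • m) (EM.symm x)) = c ^ (k + 1) • EN (TensorProduct.map (F m) m (EM.symm x))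
      rw [hF, TensorProduct.map_smul_left, TensorProduct.map_smul_right, LinearMap.smul_apply, LinearMap.smul_apply,
        smul_smul, ← pow_succ, map_smul]
    · refine LinearMap.ext fun x => ?_
      show EM (TensorProduct.map (G m') m' (EN.symm (EN (TensorProduct.map (F m) m (EM.symm x))))) = g ^ (k + 1) • x
      rw [EN.symm_apply_apply, ← LinearMap.comp_apply, ← TensorProduct.map_comp, hFG g m m' h1 h2, h1,
        TensorProduct.map_smul_left, TensorProduct.map_smul_right, TensorProduct.map_id, LinearMap.smul_apply,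
        LinearMap.smul_apply, LinearMap.id_apply, smul_smul, ← pow_succ, map_smul, EM.apply_symm_apply]

variable {A : Type u} [CommRing A] [IsNoetherianRing A] {Y : Scheme.{u}} [Y.Over (Spec (CommRingCat.of A))]
  [IsProper (Y ↘ Spec (CommRingCat.of A))] [Flat (Y ↘ Spec (CommRingCat.of A))] {d : ℕ}
  (hd : Cyc.HasRelDim (Y ↘ Spec (CommRingCat.of A)) d)
  (hS : RelCanon.IsSkMor (Y ↘ Spec (CommRingCat.of A)) 2)
  {ω : Y.Modules} (hω : RelCanon.IsDualizingSheaf A Y d ω) {L : Y.Modules} (hL : Coh.IsCoh L)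
  (hLf : FlatMod.IsFlatOver (Y ↘ Spec (CommRingCat.of A)) L)
  (t : Spec (CommRingCat.of A)) (hLt : RelCanon.IsDualizingSheafFib (Y ↘ Spec (CommRingCat.of A)) d L t)

include hd hS hω hL hLf hLt in
/-- At the Cohen–Macaulay points of the fibre the deformation is the relative canonical sheaf. -/
theorem nonempty_stalk_equiv_of_cm (w : (Y ↘ Spec (CommRingCat.of A)).fiber t)
    (hw : (Y ↘ Spec (CommRingCat.of A)).fiberι t w ∈ cmOpen A Y) :
    Nonempty (ω.presheaf.stalk ((Y ↘ Spec (CommRingCat.of A)).fiberι t w)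
      ≃ₗ[Y.presheaf.stalk ((Y ↘ Spec (CommRingCat.of A)).fiberι t w)]
        L.presheaf.stalk ((Y ↘ Spec (CommRingCat.of A)).fiberι t w)) := by
  let f := Y ↘ Spec (CommRingCat.of A)
  haveI : IsNoetherianRing (CommRingCat.of A) := ‹IsNoetherianRing A›
  haveI : IsLocallyNoetherian Y := LocallyOfFiniteType.isLocallyNoetherian f
  let ι := f.fiberι t
  letI : Algebra ((Spec (CommRingCat.of A)).presheaf.stalk (f (ι w))) (Y.presheaf.stalk (ι w)) :=
    (f.stalkMap (ι w)).hom.toAlgebra
  haveI : IsLocalHom (algebraMap ((Spec (CommRingCat.of A)).presheaf.stalk (f (ι w))) (Y.presheaf.stalk (ι w))) :=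
    inferInstanceAs (IsLocalHom (f.stalkMap (ι w)).hom)
  letI := FlatMod.moduleStalkOver f L (ι w)
  haveI : IsScalarTower ((Spec (CommRingCat.of A)).presheaf.stalk (f (ι w))) (Y.presheaf.stalk (ι w))
      (L.presheaf.stalk (ι w)) := IsScalarTower.of_algebraMap_smul fun _ _ => rfl
  haveI : Module.Flat ((Spec (CommRingCat.of A)).presheaf.stalk (f (ι w))) (L.presheaf.stalk (ι w)) := hLf (ι w)
  haveI : Module.Finite (Y.presheaf.stalk (ι w)) (L.presheaf.stalk (ι w)) := ZClosLib.finite_stalk hL _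
  haveI : Module.Finite (Y.presheaf.stalk (ι w)) (ω.presheaf.stalk (ι w)) :=
    ZClosLib.finite_stalk (QGorSecLib.isCoh_dualizing hd hω) _
  obtain ⟨σ, hEnd, hfaith, hp⟩ := exists_fibre_data hd hS hω hL t hLt w
  have hcan : ∀ (p : Ideal (Y.presheaf.stalk (ι w))) [p.IsPrime],
      (maximalIdeal ((Spec (CommRingCat.of A)).presheaf.stalk (f (ι w)))).map (algebraMap _ _) ≤ p → CanonAt p σ := by
    intro p hpp hle
    obtain ⟨v, hvw, -, hc, -⟩ := hp p hle
    exact hc ((hvw.map ι.continuous).mem_open (cmOpen A Y).2 hw)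
  obtain ⟨ψ, hψ, -⟩ := exists_generator σ hEnd hfaith fun p hpp hle => Or.inl (hcan p hle)
  exact ⟨LinearEquiv.ofBijective ψ (bijective_of_canonAt_maximalIdeal σ
    (hcan _ (Ideal.map_le_iff_le_comap.2 fun a ha => map_nonunit
      (algebraMap ((Spec (CommRingCat.of A)).presheaf.stalk (f (ι w))) (Y.presheaf.stalk (ι w))) a ha)) ψ hψ)⟩

include hd hS hLt in
/-- The deformation has fibrewise depth two along a closed set of the fibre off the Cohen–Macaulay points. -/
theorem two_le_fiberDepthAlong (T : Set Y)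
    (hT : ∀ y : Y, (Y ↘ Spec (CommRingCat.of A)) y = t → y ∈ T → y ∉ cmOpen A Y) (z : Y)
    (hz : (Y ↘ Spec (CommRingCat.of A)) z = t) :
    (2 : ℕ∞) ≤ CInt.fiberDepthAlong (Y ↘ Spec (CommRingCat.of A)) L T z := by
  let f := Y ↘ Spec (CommRingCat.of A)
  refine le_iInf fun y => ?_
  obtain ⟨y, hyT, -, hy⟩ := y
  have hyt : f y = t := hy.trans hz
  show (2 : ℕ∞) ≤ CInt.fiberDepth f L y
  have hdim := (lt_dim_of_notMem_cmOpen hS (hT y hyt hyT)).le
  subst hyt
  exact two_le_depth_dualizing_fibre hd _ hLt _ hdim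

include hd hS hω hL hLf hLt in
/-- Near a point of the fibre, off an open containing its Cohen–Macaulay points the depths are two. -/
theorem two_le_depth_near (Yo : Y.Opens)
    (hW : ∀ y : Y, (Y ↘ Spec (CommRingCat.of A)) y = t → y ∉ Yo → y ∉ cmOpen A Y) (z : Y)
    (hz : (Y ↘ Spec (CommRingCat.of A)) z = t) (hzo : z ∉ Yo) (v : Y) (hvz : v ⤳ z) (hvo : v ∉ Yo) :
    (2 : ℕ∞) ≤ LocCoh.depth (Y.presheaf.stalk v) (ω.presheaf.stalk v) ∧
      (2 : ℕ∞) ≤ LocCoh.depth (Y.presheaf.stalk v) (L.presheaf.stalk v) ∧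
      (2 : ℕ∞) ≤ LocCoh.depth (Y.presheaf.stalk v) ((Coh.structureModule Y).presheaf.stalk v) := by
  let f := Y ↘ Spec (CommRingCat.of A)
  haveI : IsNoetherianRing (CommRingCat.of A) := ‹IsNoetherianRing A›
  haveI : IsLocallyNoetherian Y := LocallyOfFiniteType.isLocallyNoetherian f
  haveI : LocallyOfFinitePresentation f := UOpenLib.locallyOfFinitePresentation_of_isLocallyNoetherian f
  obtain ⟨U, hzU, -, -, hUd⟩ := QGorNhdLib.exists_nhd f le_rfl z (hS.2.2 z) Yo hzo
    (c := (2 : WithBot ℕ∞)) fun y hy hyo _ => (lt_dim_of_notMem_cmOpen hS (hW y (hy.trans hz) hyo)).le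
  let T : Closeds Y := ⟨(Yo : Set Y)ᶜ, Yo.2.isClosed_compl⟩
  obtain ⟨U₂, hU₂⟩ := Groth.Agent.S2872.result f T L hL.1 (QCohLib.isFP_of_isCoh L hL) hLf 2
  have hzU₂ : z ∈ U₂ := (hU₂ z hzo).2 (two_le_fiberDepthAlong hd hS t hLt (T : Set Y)
    (fun y hy hyT => hW y hy hyT) z hz)
  have hdim := hUd v (hvz.mem_open U.2 hzU) hvo
  refine ⟨two_le_depth_dualizing hd hS hω hdim, ?_, ?_⟩
  · refine QGorBCLib.two_le_depth_stalk f L hL v (hLf v) ?_
    have h2 : (2 : ℕ∞) ≤ CInt.fiberDepthAlong f L (T : Set Y) v := (hU₂ v hvo).1 (hvz.mem_open U₂.2 hzU₂)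
    unfold CInt.fiberDepthAlong at h2
    exact (le_iInf_iff.1 h2) ⟨v, hvo, specializes_rfl, rfl⟩
  · refine QGorBCLib.two_le_depth_stalk f _ (DevissLib.isCoh_structureModule Y) v
      ((DepthLib.isFlatOverAt_structureModule_iff f v).2 (Flat.stalkMap f v)) ?_
    obtain ⟨e'⟩ := DepthLib.nonempty_pullback_unit_stalk (f.fiberι (f v)) (f.asFiber v)
    rw [CommAlgDim.depth_congr e']
    haveI : IsLocallyNoetherian (f.fiber (f v)) :=
      haveI := UOpenLib.lft_fiberToSpec f (f v)
      LocallyOfFiniteType.isLocallyNoetherian (f.fiberToSpecResidueField (f v))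
    exact le_depth_self_of_skAt specializes_rfl (hS.2.2 v) hdim

include hd hS hω hL hLf hLt in
/-- Along the fibre the deformation is locally the relative canonical sheaf. -/
theorem nonempty_stalk_equiv_along_fibre
    (h : (∀ y : Y, (Y ↘ Spec (CommRingCat.of A)) y = t →
        RelCanon.SkAt 3 (Coh.structureModule ((Y ↘ Spec (CommRingCat.of A)).fiber ((Y ↘ Spec (CommRingCat.of A)) y)))
          ((Y ↘ Spec (CommRingCat.of A)).asFiber y)) ∨
      (∃ r : ℕ, 0 < r ∧ (r : (Spec (CommRingCat.of A)).residueField t) ≠ 0 ∧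
        ∀ y : Y, (Y ↘ Spec (CommRingCat.of A)) y = t →
          RelCanon.InvertibleAt (RelCanon.refPowZ L r) y ∧ RelCanon.InvertibleAt (RelCanon.refPowZ ω r) y))
    (w : (Y ↘ Spec (CommRingCat.of A)).fiber t) :
    Nonempty (ω.presheaf.stalk ((Y ↘ Spec (CommRingCat.of A)).fiberι t w)
      ≃ₗ[Y.presheaf.stalk ((Y ↘ Spec (CommRingCat.of A)).fiberι t w)]
        L.presheaf.stalk ((Y ↘ Spec (CommRingCat.of A)).fiberι t w)) := by
  let f := Y ↘ Spec (CommRingCat.of A)
  haveI : IsNoetherianRing (CommRingCat.of A) := ‹IsNoetherianRing A›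
  haveI : IsLocallyNoetherian Y := LocallyOfFiniteType.isLocallyNoetherian f
  haveI : LocallyOfFinitePresentation f := UOpenLib.locallyOfFinitePresentation_of_isLocallyNoetherian f
  haveI : IsLocallyNoetherian (f.fiber t) :=
    haveI := UOpenLib.lft_fiberToSpec f t
    LocallyOfFiniteType.isLocallyNoetherian (f.fiberToSpecResidueField t)
  let ι := f.fiberι t
  let z := ι w
  have hcω := QGorSecLib.isCoh_dualizing hd hω
  let Yo : Y.Opens := ⟨_, isOpen_stalk_equiv hcω hL⟩
  by_cases hzo : z ∈ Yo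
  · exact hzo
  have hfz : ∀ x : f.fiber t, f (ι x) = t := fun x => (f.range_fiberι t).le ⟨x, rfl⟩
  have hW : ∀ y : Y, f y = t → y ∉ Yo → y ∉ cmOpen A Y := fun y hy hyo hyW => by
    obtain ⟨x, rfl⟩ : y ∈ Set.range ι := by rw [f.range_fiberι]; exact hy
    exact hyo (nonempty_stalk_equiv_of_cm hd hS hω hL hLf t hLt x hyW)
  have hout := two_le_depth_near hd hS hω hL hLf t hLt Yo hW z (hfz w) hzo
  let B := Y.presheaf.stalk z
  letI : Algebra ((Spec (CommRingCat.of A)).presheaf.stalk (f z)) B := (f.stalkMap z).hom.toAlgebra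
  haveI : IsLocalHom (algebraMap ((Spec (CommRingCat.of A)).presheaf.stalk (f z)) B) :=
    inferInstanceAs (IsLocalHom (f.stalkMap z).hom)
  haveI : Module.Flat ((Spec (CommRingCat.of A)).presheaf.stalk (f z)) B := Flat.stalkMap f z
  letI := FlatMod.moduleStalkOver f L z
  haveI : IsScalarTower ((Spec (CommRingCat.of A)).presheaf.stalk (f z)) B (L.presheaf.stalk z) :=
    IsScalarTower.of_algebraMap_smul fun _ _ => rfl
  haveI : Module.Flat ((Spec (CommRingCat.of A)).presheaf.stalk (f z)) (L.presheaf.stalk z) := hLf z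
  haveI : Module.Finite B (L.presheaf.stalk z) := ZClosLib.finite_stalk hL _
  haveI : Module.Finite B (ω.presheaf.stalk z) := ZClosLib.finite_stalk hcω _
  haveI : Flat (Y ↘ Spec (CommRingCat.of A)) := hS.1
  have hiso : ∀ (p : Ideal B) [p.IsPrime], EquidimLib.stalkPt z ⟨p, ‹_›⟩ ∈ Yo →
      IsoModAt p (ω.presheaf.stalk z) (L.presheaf.stalk z) := by
    intro p hpp ⟨e⟩
    have h1 := isoModAt_of_stalk_equiv hcω hL (EquidimLib.stalkPt_specializes z ⟨p, hpp⟩) e
    rwa [primeOf_eq] at h1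
  have hgen : ∀ (p : Ideal B) [p.IsPrime], IsoModAt p (ω.presheaf.stalk z) (L.presheaf.stalk z) ∨
      ((2 : ℕ∞) ≤ LocCoh.depth (Localization.AtPrime p) (LocalizedModule p.primeCompl (ω.presheaf.stalk z)) ∧
        (2 : ℕ∞) ≤ LocCoh.depth (Localization.AtPrime p) (LocalizedModule p.primeCompl (L.presheaf.stalk z)) ∧
        (2 : ℕ∞) ≤ LocCoh.depth (Localization.AtPrime p) (LocalizedModule p.primeCompl B)) := by
    intro p hpp
    by_cases hv : EquidimLib.stalkPt z ⟨p, hpp⟩ ∈ Yo
    · exact Or.inl (hiso p hv)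
    · obtain ⟨h1, h2, h3⟩ := hout _ (EquidimLib.stalkPt_specializes z ⟨p, hpp⟩) hv
      obtain ⟨u⟩ := RefHullLib.nonempty_stalk_unit Y z
      refine Or.inr ⟨h1.trans_eq (depth_localized_stalk hcω z ⟨p, hpp⟩).symm,
        h2.trans_eq (depth_localized_stalk hL z ⟨p, hpp⟩).symm, ?_⟩
      rw [depth_localized_congr p u, depth_localized_stalk (DevissLib.isCoh_structureModule Y) z ⟨p, hpp⟩]
      exact h3
  obtain ⟨σ, hEnd, hfaith, hp⟩ := exists_fibre_data hd hS hω hL t hLt w
  have hfib : ∀ (p : Ideal B) [p.IsPrime],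
      (maximalIdeal ((Spec (CommRingCat.of A)).presheaf.stalk (f z))).map (algebraMap _ B) ≤ p →
      (CanonAt p σ ∧ IsoModAt p (ω.presheaf.stalk z) (L.presheaf.stalk z)) ∨
      ∃ v : f.fiber t, ι v ∉ cmOpen A Y ∧ v ⤳ w ∧
        (2 : ℕ∞) ≤ LocCoh.depth (Localization.AtPrime p) (LocalizedModule p.primeCompl
          (Pq (B := B) ((Spec (CommRingCat.of A)).presheaf.stalk (f z)) (L.presheaf.stalk z) 0)) ∧
        LocCoh.depth ((f.fiber t).presheaf.stalk v) ((f.fiber t).presheaf.stalk v) =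
          LocCoh.depth (Localization.AtPrime p) (LocalizedModule p.primeCompl
            (B ⧸ (maximalIdeal ((Spec (CommRingCat.of A)).presheaf.stalk (f z))).map (algebraMap _ B))) := by
    intro p hpp hle
    obtain ⟨v, hvw, hιv, hc, hN, hC⟩ := hp p hle
    by_cases hvW : ι v ∈ cmOpen A Y
    · exact Or.inl ⟨hc hvW, hiso p (hιv ▸ nonempty_stalk_equiv_of_cm hd hS hω hL hLf t hLt v hvW)⟩
    · exact Or.inr ⟨v, hvW, hvw, (two_le_depth_dualizing_fibre hd t hLt v
        ((lt_dim_of_notMem_cmOpen hS hvW).le.trans_eq (AlgSpLib.stalkDim_fiber_congr f t v _ rfl).symm)).trans_eq hN, hC⟩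
  rcases h with h3 | ⟨r, hr, hrt, hinv⟩
  · obtain ⟨ψ, -, hψ⟩ := exists_generator σ hEnd hfaith fun p hpp hle => (hfib p hle).imp And.left
      fun ⟨v, hvW, hvw, hN, hC⟩ => ⟨hN, by
        have key : ∀ y : Y, ι v = y → RelCanon.SkAt 3 (Coh.structureModule (f.fiber t)) v ∧
            (3 : WithBot ℕ∞) ≤ ringKrullDim ((f.fiber t).presheaf.stalk v) := by
          intro y hy
          have hs : f y = t := hy ▸ hfz v
          have hyW : y ∉ cmOpen A Y := hy ▸ hvW
          subst hs
          obtain rfl : f.asFiber y = v :=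
            (f.fiberι _).isEmbedding.injective ((f.fiberι_asFiber y).trans hy.symm)
          exact ⟨h3 y rfl, le_of_lt (QGorEndLib.lt_dim_of_not_isCMAt f 3 y (h3 y rfl) hyW)⟩
        obtain ⟨k1, k2⟩ := key _ rfl
        rw [← hC]
        exact_mod_cast le_depth_self_of_skAt (k := 3) specializes_rfl k1 (by exact_mod_cast k2)⟩
    refine ⟨LinearEquiv.ofBijective ψ (bijective_of_local ψ fun p hpp => ?_)⟩
    exact (hgen p).imp (fun hi => bijAt_of_cyclic p hi ψ hψ) fun ⟨h1, h2, _⟩ => ⟨h1, h2⟩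
  · obtain ⟨hLi, hωi⟩ := hinv z (hfz w)
    obtain ⟨eL₀⟩ := QGorBCLib.nonempty_stalk_equiv hLi
    obtain ⟨eω₀⟩ := QGorBCLib.nonempty_stalk_equiv hωi
    have hLk := QGorBCLib.isCoh_tensorPow hL r
    have hωk := QGorBCLib.isCoh_tensorPow hcω r
    obtain ⟨a₁⟩ := RefHullLib.nonempty_dual_stalk hLk z
    obtain ⟨a₂⟩ := RefHullLib.nonempty_dual_stalk (RefHullLib.isCoh_dual hLk) z
    obtain ⟨b₁⟩ := RefHullLib.nonempty_dual_stalk hωk z
    obtain ⟨b₂⟩ := RefHullLib.nonempty_dual_stalk (RefHullLib.isCoh_dual hωk) z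
    let eL : Module.Dual B (Module.Dual B ((CohB1.tensorPow L r).presheaf.stalk z)) ≃ₗ[B] B :=
      (LinearEquiv.congrLeft B B a₁).symm.trans (a₂.symm.trans eL₀)
    let eω : Module.Dual B (Module.Dual B ((CohB1.tensorPow ω r).presheaf.stalk z)) ≃ₗ[B] B :=
      (LinearEquiv.congrLeft B B b₁).symm.trans (b₂.symm.trans eω₀)
    obtain ⟨F, G, hF, hFG⟩ := exists_power_hom L ω z r
    let q : (L.presheaf.stalk z →ₗ[B] ω.presheaf.stalk z) → B := fun m =>
      eω ((F m).dualMap.dualMap (eL.symm 1))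
    let q' : (ω.presheaf.stalk z →ₗ[B] L.presheaf.stalk z) → B := fun m' =>
      eL ((G m').dualMap.dualMap (eω.symm 1))
    have hku : IsUnit (r : B) := by
      have hA : IsUnit (r : (Spec (CommRingCat.of A)).presheaf.stalk (f z)) := by
        have key : ∀ s' : Spec (CommRingCat.of A), s' = t → IsUnit (r : (Spec (CommRingCat.of A)).presheaf.stalk s') := by
          rintro s' rfl
          refine not_not.1 fun h => hrt ?_
          rw [← map_natCast ((Spec (CommRingCat.of A)).residue s').hom]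
          exact (IsLocalRing.residue_eq_zero_iff _).2 h
        exact key _ (hfz w)
      simpa using hA.map (algebraMap _ B)
    obtain ⟨h₀, hh₀⟩ := exists_generator_of_power (P := L.presheaf.stalk z) σ
      (fun φ => by
        obtain ⟨b, hb⟩ := (bijective_smul_stalk hd hω hS z).2 φ
        exact ⟨b, fun x => (LinearMap.congr_fun hb x).symm⟩)
      (fun b hb => (bijective_smul_stalk hd hω hS z).1 (LinearMap.ext fun x => by
        show b • x = (0 : B) • x
        rw [hb, zero_smul]))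
      hEnd hfaith hr hku q (fun c m => by
        show eω ((F (c • m)).dualMap.dualMap (eL.symm 1)) = c ^ r * eω ((F m).dualMap.dualMap (eL.symm 1))
        rw [hF, ← smul_eq_mul, ← map_smul eω]
        refine congrArg eω (LinearMap.ext fun ξ => ?_)
        show eL.symm 1 (ξ.comp (c ^ r • F m)) = c ^ r • eL.symm 1 (ξ.comp (F m))
        rw [LinearMap.comp_smul, map_smul])
      q' (fun g m m' h1 h2 => by
        show eL ((G m').dualMap.dualMap (eω.symm 1)) * eω ((F m).dualMap.dualMap (eL.symm 1)) = g ^ r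
        rw [mul_comm, ← smul_eq_mul, ← map_smul eL, ← map_smul, ← map_smul eω.symm, smul_eq_mul, mul_one,
          eω.symm_apply_apply]
        have h4 : (G m').dualMap.dualMap ((F m).dualMap.dualMap (eL.symm 1)) = g ^ r • eL.symm 1 :=
          LinearMap.ext fun ξ => by
            show eL.symm 1 ((ξ.comp (G m')).comp (F m)) = g ^ r • eL.symm 1 ξ
            rw [LinearMap.comp_assoc, hFG g m m' h1 h2, LinearMap.comp_smul, LinearMap.comp_id, map_smul]
        rw [h4, map_smul, eL.apply_symm_apply, smul_eq_mul, mul_one])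
      (fun p hpp hle => (hfib p hle).imp id fun ⟨v, hvW, hvw, hN, hC⟩ => ⟨hN, by
        rw [← hC]
        exact le_depth_self_of_skAt specializes_rfl (skAt_fibre hS t v)
          ((lt_dim_of_notMem_cmOpen hS hvW).le.trans_eq (AlgSpLib.stalkDim_fiber_congr f t v _ rfl).symm)⟩)
      fun p hpp => (hgen p).imp id fun ⟨h1, _, h3⟩ => ⟨h1, h3⟩
    refine ⟨(LinearEquiv.ofBijective h₀ (bijective_of_local h₀ fun p hpp => ?_)).symm⟩
    exact (hgen p).imp (fun ⟨g, hg, φ, φ', e1, e2⟩ => bijAt_of_cyclic p ⟨g, hg, φ', φ, e2, e1⟩ h₀ hh₀)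
      fun ⟨h1, h2, _⟩ => ⟨h2, h1⟩

end QGorLiftLib
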