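import Groth.Agent.QGorLiftLib.ArtinMain

/-!
# Invertibility of the reflexive powers on the infinitesimal neighbourhoods
-/

set_option autoImplicit false
set_option linter.style.haveILetI false
set_option linter.unusedSectionVars false
set_option backward.isDefEq.respectTransparency false
set_option backward.isDefEq.respectTransparency.types false
set_option maxHeartbeats 1000000
set_option synthInstance.maxHeartbeats 200000

noncomputable section

universe u

open CategoryTheory CategoryTheory.Limits AlgebraicGeometry IsLocalRing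
open Groth.Agent

attribute [local instance] HasDerivedCategory.standard

namespace QGorLiftLib

variable {A : Type u} [CommRing A] [IsNoetherianRing A] {Y : Scheme.{u}} [Y.Over (Spec (CommRingCat.of A))]
  [IsProper (Y ↘ Spec (CommRingCat.of A))] [Flat (Y ↘ Spec (CommRingCat.of A))] {d : ℕ}
  (hd : Cyc.HasRelDim (Y ↘ Spec (CommRingCat.of A)) d) {ω : Y.Modules}
  (hω : RelCanon.IsDualizingSheaf A Y d ω)
  (hS : RelCanon.IsSkMor (Y ↘ Spec (CommRingCat.of A)) 2)
  (hG : ∀ y : Y, y ∉ RelCanon.gorLocus (Y ↘ Spec (CommRingCat.of A)) → (2 : WithBot ℕ∞) ≤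
    ringKrullDim (((Y ↘ Spec (CommRingCat.of A)).fiber ((Y ↘ Spec (CommRingCat.of A)) y)).presheaf.stalk
      ((Y ↘ Spec (CommRingCat.of A)).asFiber y)))
  {B : Type u} [CommRing B] [IsNoetherianRing B] {Y' : Scheme.{u}} [Y'.Over (Spec (CommRingCat.of B))]
  {g : Spec (CommRingCat.of B) ⟶ Spec (CommRingCat.of A)} {p : Y' ⟶ Y}
  (sq : IsPullback p (Y' ↘ Spec (CommRingCat.of B)) (Y ↘ Spec (CommRingCat.of A)) g)

include hS hG sq in
/-- The fibres of a base change satisfy `S₂`. -/
theorem skAt_structure_baseChange (x : Y') :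
    RelCanon.SkAt 2 (Coh.structureModule ((Y' ↘ Spec (CommRingCat.of B)).fiber ((Y' ↘ Spec (CommRingCat.of B)) x)))
      ((Y' ↘ Spec (CommRingCat.of B)).asFiber x) := by
  let f := Y ↘ Spec (CommRingCat.of A)
  let f' := Y' ↘ Spec (CommRingCat.of B)
  haveI : IsNoetherianRing (CommRingCat.of A) := ‹IsNoetherianRing A›
  haveI : IsNoetherianRing (CommRingCat.of B) := ‹IsNoetherianRing B›
  haveI : IsProper f' := MorphismProperty.of_isPullback (P := @IsProper) sq inferInstance
  haveI : IsLocallyNoetherian Y := LocallyOfFiniteType.isLocallyNoetherian f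
  haveI : IsLocallyNoetherian Y' := LocallyOfFiniteType.isLocallyNoetherian f'
  have hO := DevissLib.isCoh_structureModule Y
  have hO' := DevissLib.isCoh_structureModule Y'
  haveI := hO'.1
  haveI : IsLocallyNoetherian (f'.fiber (f' x)) :=
    haveI := UOpenLib.lft_fiberToSpec f' (f' x)
    LocallyOfFiniteType.isLocallyNoetherian (f'.fiberToSpecResidueField (f' x))
  obtain ⟨e⟩ := DepthLib.nonempty_pullback_unit_stalk (f'.fiberι (f' x)) (f'.asFiber x)
  obtain ⟨e₀⟩ := RefHullLib.nonempty_stalk_unit (f'.fiber (f' x)) (f'.asFiber x)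
  refine DepthLib.hasSk_congr (e.trans e₀) 2 ?_
  refine (DepthLib.hasSk_pullback_stalk_iff (f'.fiberι (f' x)) _ hO'.2 (f'.asFiber x) 2).2 ?_
  refine (DepthLib.forall_specializes_fiber_iff f' (fun s w => min ((2 : ℕ) : WithBot ℕ∞)
    (Module.supportDim ((f'.fiber s).presheaf.stalk w)
      (((Scheme.Modules.pullback (f'.fiberι s)).obj (Coh.structureModule Y')).presheaf.stalk w)) ≤
    ((LocCoh.depth ((f'.fiber s).presheaf.stalk w)
      (((Scheme.Modules.pullback (f'.fiberι s)).obj (Coh.structureModule Y')).presheaf.stalk w) : ℕ∞) :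
        WithBot ℕ∞)) x).2 fun z _ _ => ?_
  obtain ⟨ez⟩ := DepthLib.nonempty_pullback_unit_stalk (f'.fiberι (f' z)) (f'.asFiber z)
  by_cases hz : p z ∈ QGorBCLib.gorOpen A Y
  · have hcm := ((CMFlatLib.isCMAt_baseChange f g f' p sq z (Or.inr inferInstance)).1
      ⟨hz.1, CMFlatLib.cm_of_gorenstein hz.2⟩).2
    rw [Module.supportDim_eq_of_equiv ez, CommAlgDim.depth_congr ez, hcm.supportDim_eq_depth]
    exact min_le_right _ _
  · refine (min_le_left _ _).trans (WithBot.coe_le_coe.2 ?_)
    have h : (2 : ℕ∞) ≤ CInt.fiberDepth f' ((Scheme.Modules.pullback p).obj (Coh.structureModule Y)) z :=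
      (QGorBCLib.two_le_fiberDepth f hO IntMultLib.support_structureModule' (p z) (by
        obtain ⟨a⟩ := DepthLib.nonempty_pullback_unit_stalk (f.fiberι (f (p z))) (f.asFiber (p z))
        obtain ⟨a₀⟩ := RefHullLib.nonempty_stalk_unit (f.fiber (f (p z))) (f.asFiber (p z))
        exact DepthLib.hasSk_congr (a.trans a₀).symm 2 (hS.2.2 (p z))) (hG _ hz)).trans
        (QGorBCLib.fiberDepth_le_baseChange sq hO z)
    exact h.trans (le_of_eq (QGorBCLib.depth_congr_iso
      ((Scheme.Modules.pullback (f'.fiberι (f' z))).mapIso (KFlatLib.pullUnitIso p)) _))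

variable {ω' : Y'.Modules}

include hd hS hG sq in
/-- An invertible module on a base change has relative `S₂`. -/
theorem relSkAt_of_invertibleAt_baseChange {M : Y'.Modules} {x : Y'} (h : RelCanon.InvertibleAt M x) :
    RelCanon.RelSkAt (Y' ↘ Spec (CommRingCat.of B)) 2 M x := by
  haveI : Flat (Y' ↘ Spec (CommRingCat.of B)) := MorphismProperty.of_isPullback (P := @Flat) sq ‹_›
  exact ⟨QGorBCLib.isFlatOverAt_of_invertibleAt _ h,
    QGorBCLib.skAt_pullback_fiber_of_invertibleAt _ h 2 (skAt_structure_baseChange hS hG sq x)⟩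

include hd hω hS hG sq in
/-- An invertible reflexive power restricts to an invertible one on a base change supported in the fibre. -/
theorem invertibleAt_refPowZ_baseChange (hω' : RelCanon.IsDualizingSheaf B Y' d ω') (m : ℤ) {x' : Y'}
    (hfib : ∀ v : Y', v ⤳ x' → (Y ↘ Spec (CommRingCat.of A)) (p v) = (Y ↘ Spec (CommRingCat.of A)) (p x'))
    (h : RelCanon.InvertibleAt (RelCanon.refPowZ ω m) (p x')) :
    RelCanon.InvertibleAt (RelCanon.refPowZ ω' m) x' := by
  haveI : IsNoetherianRing (CommRingCat.of A) := ‹IsNoetherianRing A›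
  haveI : IsNoetherianRing (CommRingCat.of B) := ‹IsNoetherianRing B›
  haveI : IsProper (Y' ↘ Spec (CommRingCat.of B)) := MorphismProperty.of_isPullback (P := @IsProper) sq inferInstance
  haveI : IsLocallyNoetherian Y' := LocallyOfFiniteType.isLocallyNoetherian (Y' ↘ Spec (CommRingCat.of B))
  have hy : RelCanon.RelSkAt (Y ↘ Spec (CommRingCat.of A)) 2 (RelCanon.refPowZ ω m) (p x') :=
    ⟨QGorBCLib.isFlatOverAt_of_invertibleAt _ h, QGorBCLib.skAt_pullback_fiber_of_invertibleAt _ h 2 (hS.2.2 _)⟩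
  obtain ⟨e⟩ := nonempty_stalk_equiv_of_fiberDepth hd hω hS hG sq hω' m (x' := x') fun v hv hvG =>
    flat_and_fiberDepth_of_relSkAt hd hω hG m hy (hv.map p.continuous) (hfib v hv) hvG
  obtain ⟨a⟩ := QGorBCLib.nonempty_stalk_equiv (QGorBCLib.invertibleAt_pullback p h)
  exact QGorDescLib.invertibleAt_of_stalk (QGorBCLib.isCoh_refPowZ
    (QGorSecLib.isCoh_dualizing (FibDimLib.hasRelDim_baseChange sq hd) hω') m) (e.symm.trans a)

end QGorLiftLib

namespace QGorLiftLib

variable {A : Type u} [CommRing A] [IsNoetherianRing A] {Y : Scheme.{u}} [Y.Over (Spec (CommRingCat.of A))]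
  [IsProper (Y ↘ Spec (CommRingCat.of A))] [Flat (Y ↘ Spec (CommRingCat.of A))] {d : ℕ}
  (hd : Cyc.HasRelDim (Y ↘ Spec (CommRingCat.of A)) d) {ω : Y.Modules}
  (hω : RelCanon.IsDualizingSheaf A Y d ω)
  (hS : RelCanon.IsSkMor (Y ↘ Spec (CommRingCat.of A)) 2)
  (hG : ∀ y : Y, y ∉ RelCanon.gorLocus (Y ↘ Spec (CommRingCat.of A)) → (2 : WithBot ℕ∞) ≤
    ringKrullDim (((Y ↘ Spec (CommRingCat.of A)).fiber ((Y ↘ Spec (CommRingCat.of A)) y)).presheaf.stalk
      ((Y ↘ Spec (CommRingCat.of A)).asFiber y)))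

include hd hω hS hG in
theorem invertibleAt_refPowZ_of_thickenings_aux (m : ℤ) (t : Spec (CommRingCat.of A))
    (w : (Y ↘ Spec (CommRingCat.of A)).fiber t)
    (H : OnThickenings A Y d (fun _ ω' y' => RelCanon.InvertibleAt (RelCanon.refPowZ ω' m) y')
      ((Y ↘ Spec (CommRingCat.of A)).fiberι t w))
    (hy : RelCanon.RelSkAt (Y ↘ Spec (CommRingCat.of A)) 2 (RelCanon.refPowZ ω m)
      ((Y ↘ Spec (CommRingCat.of A)).fiberι t w)) :
    RelCanon.InvertibleAt (RelCanon.refPowZ ω m) ((Y ↘ Spec (CommRingCat.of A)).fiberι t w) := by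
  let f := Y ↘ Spec (CommRingCat.of A)
  haveI : IsNoetherianRing (CommRingCat.of A) := ‹IsNoetherianRing A›
  haveI : IsLocallyNoetherian Y := LocallyOfFiniteType.isLocallyNoetherian f
  let ι := f.fiberι t
  let R := (Spec (CommRingCat.of A)).presheaf.stalk (f (ι w))
  let Rk := R ⧸ maximalIdeal R ^ (0 + 1)
  let g : Spec (CommRingCat.of Rk) ⟶ Spec (CommRingCat.of A) :=
    Spec.map (CommRingCat.ofHom (Ideal.Quotient.mk (maximalIdeal R ^ (0 + 1)))) ≫
      (Spec (CommRingCat.of A)).fromSpecStalk (f (ι w))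
  obtain ⟨gφ, hgφ⟩ := Spec.map_surjective g
  let Y' := Limits.pullback f g
  let p : Y' ⟶ Y := Limits.pullback.fst f g
  letI : Y'.Over (Spec (CommRingCat.of Rk)) := ⟨Limits.pullback.snd f g⟩
  let f' := Y' ↘ Spec (CommRingCat.of Rk)
  have sq : IsPullback p f' f g := IsPullback.of_hasPullback f g
  haveI : IsNoetherianRing (CommRingCat.of Rk) := inferInstanceAs (IsNoetherianRing Rk)
  haveI : IsProper f' := MorphismProperty.of_isPullback (P := @IsProper) sq inferInstance
  haveI : IsLocallyNoetherian Y' := LocallyOfFiniteType.isLocallyNoetherian f'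
  obtain ⟨ω', hω'⟩ := exists_dualizing (FibDimLib.hasRelDim_baseChange sq hd)
  have hcast : ∀ s' : Spec (CommRingCat.of A), s' = t →
      ∃ c : Spec ((Spec (CommRingCat.of A)).residueField t) ⟶ Spec (CommRingCat.of
          ((Spec (CommRingCat.of A)).presheaf.stalk s' ⧸
            maximalIdeal ((Spec (CommRingCat.of A)).presheaf.stalk s') ^ (0 + 1))),
        c ≫ Spec.map (CommRingCat.ofHom (Ideal.Quotient.mk
            (maximalIdeal ((Spec (CommRingCat.of A)).presheaf.stalk s') ^ (0 + 1)))) ≫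
          (Spec (CommRingCat.of A)).fromSpecStalk s' = (Spec (CommRingCat.of A)).fromSpecResidueField t := by
    rintro _ rfl
    refine ⟨Spec.map (CommRingCat.ofHom (Ideal.Quotient.factor (Ideal.pow_le_self (Nat.succ_ne_zero 0)))), ?_⟩
    rw [← Spec.map_comp_assoc, Scheme.fromSpecResidueField]
    rfl
  obtain ⟨c, hc⟩ := hcast (f (ι w)) ((f.range_fiberι t).le ⟨w, rfl⟩)
  have hc' : c ≫ g = (Spec (CommRingCat.of A)).fromSpecResidueField t := hc
  let q : f.fiber t ⟶ Y' := sq.lift ι (f.fiberToSpecResidueField t ≫ c) (by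
    rw [Category.assoc, hc']; exact Limits.pullback.condition)
  have hqp : q ≫ p = ι := sq.lift_fst _ _ _
  have hqw : p (q w) = ι w := by rw [← Scheme.Hom.comp_apply, hqp]
  haveI : Subsingleton (PrimeSpectrum Rk) :=
    ⟨fun a b => PrimeSpectrum.comap_injective_of_surjective _ Ideal.Quotient.mk_surjective
      (PrimeSpectrum.ext (((maximalIdeal.isMaximal R).eq_of_le (Ideal.IsPrime.ne_top inferInstance)
        ((Ideal.IsPrime.comap _).le_of_pow_le (fun x hx => by
          rw [Ideal.mem_comap, Ideal.Quotient.eq_zero_iff_mem.2 hx]; exact zero_mem _))).symm.trans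
        ((maximalIdeal.isMaximal R).eq_of_le (Ideal.IsPrime.ne_top inferInstance)
        ((Ideal.IsPrime.comap _).le_of_pow_le (fun x hx => by
          rw [Ideal.mem_comap, Ideal.Quotient.eq_zero_iff_mem.2 hx]; exact zero_mem _)))))⟩
  have hfib : ∀ v : Y', v ⤳ q w → f (p v) = f (p (q w)) := fun v _ =>
    ((congrArg (fun φ : Y' ⟶ Spec (CommRingCat.of A) => φ v) sq.w).trans
      (congrArg g (Subsingleton.elim (α := PrimeSpectrum Rk) (f' v) (f' (q w))))).trans
      (congrArg (fun φ : Y' ⟶ Spec (CommRingCat.of A) => φ (q w)) sq.w).symm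
  have hy' : RelCanon.RelSkAt f 2 (RelCanon.refPowZ ω m) (p (q w)) := by rw [hqw]; exact hy
  obtain ⟨e⟩ := nonempty_stalk_equiv_of_fiberDepth hd hω hS hG (g := g) sq hω' m (x' := q w) fun v hv hvG =>
    flat_and_fiberDepth_of_relSkAt hd hω hG m hy' (hv.map p.continuous) (hfib v hv) hvG
  obtain ⟨a⟩ := QGorBCLib.nonempty_stalk_equiv (H 0 Y' p sq ω' hω' (q w) hqw)
  have hc := QGorBCLib.isCoh_refPowZ (QGorSecLib.isCoh_dualizing hd hω) m
  have hinv : RelCanon.InvertibleAt ((Scheme.Modules.pullback p).obj (RelCanon.refPowZ ω m)) (q w) :=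
    QGorDescLib.invertibleAt_of_stalk (ConsLib.isCoh_pullback p hc) (e.trans a)
  exact QGorIdxLib.invertibleAt_of_fibre' f hc t w hy.1 (QGorBCLib.invertibleAt_of_iso
    ((Scheme.Modules.pullbackComp q p).app _ ≪≫ (Scheme.Modules.pullbackCongr hqp).app _)
    (QGorBCLib.invertibleAt_pullback q hinv))

include hd hω hS hG in
/-- Invertibility of a reflexive power at a point is seen on the infinitesimal neighbourhoods of the fibre. -/
theorem invertibleAt_refPowZ_of_thickenings (m : ℤ) (y : Y)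
    (H : OnThickenings A Y d (fun _ ω' y' => RelCanon.InvertibleAt (RelCanon.refPowZ ω' m) y') y) :
    RelCanon.InvertibleAt (RelCanon.refPowZ ω m) y := by
  let f := Y ↘ Spec (CommRingCat.of A)
  have h2 := relSkAt_refPowZ_of_thickenings hd hω hS hG m y fun k Y' _ p sq ω' hω' y' hy' =>
    haveI : IsNoetherianRing (CommRingCat.of A) := ‹IsNoetherianRing A›
    relSkAt_of_invertibleAt_baseChange hd hS hG sq (H k Y' p sq ω' hω' y' hy')
  have key : ∀ x, x = y → OnThickenings A Y d (fun _ ω' y' => RelCanon.InvertibleAt (RelCanon.refPowZ ω' m) y') x := by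
    rintro x rfl; exact H
  have h := invertibleAt_refPowZ_of_thickenings_aux hd hω hS hG m (f y) (f.asFiber y)
    (key _ (f.fiberι_asFiber y)) (by rw [f.fiberι_asFiber]; exact h2)
  rwa [f.fiberι_asFiber] at h

end QGorLiftLib
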