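import Groth.Agent.QGorLiftLib.CanAlg
import Groth.Agent.QGorLiftLib.InvThick
import Groth.Agent.QGorEndLib.Main
import Groth.Agent.QGorExtLib.Main

/-!
# The dualizing sheaf of a fibre
-/

set_option autoImplicit false
set_option linter.style.haveILetI false
set_option linter.unusedSectionVars false
set_option backward.isDefEq.respectTransparency false
set_option backward.isDefEq.respectTransparency.types false
set_option maxHeartbeats 1000000
set_option synthInstance.maxHeartbeats 200000

noncomputable section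

universe u

open CategoryTheory CategoryTheory.Limits AlgebraicGeometry IsLocalRing
open Groth.Agent
open scoped TensorProduct

attribute [local instance] HasDerivedCategory.standard

namespace QGorLiftLib

/-- Without non-trivial extensions the localised extensions are trivial too. -/
theorem split_localization {R : Type u} [CommRing R] [IsNoetherianRing R] (S : Submonoid R) {T : Type u} [CommRing T]
    [Algebra R T] [IsLocalization S T] {N N' : Type u} [AddCommGroup N] [Module R N] [Module.Finite R N]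
    [AddCommGroup N'] [Module R N'] [Module T N'] [IsScalarTower R T N'] (gN : N →ₗ[R] N') [IsLocalizedModule S gN]
    (hsplit : ∀ (X : Type u) [AddCommGroup X] [Module R X] (i : N →ₗ[R] X) (π : X →ₗ[R] N),
      Function.Injective i → Function.Exact i π → Function.Surjective π → ∃ h : N →ₗ[R] X, π.comp h = LinearMap.id)
    (E : Type u) [AddCommGroup E] [Module T E] (i : N' →ₗ[T] E) (π : E →ₗ[T] N') (hi : Function.Injective i)
    (hex : Function.Exact i π) (hπ : Function.Surjective π) : ∃ h : N' →ₗ[T] E, π.comp h = LinearMap.id := by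
  classical
  letI : Module R E := Module.compHom E (algebraMap R T)
  haveI : IsScalarTower R T E := IsScalarTower.of_algebraMap_smul fun _ _ => rfl
  obtain ⟨a, k, hk⟩ := Submodule.fg_iff_exists_fin_generating_family.1 (Module.Finite.fg_top (R := R) (M := N))
  let ρ : (Fin a → R) →ₗ[R] N := Fintype.linearCombination R k
  have hρ : Function.Surjective ρ := by
    rw [← LinearMap.range_eq_top, Fintype.range_linearCombination, hk]
  choose e he using fun j => hπ (gN (k j))
  let lift : (Fin a → R) →ₗ[R] E := Fintype.linearCombination R e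
  have hlift : ∀ x, π (lift x) = gN (ρ x) := fun x => by
    simp only [lift, ρ, Fintype.linearCombination_apply, map_sum, map_smul, LinearMap.map_smul_of_tower, he]
  let R₁ := LinearMap.ker ρ
  have hR₁ : ∀ x : R₁, lift x.1 ∈ LinearMap.range (i.restrictScalars R) := fun x => (hex _).1 (by
    rw [hlift, LinearMap.mem_ker.1 x.2, map_zero])
  let hmap : R₁ →ₗ[R] N' := (LinearEquiv.ofInjective (i.restrictScalars R) hi).symm.toLinearMap.comp
    ((lift.comp R₁.subtype).codRestrict _ hR₁)
  have hhmap : ∀ x, i (hmap x) = lift x.1 := fun x =>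
    congrArg Subtype.val ((LinearEquiv.ofInjective (i.restrictScalars R) hi).apply_symm_apply ⟨_, hR₁ x⟩)
  haveI : Module.FinitePresentation R R₁ := Module.finitePresentation_of_finite R R₁
  obtain ⟨h₀, s, hs⟩ := Module.FinitePresentation.exists_lift_of_isLocalizedModule S gN hmap
  -- the pushout
  let G : R₁ →ₗ[R] N × (Fin a → R) := LinearMap.prod h₀ (-R₁.subtype)
  let X := (N × (Fin a → R)) ⧸ LinearMap.range G
  let iX : N →ₗ[R] X := (LinearMap.range G).mkQ.comp (LinearMap.inl R _ _)
  let πX : X →ₗ[R] N := (LinearMap.range G).liftQ (ρ.comp (LinearMap.snd R _ _)) (by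
    rintro _ ⟨x, rfl⟩
    rw [LinearMap.mem_ker]
    show ρ (-x.1) = 0
    rw [map_neg, LinearMap.mem_ker.1 x.2, neg_zero])
  obtain ⟨h, hh⟩ := hsplit X iX πX ((injective_iff_map_eq_zero _).2 fun z hz => by
      obtain ⟨x, hx⟩ := (Submodule.Quotient.mk_eq_zero _).1 hz
      obtain ⟨h1, h2⟩ := Prod.ext_iff.1 hx
      obtain rfl : x = 0 := Subtype.ext (neg_eq_zero.1 h2)
      exact h1.symm.trans (map_zero h₀))
    (fun w => by
      obtain ⟨⟨z, x⟩, rfl⟩ := Submodule.Quotient.mk_surjective _ w
      constructor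
      · intro hw
        refine ⟨z + h₀ ⟨x, hw⟩, (Submodule.Quotient.eq _).2 ⟨⟨x, hw⟩, ?_⟩⟩
        exact Prod.ext (add_sub_cancel_left z _).symm (zero_sub x).symm
      · rintro ⟨z', hz'⟩
        rw [← hz']
        show ρ 0 = 0
        exact map_zero ρ)
    (fun z => by
      obtain ⟨x, rfl⟩ := hρ z
      exact ⟨Submodule.Quotient.mk (0, x), rfl⟩)
  let u := (Module.End.isUnit_iff _).1 (IsLocalizedModule.map_units gN s)
  let eu : N' ≃ₗ[R] N' := LinearEquiv.ofBijective ((s : R) • LinearMap.id : N' →ₗ[R] N') u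
  let si : N' →ₗ[R] N' := eu.symm.toLinearMap
  have hsi : ∀ z : N', (s : R) • si z = z := fun z => eu.apply_symm_apply z
  let j : N' →ₗ[R] E := i.restrictScalars R
  let Ψ₀ : X →ₗ[R] E := (LinearMap.range G).liftQ ((j.comp (si.comp gN)).coprod lift) (by
    rintro _ ⟨x, rfl⟩
    rw [LinearMap.mem_ker]
    show j (si (gN (h₀ x))) + lift (-x.1) = 0
    rw [map_neg, ← hhmap, add_neg_eq_zero, show gN (h₀ x) = (s : R) • hmap x from LinearMap.congr_fun hs x,
      map_smul si, hsi]
    rfl)
  have hΨ₀ : ∀ w : X, π (Ψ₀ w) = gN (πX w) := fun w => by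
    obtain ⟨⟨z, x⟩, rfl⟩ := Submodule.Quotient.mk_surjective _ w
    show π (i (si (gN z)) + lift x) = gN (ρ x)
    rw [map_add, (hex _).2 ⟨_, rfl⟩, zero_add, hlift]
  let s₀ : N →ₗ[R] E := Ψ₀.comp h
  have hs₀ : ∀ z, π (s₀ z) = gN z := fun z => (hΨ₀ _).trans (congrArg gN (LinearMap.congr_fun hh z))
  let L : N' →ₗ[R] E := IsLocalizedModule.lift S gN s₀ fun x => by
    rw [Module.End.isUnit_iff]
    have hu := IsLocalization.map_units T x
    exact ⟨fun p q hpq => hu.smul_left_cancel.1 hpq, fun p => ⟨(↑hu.unit⁻¹ : T) • p, by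
      show algebraMap R T x • (↑hu.unit⁻¹ : T) • p = p
      rw [smul_smul, IsUnit.mul_val_inv, one_smul]⟩⟩
  refine ⟨L.extendScalarsOfIsLocalization S T, LinearMap.ext fun z => ?_⟩
  have hL : (π.restrictScalars R).comp L = LinearMap.id := by
    refine IsLocalizedModule.ext S gN (IsLocalizedModule.map_units gN) (LinearMap.ext fun w => ?_)
    show π (L (gN w)) = gN w
    rw [IsLocalizedModule.lift_apply, hs₀]
  exact LinearMap.congr_fun hL z

/-- A split localised extension splits up to a scalar. -/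
theorem exists_split_of_localization {R : Type u} [CommRing R] [IsNoetherianRing R] (S : Submonoid R) (T : Type u)
    [CommRing T] [Algebra R T] [IsLocalization S T] {N N' E : Type u} [AddCommGroup N] [Module R N] [Module.Finite R N]
    [AddCommGroup N'] [Module R N'] [Module T N'] [IsScalarTower R T N'] (g : N →ₗ[R] N') [IsLocalizedModule S g]
    [AddCommGroup E] [Module R E] (i : N →ₗ[R] E) (π : E →ₗ[R] N)
    (hi : Function.Injective i) (hex : Function.Exact i π) (hπ : Function.Surjective π)
    (hsplit : ∀ (X : Type u) [AddCommGroup X] [Module T X] (i' : N' →ₗ[T] X) (π' : X →ₗ[T] N'),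
      Function.Injective i' → Function.Exact i' π' → Function.Surjective π' →
        ∃ h : N' →ₗ[T] X, π'.comp h = LinearMap.id) :
    ∃ f ∈ S, ∃ h : N →ₗ[R] E, π.comp h = f • LinearMap.id := by
  let gE : E →ₗ[R] TensorProduct R T E := TensorProduct.mk R T E 1
  haveI : IsLocalizedModule S gE := inferInstanceAs (IsLocalizedModule S (TensorProduct.mk R T E 1))
  let iT := (IsLocalizedModule.map S g gE i).extendScalarsOfIsLocalization S T
  let πT := (IsLocalizedModule.map S gE g π).extendScalarsOfIsLocalization S T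
  obtain ⟨h', hh'⟩ := hsplit _ iT πT (IsLocalizedModule.map_injective S g gE i hi)
    (IsLocalizedModule.map_exact S g gE g i π hex) (IsLocalizedModule.map_surjective S gE g π hπ)
  haveI : Module.FinitePresentation R N := Module.finitePresentation_of_finite R N
  obtain ⟨h0, s, hs⟩ := Module.FinitePresentation.exists_lift_of_isLocalizedModule S gE
    ((h'.restrictScalars R).comp g)
  have hcomp : g.comp (π.comp h0) = g.comp ((s : R) • LinearMap.id) := by
    refine LinearMap.ext fun m => ?_
    have h1 : IsLocalizedModule.map S gE g π (gE (h0 m)) = g (π (h0 m)) := IsLocalizedModule.map_apply _ _ _ _ _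
    have h2 : gE (h0 m) = (s : R) • h' (g m) := LinearMap.congr_fun hs m
    have h3 : πT (h' (g m)) = g m := LinearMap.congr_fun hh' (g m)
    show g (π (h0 m)) = g ((s : R) • m)
    rw [← h1, h2, map_smul, map_smul]
    exact congrArg ((s : R) • ·) h3
  obtain ⟨t, ht⟩ := Module.Finite.exists_smul_of_comp_eq_of_isLocalizedModule S g _ _ hcomp
  refine ⟨(t * s : S), (t * s).2, (t : R) • h0, ?_⟩
  rw [Submonoid.coe_mul, mul_smul, LinearMap.comp_smul]
  exact ht

variable {A : Type u} [CommRing A] [IsNoetherianRing A] {Y : Scheme.{u}} [Y.Over (Spec (CommRingCat.of A))]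
  [IsProper (Y ↘ Spec (CommRingCat.of A))] [Flat (Y ↘ Spec (CommRingCat.of A))] {d : ℕ}
  (hd : Cyc.HasRelDim (Y ↘ Spec (CommRingCat.of A)) d) {ω : Y.Modules}
  (hω : RelCanon.IsDualizingSheaf A Y d ω)

include hd hω in
/-- The endomorphisms of a stalk of the relative canonical sheaf are the scalars. -/
theorem bijective_smul_stalk (hS : RelCanon.IsSkMor (Y ↘ Spec (CommRingCat.of A)) 2) (x : Y) :
    Function.Bijective fun b : Y.presheaf.stalk x =>
      b • (LinearMap.id : ω.presheaf.stalk x →ₗ[Y.presheaf.stalk x] ω.presheaf.stalk x) := by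
  haveI : IsNoetherianRing (CommRingCat.of A) := ‹IsNoetherianRing A›
  haveI : IsLocallyNoetherian Y := LocallyOfFiniteType.isLocallyNoetherian (Y ↘ Spec (CommRingCat.of A))
  haveI := QGorEndLib.isIso_scalarMap hd hω hS
  have hcoh := QGorSecLib.isCoh_dualizing hd hω
  obtain ⟨u⟩ := RefHullLib.nonempty_stalk_unit Y x
  let j := stalkEquiv (asIso (QGorEndLib.scalarMap ω)) x
  have hev := RefHullLib.evalStalk_bijective (G := ω) (QCohLib.isFP_of_isCoh ω hcoh) x
  have hj : ∀ y, j y = RefHull.stalkMapₗ (QGorEndLib.scalarMap ω) x y := fun y => rfl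
  have key : ∀ y : (Coh.structureModule Y).presheaf.stalk x, ∃ b : Y.presheaf.stalk x,
      (RefHull.evalStalk ω ω x (j y) : ω.presheaf.stalk x →ₗ[Y.presheaf.stalk x] ω.presheaf.stalk x) =
        b • LinearMap.id := by
    intro y
    obtain ⟨V, hxV, r, rfl⟩ := TopCat.Presheaf.exists_germ_eq (Coh.structureModule Y).presheaf (x := x) y
    refine ⟨Y.presheaf.germ V x hxV r, LinearMap.ext fun v => ?_⟩
    rw [hj, RefHull.stalkMapₗ_germ, RefHull.evalStalk_germ]
    exact QGorEndLib.scalarMap_val ω V r ⟨x, hxV⟩ v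
  have hsurj : Function.Surjective fun b : Y.presheaf.stalk x =>
      b • (LinearMap.id : ω.presheaf.stalk x →ₗ[Y.presheaf.stalk x] ω.presheaf.stalk x) := fun φ => by
    obtain ⟨θ, hθ⟩ := hev.2 φ
    obtain ⟨b, hb⟩ := key (j.symm θ)
    refine ⟨b, hb.symm.trans ?_⟩
    rw [j.apply_symm_apply]; exact hθ
  let e : (ω.presheaf.stalk x →ₗ[Y.presheaf.stalk x] ω.presheaf.stalk x) ≃ₗ[Y.presheaf.stalk x] Y.presheaf.stalk x :=
    (LinearEquiv.ofBijective (RefHull.evalStalk ω ω x) hev).symm.trans (j.symm.trans u.symm)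
  obtain ⟨c, hc⟩ := hsurj (e.symm 1)
  refine ⟨fun b b' h => ?_, hsurj⟩
  have h1 : ∀ b : Y.presheaf.stalk x, e (b • LinearMap.id) * c = b := fun b => by
    have h2 : e (c • LinearMap.id) = 1 := (congrArg e hc).trans (e.apply_symm_apply 1)
    rw [map_smul, smul_eq_mul] at h2 ⊢
    linear_combination b * h2
  rw [← h1 b, ← h1 b', show b • LinearMap.id = b' • LinearMap.id from h]

include hd hω in
/-- At a relatively Cohen–Macaulay point the extensions of the stalk of the relative canonical sheaf by itself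
split. -/
theorem split_stalk_of_cm {v : Y} (hv : MoreMor.IsCMAt (Y ↘ Spec (CommRingCat.of A)) v)
    (E : Type u) [AddCommGroup E] [Module (Y.presheaf.stalk v) E]
    (i : ω.presheaf.stalk v →ₗ[Y.presheaf.stalk v] E) (π : E →ₗ[Y.presheaf.stalk v] ω.presheaf.stalk v)
    (hi : Function.Injective i) (hex : Function.Exact i π) (hπ : Function.Surjective π) :
    ∃ h : ω.presheaf.stalk v →ₗ[Y.presheaf.stalk v] E, π.comp h = LinearMap.id := by
  let f := Y ↘ Spec (CommRingCat.of A)
  haveI : IsNoetherianRing (CommRingCat.of A) := ‹IsNoetherianRing A›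
  haveI : IsLocallyNoetherian Y := LocallyOfFiniteType.isLocallyNoetherian f
  haveI : LocallyOfFinitePresentation f := UOpenLib.locallyOfFinitePresentation_of_isLocallyNoetherian f
  let W : Y.Opens := ⟨{y | MoreMor.IsCMAt f y}, CMFlatLib.isOpen_isCMAt f⟩
  obtain ⟨V, hV, hvV, hVW⟩ := exists_isAffineOpen_mem_and_subset (X := Y) (x := v) (U := W) hv
  have hcoh := QGorSecLib.isCoh_dualizing hd hω
  haveI := hcoh.1
  haveI : IsNoetherianRing Γ(Y, V) := IsLocallyNoetherian.component_noetherian ⟨V, hV⟩
  haveI : Module.Finite Γ(Y, V) Γ(ω, V) := QCohLib.finite_of_isFT hcoh.2 hV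
  obtain ⟨-, M, hM, ⟨e⟩⟩ := QGorEndLib.exists_cm_chart hd hω hV fun y hy => hVW hy
  letI : Algebra Γ(Y, V) (Y.presheaf.stalk v) := (Y.presheaf.germ V v hvV).hom.toAlgebra
  letI := Module.compHom (ω.presheaf.stalk v) (Y.presheaf.germ V v hvV).hom
  haveI : IsScalarTower Γ(Y, V) (Y.presheaf.stalk v) (ω.presheaf.stalk v) :=
    IsScalarTower.of_algebraMap_smul fun _ _ => rfl
  haveI : IsLocalization.AtPrime (Y.presheaf.stalk v) (hV.primeIdealOf ⟨v, hvV⟩).asIdeal := hV.isLocalization_stalk ⟨v, hvV⟩
  haveI := FlatLib.isLocalizedModule_germLin ω hV hvV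
  refine split_localization (hV.primeIdealOf ⟨v, hvV⟩).asIdeal.primeCompl (FlatLib.germLin ω hvV)
    (fun X _ _ i' π' hi' hex' hπ' => ?_) E i π hi hex hπ
  let S : ShortComplex (ModuleCat.{u} Γ(Y, V)) :=
    ShortComplex.mk (ModuleCat.ofHom i') (ModuleCat.ofHom π')
      (ModuleCat.hom_ext (LinearMap.ext fun m => (hex' _).2 ⟨m, rfl⟩))
  have hSe : S.ShortExact :=
    { exact := (ShortComplex.ShortExact.moduleCat_exact_iff_function_exact S).2 hex'
      mono_f := (ModuleCat.mono_iff_injective _).2 hi'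
      epi_g := (ModuleCat.epi_iff_surjective _).2 hπ' }
  obtain ⟨σ, hσ⟩ := QGorExtLib.exists_section_of_subsingleton_ext (-(d : ℤ)) e (hM 1 one_ne_zero) hSe
    (Iso.refl _) (Iso.refl _)
  exact ⟨σ.hom, ModuleCat.hom_ext_iff.1 hσ⟩

end QGorLiftLib
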