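import Mathlib
import Groth.Agent.DepthTwoLib.FourTerm

/-!
# Kernels of maps of flat modules which lift along thickenings
-/

set_option autoImplicit false

universe u

open IsLocalRing
open scoped TensorProduct Pointwise

namespace QGorLiftLib

variable {A : Type u} [CommRing A] [IsLocalRing A] [IsNoetherianRing A]

/-- Minimal generators of an ideal. -/
theorem exists_min_gens (a : Ideal A) : ∃ (r : ℕ) (g : Fin r → A), Ideal.span (Set.range g) = a ∧
    ∀ c : Fin r → A, ∑ j, c j * g j ∈ maximalIdeal A * a → ∀ j, c j ∈ maximalIdeal A := by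
  classical
  obtain ⟨n, g, hg⟩ := Submodule.fg_iff_exists_fin_generating_family.1 (IsNoetherian.noetherian a)
  -- induction on the number of generators
  induction n with
  | zero => exact ⟨0, g, hg, fun _ _ j => j.elim0⟩
  | succ n ih =>
    by_cases h : ∀ c : Fin (n + 1) → A, ∑ j, c j * g j ∈ maximalIdeal A * a → ∀ j, c j ∈ maximalIdeal A
    · exact ⟨n + 1, g, hg, h⟩
    push Not at h
    obtain ⟨c, hc, j, hj⟩ := h
    refine ih (g ∘ j.succAbove) (le_antisymm ?_ ?_)
    · exact (Submodule.span_mono (Set.range_comp_subset_range _ _)).trans hg.le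
    set a' : Ideal A := Submodule.span A (Set.range (g ∘ j.succAbove))
    have hsum : ∑ i, c i * g i - c j * g j ∈ a' := by
      rw [Fin.sum_univ_succAbove _ j, add_sub_cancel_left]
      exact Submodule.sum_mem _ fun i _ => Submodule.smul_mem _ _ (Submodule.subset_span ⟨i, rfl⟩)
    have hgj : g j ∈ a' ⊔ maximalIdeal A • a := by
      obtain ⟨v, hv⟩ := notMem_maximalIdeal.1 hj
      have h2 : c j * g j ∈ a' ⊔ maximalIdeal A • a := by
        rw [show c j * g j = ∑ i, c i * g i - (∑ i, c i * g i - c j * g j) by ring]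
        exact Submodule.sub_mem _ (Submodule.mem_sup_right hc) (Submodule.mem_sup_left hsum)
      have h3 := (a' ⊔ maximalIdeal A • a).mul_mem_left (↑v⁻¹ : A) h2
      rwa [← mul_assoc, ← hv, Units.inv_mul, one_mul] at h3
    have hle : a ≤ a' ⊔ maximalIdeal A • a := hg.symm.le.trans (Submodule.span_le.2 (by
      rintro _ ⟨i, rfl⟩
      rcases Fin.eq_self_or_eq_succAbove j i with rfl | ⟨i', rfl⟩
      · exact hgj
      · exact Submodule.mem_sup_left (Submodule.subset_span ⟨i', rfl⟩)))
    exact Submodule.le_of_le_smul_of_le_jacobson_bot (IsNoetherian.noetherian a)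
      (maximalIdeal_le_jacobson _) hle

variable {B : Type u} [CommRing B] [IsNoetherianRing B] [Algebra A B]

/-- `a • M`, for an ideal of the base. -/
abbrev sub (a : Ideal A) (M : Type u) [AddCommGroup M] [Module B M] : Submodule B M :=
  a.map (algebraMap A B) • (⊤ : Submodule B M)

variable {F : Type u} [AddCommGroup F] [Module B F] [Module A F] [IsScalarTower A B F]

omit [IsLocalRing A] [IsNoetherianRing A] [IsNoetherianRing B] in
theorem mem_sub_iff {r : ℕ} {g : Fin r → A} {a : Ideal A} (hg : Ideal.span (Set.range g) = a) (x : F) :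
    x ∈ sub (B := B) a F ↔ ∃ y : Fin r → F, x = ∑ j, g j • y j := by
  constructor
  · intro hx
    have : sub (B := B) a F ≤ LinearMap.range (Fintype.linearCombination B (fun j => algebraMap A B (g j))
        |>.comp (LinearMap.id : (Fin r → B) →ₗ[B] _)) • (⊤ : Submodule B F) := by
      refine Submodule.smul_mono_left ?_
      rw [LinearMap.comp_id, Fintype.range_linearCombination, ← hg, Ideal.map_span, ← Set.range_comp]
      rfl
    refine Submodule.smul_induction_on (this hx) (fun b hb z _ => ?_) fun z z' ⟨y, hy⟩ ⟨y', hy'⟩ => ?_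
    · obtain ⟨c, rfl⟩ := hb
      refine ⟨fun j => c j • z, ?_⟩
      simp only [LinearMap.comp_id, Fintype.linearCombination_apply, Finset.sum_smul, smul_assoc]
      exact Finset.sum_congr rfl fun j _ => by rw [algebraMap_smul, smul_comm]
    · exact ⟨y + y', by simp [hy, hy', Finset.sum_add_distrib]⟩
  · rintro ⟨y, rfl⟩
    refine Submodule.sum_mem _ fun j _ => ?_
    rw [← algebraMap_smul B (g j)]
    exact Submodule.smul_mem_smul (Ideal.mem_map_of_mem _ (hg ▸ Ideal.subset_span ⟨j, rfl⟩)) trivial

omit [IsNoetherianRing B] in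
/-- In a flat module a relation between minimal generators has coefficients in the maximal ideal. -/
theorem mem_sub_max_of_relation [Module.Flat A F] {r : ℕ} {g : Fin r → A} {a : Ideal A}
    (hmin : ∀ c : Fin r → A, ∑ j, c j * g j ∈ maximalIdeal A * a → ∀ j, c j ∈ maximalIdeal A)
    {y : Fin r → F} (h : ∑ j, g j • y j = 0) (j : Fin r) : y j ∈ sub (B := B) (maximalIdeal A) F := by
  obtain ⟨k, c, z, hy, hc⟩ := Module.Flat.isTrivialRelation_of_sum_smul_eq_zero h
  rw [hy j]
  refine Submodule.sum_mem _ fun i _ => ?_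
  rw [← algebraMap_smul B (c j i)]
  refine Submodule.smul_mem_smul (Ideal.mem_map_of_mem _ (hmin (fun j => c j i) ?_ j)) trivial
  rw [show ∑ j, c j i * g j = ∑ j, g j * c j i from Finset.sum_congr rfl fun _ _ => mul_comm _ _, hc i]
  exact zero_mem _

variable {G : Type u} [AddCommGroup G] [Module B G] [Module A G] [IsScalarTower A B G]
  [Module.Flat A F] [Module.Flat A G] [Module.Finite B F] [Module.Finite B G]
  (T : F →ₗ[B] G)

omit [IsLocalRing A] [IsNoetherianRing A] [Module A F] [Module A G] [IsScalarTower A B F] [IsScalarTower A B G]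
  [Module.Flat A F] [Module.Flat A G] in
/-- Elements whose image is divisible by high powers are close to the kernel. -/
theorem exists_mem_ker_of_approx (J : Ideal B) (x : F)
    (h : ∀ n : ℕ, ∃ z, x - z ∈ J • (⊤ : Submodule B F) ∧ T z ∈ J ^ (n + 1) • (⊤ : Submodule B G)) :
    ∃ z ∈ LinearMap.ker T, x - z ∈ J • (⊤ : Submodule B F) := by
  obtain ⟨k, hk⟩ := J.exists_pow_inf_eq_pow_smul (LinearMap.range T)
  obtain ⟨z, hz, hTz⟩ := h k
  have h1 : T z ∈ J ^ 1 • (LinearMap.range T) := by
    have : T z ∈ J ^ (k + 1) • ⊤ ⊓ LinearMap.range T := ⟨hTz, ⟨z, rfl⟩⟩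
    rw [hk (k + 1) (Nat.le_succ k), Nat.add_sub_cancel_left] at this
    exact Submodule.smul_mono le_rfl inf_le_right this
  rw [pow_one, LinearMap.range_eq_map, ← Submodule.map_smul''] at h1
  obtain ⟨δ, hδ, hTδ⟩ := h1
  refine ⟨z - δ, by rw [LinearMap.mem_ker, map_sub, hTδ, sub_self], ?_⟩
  rw [sub_sub_eq_add_sub, add_sub_right_comm]
  exact Submodule.add_mem _ hz hδ

variable [IsLocalRing B] [IsLocalHom (algebraMap A B)]
  (hsurj : ∀ x : F, T x ∈ sub (B := B) (maximalIdeal A) G →
    ∃ z ∈ LinearMap.ker T, x - z ∈ sub (B := B) (maximalIdeal A) F)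

include hsurj in
/-- The kernel meets `aF` in `a·ker`. -/
theorem ker_inf_sub_eq (a : Ideal A) :
    LinearMap.ker T ⊓ sub (B := B) a F = a.map (algebraMap A B) • LinearMap.ker T := by
  refine le_antisymm ?_ (le_inf Submodule.smul_le_right (Submodule.smul_mono le_rfl le_top))
  set M := LinearMap.ker T
  let J := (maximalIdeal A).map (algebraMap A B)
  have hJ : J ≤ maximalIdeal B := ((local_hom_TFAE _).out 0 2).1 ‹IsLocalHom (algebraMap A B)›
  have step : ∀ b : Ideal A, M ⊓ sub (B := B) b F ≤
      b.map (algebraMap A B) • M ⊔ (M ⊓ sub (B := B) (maximalIdeal A * b) F) := by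
    rintro b x ⟨hxM, hx⟩
    obtain ⟨r, g, hg, hmin⟩ := exists_min_gens b
    obtain ⟨y, rfl⟩ := (mem_sub_iff hg x).1 hx
    have hT : ∑ j, g j • T (y j) = 0 := by
      have : T (∑ j, g j • y j) = 0 := hxM
      simpa [map_sum, LinearMap.map_smul_of_tower] using this
    choose z hzM hz using fun j => hsurj (y j) (mem_sub_max_of_relation hmin hT j)
    have h1 : ∑ j, g j • z j ∈ b.map (algebraMap A B) • M := Submodule.sum_mem _ fun j _ => by
      rw [← algebraMap_smul B (g j)]
      exact Submodule.smul_mem_smul (Ideal.mem_map_of_mem _ (hg ▸ Ideal.subset_span ⟨j, rfl⟩)) (hzM j)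
    refine Submodule.mem_sup.2 ⟨_, h1, _, ⟨Submodule.sub_mem _ hxM (Submodule.smul_le_right h1), ?_⟩,
      add_sub_cancel _ _⟩
    rw [← Finset.sum_sub_distrib]
    refine Submodule.sum_mem _ fun j _ => ?_
    rw [← smul_sub, ← algebraMap_smul B (g j)]
    refine (show b.map (algebraMap A B) • sub (B := B) (maximalIdeal A) F ≤ sub (B := B) (maximalIdeal A * b) F from ?_)
      (Submodule.smul_mem_smul (Ideal.mem_map_of_mem _ (hg ▸ Ideal.subset_span ⟨j, rfl⟩)) (hz j))
    rw [sub, sub, ← Submodule.smul_assoc, smul_eq_mul, Ideal.map_mul, mul_comm]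
  have iter : ∀ n : ℕ, M ⊓ sub (B := B) a F ≤
      a.map (algebraMap A B) • M ⊔ (M ⊓ sub (B := B) (maximalIdeal A ^ n * a) F) := by
    intro n
    induction n with
    | zero => rw [pow_zero, one_mul]; exact le_sup_right
    | succ n ih =>
      refine ih.trans (sup_le le_sup_left ((step _).trans (sup_le ?_ ?_)))
      · exact le_sup_of_le_left (Submodule.smul_mono_left (Ideal.map_mono Ideal.mul_le_right))
      · rw [pow_succ', mul_assoc]; exact le_sup_right
  obtain ⟨k, hk⟩ := J.exists_pow_inf_eq_pow_smul M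
  intro x hx
  let Q := M ⧸ Submodule.comap M.subtype (a.map (algebraMap A B) • M)
  have hzero : Submodule.Quotient.mk (p := Submodule.comap M.subtype (a.map (algebraMap A B) • M))
      (⟨x, hx.1⟩ : M) ∈ (⨅ i : ℕ, maximalIdeal B ^ i • (⊤ : Submodule B Q)) := by
    refine Submodule.mem_iInf _ |>.2 fun i => ?_
    obtain ⟨u, hu, v, hv, huv⟩ := Submodule.mem_sup.1 (iter (i + k) hx)
    have hv' : v ∈ J ^ i • M := by
      have : v ∈ J ^ (i + k) • ⊤ ⊓ M := by
        refine ⟨(show sub (B := B) (maximalIdeal A ^ (i + k) * a) F ≤ J ^ (i + k) • ⊤ from ?_) hv.2, hv.1⟩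
        refine Submodule.smul_mono_left ?_
        rw [Ideal.map_mul, Ideal.map_pow]
        exact Ideal.mul_le_left
      rw [hk (i + k) (Nat.le_add_left k i), Nat.add_sub_cancel] at this
      exact Submodule.smul_mono le_rfl inf_le_right this
    have hmk : Submodule.Quotient.mk (p := Submodule.comap M.subtype (a.map (algebraMap A B) • M)) (⟨x, hx.1⟩ : M) =
        Submodule.Quotient.mk (⟨v, hv.1⟩ : M) := by
      refine (Submodule.Quotient.eq _).2 ?_
      show x - v ∈ a.map (algebraMap A B) • M
      rwa [← huv, add_sub_cancel_right]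
    rw [hmk]
    have hv'' : (⟨v, hv.1⟩ : M) ∈ (maximalIdeal B ^ i) • (⊤ : Submodule B M) :=
      Submodule.smul_mono_left (Ideal.pow_right_mono hJ i) ((Submodule.mem_smul_top_iff _ _ _).2 hv')
    have := Submodule.mem_map_of_mem (f := Submodule.mkQ (Submodule.comap M.subtype (a.map (algebraMap A B) • M))) hv''
    rwa [Submodule.map_smul'', Submodule.map_top, Submodule.range_mkQ] at this
  rw [(maximalIdeal B).iInf_pow_smul_eq_bot_of_isLocalRing (maximalIdeal.isMaximal B).ne_top] at hzero
  exact (Submodule.Quotient.mk_eq_zero (Submodule.comap M.subtype (a.map (algebraMap A B) • M))).1 ((Submodule.mem_bot B).1 hzero)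

include hsurj in
/-- The kernel is flat. -/
theorem flat_ker : Module.Flat A (LinearMap.ker T) := by
  let M := LinearMap.ker T
  let q : F →ₗ[A] F ⧸ M := (Submodule.mkQ M).restrictScalars A
  haveI : Module.Flat A (F ⧸ M) := Module.Flat.iff_lTensor_injective.2 fun a _ => by
    refine (injective_iff_map_eq_zero _).2 fun z hz => ?_
    obtain ⟨z', rfl⟩ := LinearMap.rTensor_surjective a (g := q) (Submodule.mkQ_surjective M) z
    have hmem : ∀ w : F ⊗[A] a, TensorProduct.rid A F (a.subtype.lTensor F w) ∈ sub (B := B) a F := by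
      intro w
      induction w with
      | zero => simp
      | add w w' h h' => rw [map_add, map_add]; exact Submodule.add_mem _ h h'
      | tmul x c =>
        rw [LinearMap.lTensor_tmul, TensorProduct.rid_tmul, ← algebraMap_smul B (a.subtype c)]
        exact Submodule.smul_mem_smul (Ideal.mem_map_of_mem _ c.2) trivial
    have hxM : TensorProduct.rid A F (a.subtype.lTensor F z') ∈ M := by
      have hc : ∀ w : F ⊗[A] a, TensorProduct.rid A (F ⧸ M) (a.subtype.lTensor (F ⧸ M) (q.rTensor a w)) =
          q (TensorProduct.rid A F (a.subtype.lTensor F w)) := by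
        intro w
        induction w with
        | zero => simp
        | add w w' h h' => simp only [map_add, h, h']
        | tmul x c => simp [q]
      have := hc z'
      rw [hz, map_zero] at this
      exact (Submodule.Quotient.mk_eq_zero _).1 this.symm
    have hx := (ker_inf_sub_eq T hsurj a).le ⟨hxM, hmem z'⟩
    have hw : ∀ x ∈ a.map (algebraMap A B) • M, ∃ w : (M : Type u) ⊗[A] a,
        TensorProduct.rid A F (a.subtype.lTensor F ((M.subtype.restrictScalars A).rTensor a w)) = x := by
      intro x hx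
      obtain ⟨r, g, hg⟩ := Submodule.fg_iff_exists_fin_generating_family.1 (IsNoetherian.noetherian a)
      have hx' : ∃ y : Fin r → M, x = ∑ j, g j • (y j : F) := by
        have hxs : (⟨x, Submodule.smul_le_right hx⟩ : M) ∈ sub (B := B) a M :=
          (Submodule.mem_smul_top_iff _ _ _).2 hx
        obtain ⟨y, hy⟩ := (mem_sub_iff (F := M) hg _).1 hxs
        exact ⟨y, by simpa using congrArg Subtype.val hy⟩
      obtain ⟨y, rfl⟩ := hx'
      exact ⟨∑ j, y j ⊗ₜ[A] (⟨g j, hg.le (Submodule.subset_span ⟨j, rfl⟩)⟩ : a), by simp⟩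
    obtain ⟨w, hw⟩ := hw _ hx
    rw [← Module.Flat.lTensor_preserves_injective_linearMap (M := F) a.subtype a.injective_subtype
      ((TensorProduct.rid A F).injective hw)]
    rw [← LinearMap.rTensor_comp_apply,
      show q ∘ₗ M.subtype.restrictScalars A = 0 from LinearMap.ext fun m => (Submodule.Quotient.mk_eq_zero _).2 m.2,
      LinearMap.rTensor_zero, LinearMap.zero_apply]
  exact DepthTwoLib.flat_kernel (M.subtype.restrictScalars A) q Subtype.val_injective
    (LinearMap.exact_subtype_mkQ M) (Submodule.mkQ_surjective M)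

end QGorLiftLib
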