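import Groth.Agent.QGorLiftLib.Surj
import Groth.Agent.RestrictFinLib.Main
import Groth.Agent.DepthLib.ModStalk
import Groth.Agent.RefHullLib.NormalHull
import Groth.Agent.FlatLib.QStalk
import Groth.Agent.QGorBCLib.InvStalk
import Groth.Agent.S9501

/-!
# Flatness of a dual sheaf from the depth of the duals on the fibre
-/

set_option autoImplicit false
set_option linter.style.haveILetI false
set_option linter.unusedSectionVars false
set_option backward.isDefEq.respectTransparency false
set_option backward.isDefEq.respectTransparency.types false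
set_option maxHeartbeats 1000000
set_option synthInstance.maxHeartbeats 200000

noncomputable section

universe u

open CategoryTheory CategoryTheory.Limits AlgebraicGeometry IsLocalRing
open Groth.Agent
open scoped TensorProduct Pointwise

namespace QGorLiftLib

/-- Localised depth is invariant under linear equivalences. -/
theorem depth_localized_congr {R : Type u} [CommRing R] (p : Ideal R) [p.IsPrime] {M N : Type u} [AddCommGroup M]
    [Module R M] [AddCommGroup N] [Module R N] (e : M ≃ₗ[R] N) :
    LocCoh.depth (Localization.AtPrime p) (LocalizedModule p.primeCompl M) =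
      LocCoh.depth (Localization.AtPrime p) (LocalizedModule p.primeCompl N) :=
  CommAlgDim.depth_congr (IsLocalizedModule.mapEquiv p.primeCompl (LocalizedModule.mkLinearMap p.primeCompl M)
    (LocalizedModule.mkLinearMap p.primeCompl N) (Localization.AtPrime p) e)

/-- A module killed by an element outside a prime has every depth there. -/
theorem le_depth_localized_of_annihilated {R : Type u} [CommRing R] [IsNoetherianRing R] (p : Ideal R) [p.IsPrime]
    {M : Type u} [AddCommGroup M] [Module R M] [Module.Finite R M] {c : R} (hc : c ∉ p) (h : ∀ x : M, c • x = 0) (n : ℕ) :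
    (n : ℕ∞) ≤ LocCoh.depth (Localization.AtPrime p) (LocalizedModule p.primeCompl M) := by
  haveI : IsNoetherianRing (Localization.AtPrime p) := IsLocalization.isNoetherianRing p.primeCompl _ inferInstance
  haveI : Subsingleton (LocalizedModule p.primeCompl M) :=
    LocalizedModule.subsingleton_iff.2 fun x => ⟨c, hc, h x⟩
  exact (CommAlgDim.le_depth_iff n).2 (CommAlgDim.hasSeqIn_of_subsingleton _ n)

/-- Near a point of invertibility a stalk is cyclic and projective. -/
theorem exists_factor_of_invertibleAt {X : Scheme.{u}} [IsLocallyNoetherian X] {T : X.Modules} (hT : Coh.IsCoh T)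
    (z : X) (p : PrimeSpectrum (X.presheaf.stalk z))
    (h : RelCanon.InvertibleAt T (EquidimLib.stalkPt z p)) :
    ∃ f ∉ p.asIdeal, ∃ (t : T.presheaf.stalk z) (l : T.presheaf.stalk z →ₗ[X.presheaf.stalk z] X.presheaf.stalk z),
      (∀ k, f • k = l k • t) ∧ l t ∉ p.asIdeal := by
  haveI := hT.1
  obtain ⟨_, ⟨V, hV, rfl⟩, hzV, -⟩ :=
    X.isBasis_affineOpens.exists_subset_of_mem_open (Set.mem_univ z) isOpen_univ
  haveI : IsNoetherianRing Γ(X, V) := IsLocallyNoetherian.component_noetherian ⟨V, hV⟩
  haveI := QCohLib.finite_of_isFT hT.2 hV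
  haveI : Module.FinitePresentation Γ(X, V) Γ(T, V) := Module.finitePresentation_of_finite _ _
  let x := EquidimLib.stalkPt z p
  have hxV : x ∈ V := (EquidimLib.stalkPt_specializes z p).mem_open V.isOpen hzV
  letI : Algebra Γ(X, V) (X.presheaf.stalk z) := (X.presheaf.germ V z hzV).hom.toAlgebra
  letI : Algebra Γ(X, V) (X.presheaf.stalk x) := (X.presheaf.germ V x hxV).hom.toAlgebra
  letI := Module.compHom (T.presheaf.stalk z) (X.presheaf.germ V z hzV).hom
  letI := Module.compHom (T.presheaf.stalk x) (X.presheaf.germ V x hxV).hom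
  haveI : IsScalarTower Γ(X, V) (X.presheaf.stalk z) (T.presheaf.stalk z) :=
    IsScalarTower.of_algebraMap_smul fun _ _ => rfl
  haveI : IsScalarTower Γ(X, V) (X.presheaf.stalk x) (T.presheaf.stalk x) :=
    IsScalarTower.of_algebraMap_smul fun _ _ => rfl
  let qz := (hV.primeIdealOf ⟨z, hzV⟩).asIdeal
  let qx := (hV.primeIdealOf ⟨x, hxV⟩).asIdeal
  haveI : IsLocalization.AtPrime (X.presheaf.stalk z) qz := hV.isLocalization_stalk ⟨z, hzV⟩
  haveI : IsLocalization.AtPrime (X.presheaf.stalk x) qx := hV.isLocalization_stalk ⟨x, hxV⟩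
  haveI := FlatLib.isLocalizedModule_germLin T hV hzV
  haveI := FlatLib.isLocalizedModule_germLin T hV hxV
  have hqx : qx = p.asIdeal.comap (algebraMap Γ(X, V) (X.presheaf.stalk z)) :=
    congrArg PrimeSpectrum.asIdeal (hV.fromSpec.isOpenEmbedding.injective
      ((hV.fromSpec_primeIdealOf ⟨x, hxV⟩).trans
        (congrArg (fun φ => φ.base p) (hV.fromSpecStalk_eq_fromSpecStalk hzV)).symm))
  obtain ⟨e⟩ := QGorBCLib.nonempty_stalk_equiv h
  let gx := FlatLib.germLin T hxV
  haveI : IsLocalizedModule qx.primeCompl gx := ‹_›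
  obtain ⟨l₀, s, hl₀⟩ := Module.FinitePresentation.exists_lift_of_isLocalizedModule qx.primeCompl
    (Algebra.linearMap Γ(X, V) (X.presheaf.stalk x)) ((e.toLinearMap.restrictScalars Γ(X, V)).comp gx)
  obtain ⟨⟨m₀, v⟩, hm₀⟩ := IsLocalizedModule.surj qx.primeCompl gx (e.symm 1)
  have hkey : gx.comp ((LinearMap.toSpanSingleton Γ(X, V) Γ(T, V) m₀).comp l₀) =
      gx.comp (((s : Γ(X, V)) * v) • LinearMap.id) := by
    refine LinearMap.ext fun m => ?_
    show gx (l₀ m • m₀) = gx (((s : Γ(X, V)) * v) • m)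
    have h1 : algebraMap Γ(X, V) (X.presheaf.stalk x) (l₀ m) = (s : Γ(X, V)) • e (gx m) := LinearMap.congr_fun hl₀ m
    have h2 : gx m₀ = (v : Γ(X, V)) • e.symm 1 := hm₀.symm
    rw [map_smul, map_smul, h2, ← algebraMap_smul (X.presheaf.stalk x) (l₀ m), h1, smul_comm, smul_assoc,
      ← map_smul, smul_eq_mul, mul_one, e.symm_apply_apply, smul_smul, mul_comm]
  obtain ⟨c, hc⟩ := Module.Finite.exists_smul_of_comp_eq_of_isLocalizedModule qx.primeCompl gx _ _ hkey
  have hmem : (c : Γ(X, V)) * ((s : Γ(X, V)) * v) ∉ qx := (c * (s * v)).2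
  replace hmem : algebraMap Γ(X, V) (X.presheaf.stalk z) ((c : Γ(X, V)) * ((s : Γ(X, V)) * v)) ∉ p.asIdeal :=
    fun h => hmem (hqx.ge h)
  let gz := FlatLib.germLin T hzV
  let l := (IsLocalizedModule.map qz.primeCompl gz (Algebra.linearMap Γ(X, V) (X.presheaf.stalk z))
    ((c : Γ(X, V)) • l₀)).extendScalarsOfIsLocalization qz.primeCompl (X.presheaf.stalk z)
  refine ⟨algebraMap Γ(X, V) (X.presheaf.stalk z) ((c : Γ(X, V)) * ((s : Γ(X, V)) * v)), hmem, gz m₀, l, fun k => ?_, ?_⟩
  rotate_left
  · have hlm : l (gz m₀) = algebraMap Γ(X, V) (X.presheaf.stalk z) ((c : Γ(X, V)) * l₀ m₀) :=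
      (IsLocalizedModule.map_apply qz.primeCompl gz _ _ m₀).trans rfl
    intro hmem'
    rw [hlm] at hmem'
    have hq' : (c : Γ(X, V)) * l₀ m₀ ∈ qx := hqx.ge hmem'
    have hu : IsUnit (algebraMap Γ(X, V) (X.presheaf.stalk x) (l₀ m₀)) := by
      have h1 : algebraMap Γ(X, V) (X.presheaf.stalk x) (l₀ m₀) = (s : Γ(X, V)) • e (gx m₀) := LinearMap.congr_fun hl₀ m₀
      rw [h1, show gx m₀ = (v : Γ(X, V)) • e.symm 1 from hm₀.symm, ← algebraMap_smul (X.presheaf.stalk x) (v : Γ(X, V)),
        map_smul, e.apply_symm_apply, algebraMap_smul, Algebra.smul_def, Algebra.smul_def, mul_one]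
      exact (IsLocalization.map_units (X.presheaf.stalk x) s).mul (IsLocalization.map_units (X.presheaf.stalk x) v)
    exact ((IsLocalization.AtPrime.isUnit_to_map_iff (X.presheaf.stalk x) qx _).1 hu) (((Ideal.IsPrime.mem_or_mem inferInstance hq').resolve_left c.2))
  obtain ⟨⟨m, u⟩, hu⟩ := IsLocalizedModule.surj qz.primeCompl gz k
  refine (IsLocalization.map_units (X.presheaf.stalk z) u).smul_left_cancel.1 ?_
  have hl : l ((u : Γ(X, V)) • k) = algebraMap Γ(X, V) (X.presheaf.stalk z) ((c : Γ(X, V)) * l₀ m) := by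
    rw [show (u : Γ(X, V)) • k = gz m from hu]
    exact (IsLocalizedModule.map_apply qz.primeCompl gz _ _ m).trans rfl
  have h3 : ((c : Γ(X, V)) * ((s : Γ(X, V)) * v)) • gz m = ((c : Γ(X, V)) * l₀ m) • gz m₀ := by
    rw [← map_smul, ← map_smul]
    refine congrArg gz ?_
    have h4 := (LinearMap.congr_fun hc m).symm
    simp only [LinearMap.smul_apply, LinearMap.comp_apply, LinearMap.toSpanSingleton_apply, LinearMap.id_coe,
      id_eq, Submonoid.smul_def, smul_smul] at h4
    exact h4
  have hul : algebraMap Γ(X, V) (X.presheaf.stalk z) u * l k =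
      algebraMap Γ(X, V) (X.presheaf.stalk z) ((c : Γ(X, V)) * l₀ m) := by
    rw [← hl, LinearMap.map_smul_of_tower, Algebra.smul_def]
  rw [smul_smul (algebraMap Γ(X, V) (X.presheaf.stalk z) u) (l k), hul, smul_comm, algebraMap_smul, algebraMap_smul,
    algebraMap_smul, show (u : Γ(X, V)) • k = gz m from hu, h3]

/-- Surjectivity on a stalk spreads to the multiples at a specialization. -/
theorem exists_smul_mem_range {X : Scheme.{u}} [IsLocallyNoetherian X] {M N : X.Modules} (hM : Coh.IsCoh M)
    [Coh.IsQCoh N] (φ : M ⟶ N) (z : X) (p : PrimeSpectrum (X.presheaf.stalk z))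
    (h : Function.Surjective (RefHull.stalkMapₗ φ (EquidimLib.stalkPt z p))) (n : N.presheaf.stalk z) :
    ∃ g ∉ p.asIdeal, g • n ∈ LinearMap.range (RefHull.stalkMapₗ φ z) := by
  haveI := hM.1
  obtain ⟨_, ⟨V, hV, rfl⟩, hzV, -⟩ :=
    X.isBasis_affineOpens.exists_subset_of_mem_open (Set.mem_univ z) isOpen_univ
  let x := EquidimLib.stalkPt z p
  have hxV : x ∈ V := (EquidimLib.stalkPt_specializes z p).mem_open V.isOpen hzV
  letI : Algebra Γ(X, V) (X.presheaf.stalk z) := (X.presheaf.germ V z hzV).hom.toAlgebra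
  letI := Module.compHom (N.presheaf.stalk z) (X.presheaf.germ V z hzV).hom
  letI := Module.compHom (N.presheaf.stalk x) (X.presheaf.germ V x hxV).hom
  letI := Module.compHom (M.presheaf.stalk x) (X.presheaf.germ V x hxV).hom
  letI := Module.compHom (M.presheaf.stalk z) (X.presheaf.germ V z hzV).hom
  haveI : IsScalarTower Γ(X, V) (X.presheaf.stalk z) (N.presheaf.stalk z) :=
    IsScalarTower.of_algebraMap_smul fun _ _ => rfl
  let qz := (hV.primeIdealOf ⟨z, hzV⟩).asIdeal
  let qx := (hV.primeIdealOf ⟨x, hxV⟩).asIdeal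
  haveI : IsLocalization.AtPrime (X.presheaf.stalk z) qz := hV.isLocalization_stalk ⟨z, hzV⟩
  haveI := FlatLib.isLocalizedModule_germLin N hV hzV
  haveI := FlatLib.isLocalizedModule_germLin N hV hxV
  haveI := FlatLib.isLocalizedModule_germLin M hV hxV
  have hqx : qx = p.asIdeal.comap (algebraMap Γ(X, V) (X.presheaf.stalk z)) :=
    congrArg PrimeSpectrum.asIdeal (hV.fromSpec.isOpenEmbedding.injective
      ((hV.fromSpec_primeIdealOf ⟨x, hxV⟩).trans
        (congrArg (fun φ => φ.base p) (hV.fromSpecStalk_eq_fromSpecStalk hzV)).symm))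
  obtain ⟨⟨m, w⟩, hw⟩ := IsLocalizedModule.surj qz.primeCompl (FlatLib.germLin N hzV) n
  obtain ⟨y, hy⟩ := h (FlatLib.germLin N hxV m)
  obtain ⟨⟨a, v⟩, hv⟩ := IsLocalizedModule.surj qx.primeCompl (FlatLib.germLin M hxV) y
  have h1 : FlatLib.germLin N hxV ((v : Γ(X, V)) • m) = FlatLib.germLin N hxV (φ.app V a) := by
    rw [map_smul]
    show (X.presheaf.germ V x hxV).hom (v : Γ(X, V)) • _ = N.presheaf.germ V x hxV (φ.app V a)
    rw [← RefHull.stalkMapₗ_germ, ← hy, ← map_smul]
    exact congrArg _ hv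
  obtain ⟨c, hc⟩ := (IsLocalizedModule.eq_iff_exists qx.primeCompl (FlatLib.germLin N hxV)).1 h1
  have hw' : (w : Γ(X, V)) ∉ qx := fun hmem => w.2 <| by
    have h2 : algebraMap Γ(X, V) (X.presheaf.stalk z) w ∈ p.asIdeal := hqx.le hmem
    exact absurd (IsLocalization.map_units (X.presheaf.stalk z) w) fun hu =>
      p.isPrime.ne_top (Ideal.eq_top_of_isUnit_mem _ h2 hu)
  refine ⟨algebraMap Γ(X, V) (X.presheaf.stalk z) ((c : Γ(X, V)) * v * w), fun hmem => ?_,
    ⟨M.presheaf.germ V z hzV ((c : Γ(X, V)) • a), ?_⟩⟩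
  · exact ((c * v : qx.primeCompl) * ⟨w, hw'⟩ : qx.primeCompl).2 (hqx.ge hmem)
  · rw [algebraMap_smul, mul_smul, show (w : Γ(X, V)) • n = FlatLib.germLin N hzV m from hw, ← map_smul, mul_smul,
      RefHull.stalkMapₗ_germ, Scheme.Modules.Hom.app_smul]
    exact congrArg _ hc.symm

variable {X S : Scheme.{u}} [IsLocallyNoetherian X] [IsLocallyNoetherian S] (f : X ⟶ S) [Flat f]
  [LocallyOfFiniteType f]

/-- Primes containing the ideal of the fibre are generizations in the fibre, with the same depths. -/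
theorem exists_generization (s : S) (w : f.fiber s) (p : Ideal (X.presheaf.stalk (f.fiberι s w))) [p.IsPrime]
    (hIp : RingHom.ker ((f.fiberι s).stalkMap w).hom ≤ p) :
    ∃ v : f.fiber s, v ⤳ w ∧ f.fiberι s v = EquidimLib.stalkPt (f.fiberι s w) ⟨p, ‹_›⟩ ∧
      ∀ M : (f.fiber s).Modules, Coh.IsCoh M →
        letI := Module.compHom (M.presheaf.stalk w) ((f.fiberι s).stalkMap w).hom
        LocCoh.depth (Localization.AtPrime p) (LocalizedModule p.primeCompl (M.presheaf.stalk w)) =
          LocCoh.depth ((f.fiber s).presheaf.stalk v) (M.presheaf.stalk v) := by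
  haveI : IsLocallyNoetherian (f.fiber s) :=
    haveI : LocallyOfFiniteType (f.fiberToSpecResidueField s) :=
      inferInstanceAs (LocallyOfFiniteType (Limits.pullback.snd _ _))
    LocallyOfFiniteType.isLocallyNoetherian (f.fiberToSpecResidueField s)
  let ι := f.fiberι s
  let B := X.presheaf.stalk (ι w)
  let C := (f.fiber s).presheaf.stalk w
  letI : Algebra B C := (ι.stalkMap w).hom.toAlgebra
  obtain ⟨hsC, -⟩ := Groth.Agent.S9501.result f s w
  replace hsC : Function.Surjective (algebraMap B C) := hsC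
  replace hIp : RingHom.ker (algebraMap B C) ≤ p := hIp
  haveI : Module.Finite B C := Module.Finite.of_surjective (Algebra.linearMap B C) hsC
  let q := p.map (algebraMap B C)
  haveI : q.IsPrime := Ideal.map_isPrime_of_surjective hsC (hIp)
  have hqp : q.comap (algebraMap B C) = p := by
    rw [Ideal.comap_map_of_surjective _ hsC, ← RingHom.ker_eq_comap_bot]
    exact sup_eq_left.2 hIp
  let v := EquidimLib.stalkPt w ⟨q, inferInstance⟩
  have hιv : ι v = EquidimLib.stalkPt (ι w) ⟨p, ‹_›⟩ := by
    have h1 : ι v = EquidimLib.stalkPt (ι w) (PrimeSpectrum.comap (ι.stalkMap w).hom ⟨q, inferInstance⟩) :=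
      congr($(Scheme.SpecMap_stalkMap_fromSpecStalk (f := ι) (x := w)).base (⟨q, inferInstance⟩ : PrimeSpectrum C)).symm
    rw [h1]
    exact congrArg _ (PrimeSpectrum.ext hqp)
  refine ⟨v, EquidimLib.stalkPt_specializes w _, hιv, fun M hM => ?_⟩
  letI := Module.compHom (M.presheaf.stalk w) ((f.fiberι s).stalkMap w).hom
  haveI : IsScalarTower B C (M.presheaf.stalk w) := IsScalarTower.of_algebraMap_smul fun _ _ => rfl
  haveI := hM.1
  haveI : Module.Finite C (M.presheaf.stalk w) := ZClosLib.finite_stalk hM w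
  haveI : Module.Finite B (M.presheaf.stalk w) := Module.Finite.trans C (M.presheaf.stalk w)
  have h1 := (RestrictFinLib.sdim_sdep_of_surjective hsC (M.presheaf.stalk w) q).2
  simp only [hqp] at h1
  have i : (Scheme.Modules.pullback (𝟙 (f.fiber s))).obj M ≅ M := (Scheme.Modules.pullbackId _).app M
  have h4 := (DepthLib.localized_stalk_invariants (𝟙 (f.fiber s)) M hM.2 w ⟨q, inferInstance⟩).2
  have h5 := depth_localized_congr q ((DerSch.stalkFunctor (f.fiber s) w).mapIso i).toLinearEquiv
  have h6 := CommAlgDim.depth_congr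
    ((DerSch.stalkFunctor (f.fiber s) (EquidimLib.stalkPt w ⟨q, inferInstance⟩)).mapIso i).toLinearEquiv
  exact h1.trans (h5.symm.trans (h4.trans h6))

/-- A dual whose homomorphisms into the fibre lift to the thickenings is flat, and commutes with restriction to the
fibre. -/
theorem flat_dual_and_fibre_of_lifts {T : X.Modules} (hT : Coh.IsCoh T) (s : S) (w : f.fiber s)
    (hlift : letI := (f.stalkMap (f.fiberι s w)).hom.toAlgebra
      ∀ (n : ℕ) (φ : T.presheaf.stalk (f.fiberι s w) →ₗ[X.presheaf.stalk (f.fiberι s w)]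
          Pq (B := X.presheaf.stalk (f.fiberι s w)) (S.presheaf.stalk (f (f.fiberι s w)))
            (X.presheaf.stalk (f.fiberι s w)) 0),
        ∃ ψ : T.presheaf.stalk (f.fiberι s w) →ₗ[X.presheaf.stalk (f.fiberι s w)]
          Pq (B := X.presheaf.stalk (f.fiberι s w)) (S.presheaf.stalk (f (f.fiberι s w)))
            (X.presheaf.stalk (f.fiberι s w)) n,
          ∀ k z, ψ k = Submodule.Quotient.mk z → φ k = Submodule.Quotient.mk z) :
    FlatMod.IsFlatOverAt f (RefHull.dual T) (f.fiberι s w) ∧
      Nonempty (((Scheme.Modules.pullback (f.fiberι s)).obj (RefHull.dual T)).presheaf.stalk w ≃ₗ[(f.fiber s).presheaf.stalk w]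
        (RefHull.dual ((Scheme.Modules.pullback (f.fiberι s)).obj T)).presheaf.stalk w) := by
  haveI : IsLocallyNoetherian (f.fiber s) :=
    haveI : LocallyOfFiniteType (f.fiberToSpecResidueField s) :=
      inferInstanceAs (LocallyOfFiniteType (Limits.pullback.snd _ _))
    LocallyOfFiniteType.isLocallyNoetherian (f.fiberToSpecResidueField s)
  let ι := f.fiberι s
  let A := S.presheaf.stalk (f (ι w))
  let B := X.presheaf.stalk (ι w)
  let C := (f.fiber s).presheaf.stalk w
  let K := T.presheaf.stalk (ι w)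
  let Tt := (Scheme.Modules.pullback ι).obj T
  have hTt := ConsLib.isCoh_pullback ι hT
  have hD := RefHullLib.isCoh_dual hTt
  letI : Algebra A B := (f.stalkMap (ι w)).hom.toAlgebra
  haveI : IsLocalHom (algebraMap A B) := inferInstanceAs (IsLocalHom (f.stalkMap (ι w)).hom)
  haveI : Module.Flat A B := Flat.stalkMap f (ι w)
  haveI : Module.Finite B K := ZClosLib.finite_stalk hT (ι w)
  letI : Algebra B C := (ι.stalkMap w).hom.toAlgebra
  obtain ⟨hsC, hker⟩ := Groth.Agent.S9501.result f s w
  replace hsC : Function.Surjective (algebraMap B C) := hsC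
  let I : Ideal B := (maximalIdeal A).map (algebraMap A B)
  replace hker : RingHom.ker (algebraMap B C) = I := hker
  -- the fibre module
  have hP0 : sub (B := B) (maximalIdeal A ^ (0 + 1)) B = I := by
    rw [sub, zero_add, pow_one, smul_eq_mul, Ideal.mul_top]
  let eC : Pq (B := B) A B 0 ≃ₗ[B] C :=
    (Submodule.quotEquivOfEq _ _ (hP0.trans (hker.symm.trans (SetLike.ext fun b => Iff.rfl :
      RingHom.ker (algebraMap B C) = LinearMap.ker (Algebra.linearMap B C))))).trans
      ((Algebra.linearMap B C).quotKerEquivOfSurjective hsC)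
  let N := (RefHull.dual Tt).presheaf.stalk w
  letI : Module B N := Module.compHom N (algebraMap B C)
  haveI : IsScalarTower B C N := IsScalarTower.of_algebraMap_smul fun _ _ => rfl
  obtain ⟨ed⟩ := RefHullLib.nonempty_dual_stalk hTt w
  let eT : C ⊗[B] K ≃ₗ[C] Tt.presheaf.stalk w := ((KFlatLib.stalkPullIso ι w).symm.app T).toLinearEquiv
  let e₀ : (K →ₗ[B] Pq (B := B) A B 0) ≃ₗ[B] N :=
    (LinearEquiv.congrRight eC).trans (((LinearMap.liftBaseChangeEquiv C).trans
      ((LinearEquiv.congrLeft C C eT).trans ed.symm)).restrictScalars B)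
  haveI : Module.Finite C N := ZClosLib.finite_stalk hD w
  haveI : Module.Finite B C := Module.Finite.of_surjective (Algebra.linearMap B C) hsC
  haveI : Module.Finite B N := Module.Finite.trans C N
  obtain ⟨hflat, hsurj, hkerM⟩ := flat_hom_of_lifts (A := A) (B := B) B K hlift
  obtain ⟨ez⟩ := RefHullLib.nonempty_dual_stalk hT (ι w)
  constructor
  · letI := FlatMod.moduleStalkOver f (RefHull.dual T) (ι w)
    haveI : IsScalarTower A B ((RefHull.dual T).presheaf.stalk (ι w)) :=
      IsScalarTower.of_algebraMap_smul fun _ _ => rfl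
    exact Module.Flat.of_linearEquiv (ez.restrictScalars A)
  · let Φ : (K →ₗ[B] B) →ₗ[B] N :=
      e₀.toLinearMap.comp (LinearMap.compRight B (Submodule.mkQ (sub (B := B) (maximalIdeal A ^ (0 + 1)) B)))
    have hΦ : ∀ ψ, Φ ψ = e₀ ((Submodule.mkQ (sub (B := B) (maximalIdeal A ^ (0 + 1)) B)).comp ψ) := fun ψ => rfl
    let Ψ : C ⊗[B] (K →ₗ[B] B) →ₗ[C] N := Φ.liftBaseChange C
    have hone : ∀ y : C ⊗[B] (K →ₗ[B] B), ∃ m, y = (1 : C) ⊗ₜ[B] m := by
      intro y
      induction y with
      | zero => exact ⟨0, (TensorProduct.tmul_zero _ _).symm⟩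
      | add a b ha hb =>
        obtain ⟨m, rfl⟩ := ha
        obtain ⟨m', rfl⟩ := hb
        exact ⟨m + m', (TensorProduct.tmul_add _ _ _).symm⟩
      | tmul c m =>
        obtain ⟨b, rfl⟩ := hsC c
        exact ⟨b • m, by rw [TensorProduct.tmul_smul, TensorProduct.smul_tmul', Algebra.smul_def, mul_one]⟩
    have hΨ : Function.Bijective Ψ := by
      refine ⟨(injective_iff_map_eq_zero _).2 fun y hy => ?_, fun x => ?_⟩
      · obtain ⟨m, rfl⟩ := hone y
        rw [LinearMap.liftBaseChange_one_tmul, hΦ, LinearEquiv.map_eq_zero_iff] at hy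
        have hm := hkerM m fun k => by
          have := (Submodule.Quotient.mk_eq_zero _).1 (LinearMap.congr_fun hy k)
          rwa [zero_add, pow_one] at this
        refine Submodule.smul_induction_on hm (fun c hc x _ => ?_) fun a b ha hb => ?_
        · rw [TensorProduct.tmul_smul, TensorProduct.smul_tmul', Algebra.smul_def, mul_one,
            show algebraMap B C c = 0 from (RingHom.mem_ker).1 (hker.ge hc), TensorProduct.zero_tmul]
        · rw [TensorProduct.tmul_add, ha, hb, add_zero]
      · obtain ⟨ψ, hψ⟩ := hsurj (e₀.symm x)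
        exact ⟨1 ⊗ₜ ψ, by rw [LinearMap.liftBaseChange_one_tmul, hΦ, hψ, LinearEquiv.apply_symm_apply]⟩
    exact ⟨(((KFlatLib.stalkPullIso ι w).symm.app (RefHull.dual T)).toLinearEquiv).symm.trans
      ((LinearEquiv.baseChange B C _ _ ez).trans (LinearEquiv.ofBijective Ψ hΨ))⟩


/-- A dual whose fibrewise duals have depth three where the module is not invertible is flat, and commutes with
restriction to the fibre. -/
theorem flat_dual_and_fibre {T : X.Modules} (hT : Coh.IsCoh T) (s : S) (w : f.fiber s)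
    (hloc : ∀ v : f.fiber s, v ⤳ w → RelCanon.InvertibleAt T (f.fiberι s v) ∨
      ((2 : ℕ∞) ≤ LocCoh.depth ((f.fiber s).presheaf.stalk v) ((f.fiber s).presheaf.stalk v) ∧
        (3 : ℕ∞) ≤ LocCoh.depth ((f.fiber s).presheaf.stalk v)
          ((RefHull.dual ((Scheme.Modules.pullback (f.fiberι s)).obj T)).presheaf.stalk v))) :
    FlatMod.IsFlatOverAt f (RefHull.dual T) (f.fiberι s w) ∧
      Nonempty (((Scheme.Modules.pullback (f.fiberι s)).obj (RefHull.dual T)).presheaf.stalk w ≃ₗ[(f.fiber s).presheaf.stalk w]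
        (RefHull.dual ((Scheme.Modules.pullback (f.fiberι s)).obj T)).presheaf.stalk w) := by
  haveI : IsLocallyNoetherian (f.fiber s) :=
    haveI : LocallyOfFiniteType (f.fiberToSpecResidueField s) :=
      inferInstanceAs (LocallyOfFiniteType (Limits.pullback.snd _ _))
    LocallyOfFiniteType.isLocallyNoetherian (f.fiberToSpecResidueField s)
  let ι := f.fiberι s
  let A := S.presheaf.stalk (f (ι w))
  let B := X.presheaf.stalk (ι w)
  let C := (f.fiber s).presheaf.stalk w
  let K := T.presheaf.stalk (ι w)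
  let Tt := (Scheme.Modules.pullback ι).obj T
  have hTt := ConsLib.isCoh_pullback ι hT
  have hD := RefHullLib.isCoh_dual hTt
  letI : Algebra A B := (f.stalkMap (ι w)).hom.toAlgebra
  haveI : IsLocalHom (algebraMap A B) := inferInstanceAs (IsLocalHom (f.stalkMap (ι w)).hom)
  haveI : Module.Flat A B := Flat.stalkMap f (ι w)
  haveI : Module.Finite B K := ZClosLib.finite_stalk hT (ι w)
  letI : Algebra B C := (ι.stalkMap w).hom.toAlgebra
  obtain ⟨hsC, hker⟩ := Groth.Agent.S9501.result f s w
  replace hsC : Function.Surjective (algebraMap B C) := hsC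
  let I : Ideal B := (maximalIdeal A).map (algebraMap A B)
  replace hker : RingHom.ker (algebraMap B C) = I := hker
  -- the fibre module
  have hP0 : sub (B := B) (maximalIdeal A ^ (0 + 1)) B = I := by
    rw [sub, zero_add, pow_one, smul_eq_mul, Ideal.mul_top]
  let eC : Pq (B := B) A B 0 ≃ₗ[B] C :=
    (Submodule.quotEquivOfEq _ _ (hP0.trans (hker.symm.trans (SetLike.ext fun b => Iff.rfl :
      RingHom.ker (algebraMap B C) = LinearMap.ker (Algebra.linearMap B C))))).trans
      ((Algebra.linearMap B C).quotKerEquivOfSurjective hsC)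
  let N := (RefHull.dual Tt).presheaf.stalk w
  letI : Module B N := Module.compHom N (algebraMap B C)
  haveI : IsScalarTower B C N := IsScalarTower.of_algebraMap_smul fun _ _ => rfl
  obtain ⟨ed⟩ := RefHullLib.nonempty_dual_stalk hTt w
  let eT : C ⊗[B] K ≃ₗ[C] Tt.presheaf.stalk w := ((KFlatLib.stalkPullIso ι w).symm.app T).toLinearEquiv
  let e₀ : (K →ₗ[B] Pq (B := B) A B 0) ≃ₗ[B] N :=
    (LinearEquiv.congrRight eC).trans (((LinearMap.liftBaseChangeEquiv C).trans
      ((LinearEquiv.congrLeft C C eT).trans ed.symm)).restrictScalars B)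
  haveI : Module.Finite C N := ZClosLib.finite_stalk hD w
  haveI : Module.Finite B C := Module.Finite.of_surjective (Algebra.linearMap B C) hsC
  haveI : Module.Finite B N := Module.Finite.trans C N
  -- local hypotheses
  have hlocB : ∀ (p : Ideal B) [p.IsPrime],
      (∀ (n : ℕ) (φ : K →ₗ[B] Pq (B := B) A B n), ∃ g ∉ p, LiftsMul B K n φ g) ∨
      ((2 : ℕ∞) ≤ LocCoh.depth (Localization.AtPrime p) (LocalizedModule p.primeCompl (Pq (B := B) A B 0)) ∧
        (3 : ℕ∞) ≤ LocCoh.depth (Localization.AtPrime p)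
          (LocalizedModule p.primeCompl (K →ₗ[B] Pq (B := B) A B 0))) := by
    intro p hp
    by_cases hIp : I ≤ p
    swap
    · obtain ⟨c, hcI, hcp⟩ := SetLike.not_le_iff_exists.1 hIp
      have hc : ∀ x : Pq (B := B) A B 0, c • x = 0 := fun x => by
        obtain ⟨b, rfl⟩ := Submodule.Quotient.mk_surjective _ x
        rw [← Submodule.Quotient.mk_smul]
        exact (Submodule.Quotient.mk_eq_zero _).2 (by rw [hP0, smul_eq_mul]; exact Ideal.mul_mem_right _ _ hcI)
      haveI : Module.Finite B (K →ₗ[B] Pq (B := B) A B 0) := Module.Finite.equiv e₀.symm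
      exact Or.inr ⟨by exact_mod_cast le_depth_localized_of_annihilated p hcp hc 2,
        by exact_mod_cast le_depth_localized_of_annihilated p hcp
            (fun φ : K →ₗ[B] Pq (B := B) A B 0 => LinearMap.ext fun k => hc (φ k)) 3⟩
    obtain ⟨v, hvw, hιv, key⟩ := exists_generization f s w p (hker.trans_le hIp)
    rcases hloc v hvw with hinv | ⟨h2, h3⟩
    · left
      intro n φ
      obtain ⟨g, hg, t, l, hgt, -⟩ := exists_factor_of_invertibleAt hT (ι w) ⟨p, hp⟩ (hιv ▸ hinv)
      obtain ⟨x, hx⟩ := Submodule.Quotient.mk_surjective _ (φ t)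
      refine ⟨g, hg, l.smulRight (Submodule.Quotient.mk x), fun k z hz => ?_⟩
      rw [LinearMap.smulRight_apply, ← Submodule.Quotient.mk_smul] at hz
      rw [← map_smul φ, hgt, map_smul, ← hx, ← Submodule.Quotient.mk_smul]
      have hle : sub (B := B) (maximalIdeal A ^ (n + 1 + 1)) B ≤ sub (B := B) (maximalIdeal A ^ (n + 1)) B :=
        Submodule.smul_mono_left (Ideal.map_mono (Ideal.pow_le_pow_right (Nat.le_succ _)))
      exact (Submodule.Quotient.eq _).2 (hle ((Submodule.Quotient.eq _).1 hz))
    · right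
      constructor
      · obtain ⟨u⟩ := RefHullLib.nonempty_stalk_unit (f.fiber s) w
        obtain ⟨u'⟩ := RefHullLib.nonempty_stalk_unit (f.fiber s) v
        letI : Module B ((Coh.structureModule (f.fiber s)).presheaf.stalk w) := Module.compHom _ (algebraMap B C)
        haveI : IsScalarTower B C ((Coh.structureModule (f.fiber s)).presheaf.stalk w) :=
          IsScalarTower.of_algebraMap_smul fun _ _ => rfl
        rw [depth_localized_congr p (eC.trans (u.restrictScalars B)),
          key _ (DevissLib.isCoh_structureModule _), ← CommAlgDim.depth_congr u']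
        exact h2
      · rw [depth_localized_congr p e₀, key _ hD]
        exact h3
  exact flat_dual_and_fibre_of_lifts f hT s w fun n φ => exists_lifts B K hlocB n φ

/-- A dual whose homomorphisms into the fibre all lift is flat, and commutes with restriction to the fibre. -/
theorem flat_dual_and_fibre_of_surjective {T : X.Modules} (hT : Coh.IsCoh T) (s : S) (w : f.fiber s)
    (hsur : ∀ φ : T.presheaf.stalk (f.fiberι s w) →ₛₗ[((f.fiberι s).stalkMap w).hom]
        (f.fiber s).presheaf.stalk w,
      ∃ ψ : T.presheaf.stalk (f.fiberι s w) →ₗ[X.presheaf.stalk (f.fiberι s w)] X.presheaf.stalk (f.fiberι s w),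
        ∀ k, (f.fiberι s).stalkMap w (ψ k) = φ k) :
    FlatMod.IsFlatOverAt f (RefHull.dual T) (f.fiberι s w) ∧
      Nonempty (((Scheme.Modules.pullback (f.fiberι s)).obj (RefHull.dual T)).presheaf.stalk w ≃ₗ[(f.fiber s).presheaf.stalk w]
        (RefHull.dual ((Scheme.Modules.pullback (f.fiberι s)).obj T)).presheaf.stalk w) := by
  haveI : IsLocallyNoetherian (f.fiber s) :=
    haveI : LocallyOfFiniteType (f.fiberToSpecResidueField s) :=
      inferInstanceAs (LocallyOfFiniteType (Limits.pullback.snd _ _))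
    LocallyOfFiniteType.isLocallyNoetherian (f.fiberToSpecResidueField s)
  let ι := f.fiberι s
  let A := S.presheaf.stalk (f (ι w))
  let B := X.presheaf.stalk (ι w)
  let C := (f.fiber s).presheaf.stalk w
  let K := T.presheaf.stalk (ι w)
  let Tt := (Scheme.Modules.pullback ι).obj T
  have hTt := ConsLib.isCoh_pullback ι hT
  have hD := RefHullLib.isCoh_dual hTt
  letI : Algebra A B := (f.stalkMap (ι w)).hom.toAlgebra
  haveI : IsLocalHom (algebraMap A B) := inferInstanceAs (IsLocalHom (f.stalkMap (ι w)).hom)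
  haveI : Module.Flat A B := Flat.stalkMap f (ι w)
  haveI : Module.Finite B K := ZClosLib.finite_stalk hT (ι w)
  letI : Algebra B C := (ι.stalkMap w).hom.toAlgebra
  obtain ⟨hsC, hker⟩ := Groth.Agent.S9501.result f s w
  replace hsC : Function.Surjective (algebraMap B C) := hsC
  let I : Ideal B := (maximalIdeal A).map (algebraMap A B)
  replace hker : RingHom.ker (algebraMap B C) = I := hker
  -- the fibre module
  have hP0 : sub (B := B) (maximalIdeal A ^ (0 + 1)) B = I := by
    rw [sub, zero_add, pow_one, smul_eq_mul, Ideal.mul_top]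
  let eC : Pq (B := B) A B 0 ≃ₗ[B] C :=
    (Submodule.quotEquivOfEq _ _ (hP0.trans (hker.symm.trans (SetLike.ext fun b => Iff.rfl :
      RingHom.ker (algebraMap B C) = LinearMap.ker (Algebra.linearMap B C))))).trans
      ((Algebra.linearMap B C).quotKerEquivOfSurjective hsC)
  let N := (RefHull.dual Tt).presheaf.stalk w
  letI : Module B N := Module.compHom N (algebraMap B C)
  haveI : IsScalarTower B C N := IsScalarTower.of_algebraMap_smul fun _ _ => rfl
  obtain ⟨ed⟩ := RefHullLib.nonempty_dual_stalk hTt w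
  let eT : C ⊗[B] K ≃ₗ[C] Tt.presheaf.stalk w := ((KFlatLib.stalkPullIso ι w).symm.app T).toLinearEquiv
  let e₀ : (K →ₗ[B] Pq (B := B) A B 0) ≃ₗ[B] N :=
    (LinearEquiv.congrRight eC).trans (((LinearMap.liftBaseChangeEquiv C).trans
      ((LinearEquiv.congrLeft C C eT).trans ed.symm)).restrictScalars B)
  haveI : Module.Finite C N := ZClosLib.finite_stalk hD w
  haveI : Module.Finite B C := Module.Finite.of_surjective (Algebra.linearMap B C) hsC
  haveI : Module.Finite B N := Module.Finite.trans C N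
  refine flat_dual_and_fibre_of_lifts f hT s w fun n φ => ?_
  have heC : ∀ b : B, eC (Submodule.Quotient.mk b) = algebraMap B C b := fun b => rfl
  obtain ⟨ψ, hψ⟩ := hsur
    { toFun := fun k => eC (φ k)
      map_add' := fun a b => by rw [map_add, map_add]
      map_smul' := fun c k => by rw [map_smul, map_smul, Algebra.smul_def]; rfl }
  refine ⟨(Submodule.mkQ _).comp ψ, fun k z hz => ?_⟩
  have h0 : φ k = Submodule.Quotient.mk (ψ k) := eC.injective ((heC (ψ k)).trans (hψ k)).symm
  have hle : sub (B := B) (maximalIdeal A ^ (n + 1)) B ≤ sub (B := B) (maximalIdeal A ^ (0 + 1)) B :=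
    Submodule.smul_mono_left (Ideal.map_mono (Ideal.pow_le_pow_right (by omega)))
  exact h0.trans ((Submodule.Quotient.eq _).2 (hle ((Submodule.Quotient.eq _).1 hz)))

end QGorLiftLib
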