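import Groth.Agent.QGorLiftLib.Thick

/-!
# Depth along generisations, and pullbacks at a point, in general
-/

set_option autoImplicit false
set_option linter.style.haveILetI false
set_option linter.unusedSectionVars false
set_option backward.isDefEq.respectTransparency false
set_option backward.isDefEq.respectTransparency.types false
set_option maxHeartbeats 1000000
set_option synthInstance.maxHeartbeats 200000

noncomputable section

universe u

open CategoryTheory CategoryTheory.Limits AlgebraicGeometry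
open Groth.Agent

attribute [local instance] HasDerivedCategory.standard

namespace QGorLiftLib

/-- Relative `S₂` of a generically invertible module passes to generisations in the fibre. -/
theorem flat_and_fiberDepth_of_relSkAt_of_open {X S : Scheme.{u}} [IsLocallyNoetherian X] (f : X ⟶ S)
    [LocallyOfFiniteType f] {M : X.Modules} (hM : Coh.IsCoh M) (U : X.Opens)
    (hcod : ∀ y : X, y ∉ U → (2 : WithBot ℕ∞) ≤ ringKrullDim ((f.fiber (f y)).presheaf.stalk (f.asFiber y)))
    (hU : ∀ z ∈ U, RelCanon.InvertibleAt M z) {y z : X} (hy : RelCanon.RelSkAt f 2 M y) (hzy : z ⤳ y)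
    (hf : f z = f y) (hzU : z ∉ U) :
    FlatMod.IsFlatOverAt f M z ∧ (2 : ℕ∞) ≤ CInt.fiberDepth f M z := by
  haveI := hM.1
  have key : ∀ (s : S) (w : f.fiber s) (x : X), f.fiberι s w = x →
      (RelCanon.SkAt 2 ((Scheme.Modules.pullback (f.fiberι s)).obj M) w ↔
        RelCanon.SkAt 2 ((Scheme.Modules.pullback (f.fiberι (f x))).obj M) (f.asFiber x)) := by
    rintro s w x rfl
    have hs : f (f.fiberι s w) = s := (f.range_fiberι s).le ⟨w, rfl⟩
    generalize hz : f.fiberι s w = x at hs ⊢
    subst hs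
    obtain rfl : f.asFiber x = w :=
      (f.fiberι _).isEmbedding.injective ((f.fiberι_asFiber x).trans hz.symm)
    exact Iff.rfl
  haveI : IsLocallyNoetherian (f.fiber (f y)) :=
    haveI := UOpenLib.lft_fiberToSpec f (f y)
    LocallyOfFiniteType.isLocallyNoetherian (f.fiberToSpecResidueField (f y))
  obtain ⟨w, hw⟩ : z ∈ Set.range (f.fiberι (f y)) := by rw [f.range_fiberι]; exact hf
  have hwy : w ⤳ f.asFiber y := (f.fiberι _).isEmbedding.isInducing.specializes_iff.1 (by
    rw [hw, f.fiberι_asFiber]; exact hzy)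
  have h2 : RelCanon.SkAt 2 ((Scheme.Modules.pullback (f.fiberι (f y))).obj M) w :=
    (DepthLib.hasSk_pullback_stalk_iff (f.fiberι (f y)) M hM.2 w 2).2 fun v hv =>
      (DepthLib.hasSk_pullback_stalk_iff (f.fiberι (f y)) M hM.2 (f.asFiber y) 2).1 hy.2 v (hv.trans hwy)
  exact ⟨FlatDimLib.isFlatOverAt_of_specializes f M hzy hy.1,
    QGorBCLib.two_le_fiberDepth f hM (QGorBCLib.support_eq_univ f hM U hcod fun x hx =>
      QGorBCLib.mem_support_of_invertibleAt (hU x hx)) z ((key _ w z hw).1 h2) (hcod z hzU)⟩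

/-- A pullback agrees at a point with a module it agrees with off a set along which both have depth two. -/
theorem nonempty_pullback_stalk_equiv_of_fiberDepth {X S X' S' : Scheme.{u}} [IsLocallyNoetherian X]
    [IsLocallyNoetherian X'] [IsLocallyNoetherian S'] {f : X ⟶ S} [LocallyOfFiniteType f] {g : S' ⟶ S} {g' : X' ⟶ X}
    {f' : X' ⟶ S'} (hc : IsPullback g' f' f g) (U' : X'.Opens) {M : X.Modules} (hM : Coh.IsCoh M)
    {N : X'.Modules} (hN : Coh.IsCoh N) (hext : QGorSecLib.Extends U' N)
    (e : ((Scheme.Modules.pullback g').obj M).restrict U'.ι ≅ N.restrict U'.ι) {x' : X'}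
    (h : ∀ v : X', v ⤳ x' → v ∉ U' → FlatMod.IsFlatOverAt f M (g' v) ∧ (2 : ℕ∞) ≤ CInt.fiberDepth f M (g' v)) :
    Nonempty (((Scheme.Modules.pullback g').obj M).presheaf.stalk x' ≃ₗ[X'.presheaf.stalk x']
      N.presheaf.stalk x') := by
  haveI := hM.1
  haveI := hN.1
  obtain ⟨φ, hφ⟩ := QGorIdxLib.exists_hom_bijective_stalk U' (ConsLib.isCoh_pullback g' hM) hext e U'
    fun x hx hx' => absurd hx hx'
  refine ⟨LinearEquiv.ofBijective _ (bijective_stalk_of_generizations (ConsLib.isCoh_pullback g' hM) hN φ x' fun v hv => ?_)⟩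
  by_cases hvG : v ∈ U'
  · exact Or.inl (hφ v hvG)
  · obtain ⟨hfl, hdep⟩ := h v hv hvG
    exact Or.inr ⟨QGorBCLib.two_le_depth_stalk f' _ (ConsLib.isCoh_pullback g' hM) v
      (FlatDimLib.isFlatOverAt_baseChange hc M v hfl) (hdep.trans (QGorBCLib.fiberDepth_le_baseChange hc hM v)),
      (LocSuppLib.depth_two_iff_bijective U' hN).2 hext v hvG⟩

end QGorLiftLib
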