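import Groth.Agent.QGorLiftLib.Extension
import Groth.Agent.QGorIdxLib.Main
import Groth.Agent.AlgSpLib.FibStalkBC

/-!
# Reflexive powers of the relative canonical sheaf along a fibre of depth three
-/

set_option autoImplicit false
set_option linter.style.haveILetI false
set_option linter.unusedSectionVars false
set_option backward.isDefEq.respectTransparency false
set_option backward.isDefEq.respectTransparency.types false
set_option maxHeartbeats 1000000
set_option synthInstance.maxHeartbeats 200000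

noncomputable section

universe u

open CategoryTheory CategoryTheory.Limits AlgebraicGeometry
open Groth.Agent
open CubeConsLib (IsoCls cl cl_eq_iff pull pull_cl)

attribute [local instance] HasDerivedCategory.standard

namespace QGorLiftLib

/-- The map on stalks of an isomorphism of sheaves of modules. -/
def stalkEquiv {P : Scheme.{u}} {M N : P.Modules} (e : M ≅ N) (v : P) :
    M.presheaf.stalk v ≃ₗ[P.presheaf.stalk v] N.presheaf.stalk v :=
  ((DerSch.stalkFunctor P v).mapIso e).toLinearEquiv

/-- The support dimension of a stalk of a coherent sheaf supported everywhere. -/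
theorem supportDim_stalk_eq {P : Scheme.{u}} [IsLocallyNoetherian P] {M : P.Modules} (hM : Coh.IsCoh M)
    (hs : CohB1.support M = Set.univ) (v : P) :
    Module.supportDim (P.presheaf.stalk v) (M.presheaf.stalk v) = ringKrullDim (P.presheaf.stalk v) := by
  haveI := hM.1
  let i : (Scheme.Modules.pullback (𝟙 P)).obj M ≅ M := (Scheme.Modules.pullbackId _).app M
  rw [← Module.supportDim_self_eq_ringKrullDim]
  have hsupp : Module.support (P.presheaf.stalk v) (M.presheaf.stalk v) = Set.univ := by
    refine Set.eq_univ_of_forall fun p => Module.mem_support_iff.2 ?_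
    rw [← Module.supportDim_ne_bot_iff_nontrivial (Localization.AtPrime p.asIdeal)]
    intro hbot
    have h := (DepthLib.localized_stalk_invariants (𝟙 P) M hM.2 v p).1
    let e := (stalkEquiv i v)
    let e' := (stalkEquiv i (EquidimLib.stalkPt v p))
    rw [Module.supportDim_eq_of_equiv (IsLocalizedModule.mapEquiv p.asIdeal.primeCompl
      (LocalizedModule.mkLinearMap p.asIdeal.primeCompl _) (LocalizedModule.mkLinearMap p.asIdeal.primeCompl _)
      (Localization.AtPrime p.asIdeal) e)] at h
    have h2 := h.trans (Module.supportDim_eq_of_equiv e')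
    rw [show Module.supportDim (Localization.AtPrime p.asIdeal)
      (LocalizedModule p.asIdeal.primeCompl (M.presheaf.stalk v)) = ⊥ from hbot] at h2
    have hmem : EquidimLib.stalkPt v p ∈ CohB1.support M := hs ▸ Set.mem_univ _
    haveI : Nontrivial (M.presheaf.stalk (EquidimLib.stalkPt v p)) := not_subsingleton_iff_nontrivial.1 hmem
    exact (Module.supportDim_ne_bot_iff_nontrivial _ _).2 ‹_› h2.symm
  show Order.krullDim _ = Order.krullDim _
  rw [hsupp, Module.support_eq_zeroLocus, show Module.annihilator (P.presheaf.stalk v) (P.presheaf.stalk v) = ⊥ from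
    Module.annihilator_eq_bot.2 inferInstance, PrimeSpectrum.zeroLocus_bot]

/-- Depth from Serre's condition at a specialization. -/
theorem le_depth_of_skAt {P : Scheme.{u}} [IsLocallyNoetherian P] {M : P.Modules} (hM : Coh.IsCoh M)
    (hs : CohB1.support M = Set.univ) {k : ℕ} {v w : P} (hvw : v ⤳ w) (h : RelCanon.SkAt k M w)
    (hdim : (k : WithBot ℕ∞) ≤ ringKrullDim (P.presheaf.stalk v)) :
    (k : ℕ∞) ≤ LocCoh.depth (P.presheaf.stalk v) (M.presheaf.stalk v) := by
  haveI := hM.1
  let i : (Scheme.Modules.pullback (𝟙 P)).obj M ≅ M := (Scheme.Modules.pullbackId _).app M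
  have h' := (DepthLib.hasSk_pullback_stalk_iff (𝟙 P) M hM.2 w k).1
    (DepthLib.hasSk_congr (stalkEquiv i w).symm k h) v hvw
  rw [Module.supportDim_eq_of_equiv (stalkEquiv i v),
    CommAlgDim.depth_congr (stalkEquiv i v),
    supportDim_stalk_eq hM hs v, min_eq_left hdim] at h'
  exact WithBot.coe_le_coe.1 h'

/-- Depth of the structure sheaf from Serre's condition at a specialization. -/
theorem le_depth_self_of_skAt {P : Scheme.{u}} [IsLocallyNoetherian P] {k : ℕ} {v w : P} (hvw : v ⤳ w)
    (h : RelCanon.SkAt k (Coh.structureModule P) w)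
    (hdim : (k : WithBot ℕ∞) ≤ ringKrullDim (P.presheaf.stalk v)) :
    (k : ℕ∞) ≤ LocCoh.depth (P.presheaf.stalk v) (P.presheaf.stalk v) := by
  obtain ⟨e⟩ := RefHullLib.nonempty_stalk_unit P v
  rw [CommAlgDim.depth_congr e]
  exact le_depth_of_skAt (DevissLib.isCoh_structureModule P) IntMultLib.support_structureModule' hvw h hdim

/-- A reflexive power on the positive or negative side is a dual. -/
theorem exists_refPowZ_eq_dual {X : Scheme.{u}} [IsLocallyNoetherian X] {F : X.Modules} (hc : Coh.IsCoh F)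
    {U : X.Opens} (hF : PicF.IsInvertible (F.restrict U.ι)) :
    ∀ m : ℤ, ∃ T : X.Modules, Coh.IsCoh T ∧ PicF.IsInvertible (T.restrict U.ι) ∧
      RelCanon.refPowZ F m = RefHull.dual T
  | Int.ofNat n => ⟨_, RefHullLib.isCoh_dual (QGorBCLib.isCoh_tensorPow hc n),
      QGorBCLib.isInvertible_dual_restrict (QGorBCLib.isInvertible_tensorPow_restrict hF n), rfl⟩
  | Int.negSucc n => ⟨_, RefHullLib.isCoh_dual (QGorBCLib.isCoh_tensorPow (RefHullLib.isCoh_dual hc) _),
      QGorBCLib.isInvertible_dual_restrict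
        (QGorBCLib.isInvertible_tensorPow_restrict (QGorBCLib.isInvertible_dual_restrict hF) (n + 1)), rfl⟩

variable {A : Type u} [CommRing A] [IsNoetherianRing A] {Y : Scheme.{u}} [Y.Over (Spec (CommRingCat.of A))]
  [IsProper (Y ↘ Spec (CommRingCat.of A))] [Flat (Y ↘ Spec (CommRingCat.of A))] {d : ℕ}
  (hd : Cyc.HasRelDim (Y ↘ Spec (CommRingCat.of A)) d) {ω : Y.Modules}
  (hω : RelCanon.IsDualizingSheaf A Y d ω)
  (hS : RelCanon.IsSkMor (Y ↘ Spec (CommRingCat.of A)) 2)
  (t : Spec (CommRingCat.of A))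
  (hGt : ∀ v : (Y ↘ Spec (CommRingCat.of A)).fiber t,
    (Y ↘ Spec (CommRingCat.of A)).fiberι t v ∉ QGorBCLib.gorOpen A Y →
      (2 : WithBot ℕ∞) ≤ ringKrullDim (((Y ↘ Spec (CommRingCat.of A)).fiber t).presheaf.stalk v))
  {ωt : ((Y ↘ Spec (CommRingCat.of A)).fiber t).Modules}
  (hωt : @RelCanon.IsDualizingSheaf ((Spec (CommRingCat.of A)).residueField t) _
    ((Y ↘ Spec (CommRingCat.of A)).fiber t) ⟨(Y ↘ Spec (CommRingCat.of A)).fiberToSpecResidueField t⟩ d ωt)

include hS in
/-- Serre's condition of the fibres, on the fibre over a given point. -/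
theorem skAt_fibre (v : (Y ↘ Spec (CommRingCat.of A)).fiber t) :
    RelCanon.SkAt 2 (Coh.structureModule ((Y ↘ Spec (CommRingCat.of A)).fiber t)) v := by
  let f := Y ↘ Spec (CommRingCat.of A)
  have key : ∀ z : Y, f.fiberι t v = z → RelCanon.SkAt 2 (Coh.structureModule (f.fiber t)) v := by
    intro z hz
    have hs : f z = t := hz ▸ (f.range_fiberι t).le ⟨v, rfl⟩
    subst hs
    obtain rfl : f.asFiber z = v :=
      (f.fiberι _).isEmbedding.injective ((f.fiberι_asFiber z).trans hz.symm)
    exact hS.2.2 z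
  exact key _ rfl

/-- Points of the fibre outside the Gorenstein locus have dimension two. -/
theorem two_le_dim_fibre
    (hG : ∀ y : Y, (Y ↘ Spec (CommRingCat.of A)) y = t → y ∉ QGorBCLib.gorOpen A Y → (2 : WithBot ℕ∞) ≤
      ringKrullDim (((Y ↘ Spec (CommRingCat.of A)).fiber ((Y ↘ Spec (CommRingCat.of A)) y)).presheaf.stalk
        ((Y ↘ Spec (CommRingCat.of A)).asFiber y)))
    (v : (Y ↘ Spec (CommRingCat.of A)).fiber t)
    (hv : (Y ↘ Spec (CommRingCat.of A)).fiberι t v ∉ QGorBCLib.gorOpen A Y) :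
    (2 : WithBot ℕ∞) ≤ ringKrullDim (((Y ↘ Spec (CommRingCat.of A)).fiber t).presheaf.stalk v) :=
  (hG _ (((Y ↘ Spec (CommRingCat.of A)).range_fiberι t).le ⟨v, rfl⟩) hv).trans_eq
    (AlgSpLib.stalkDim_fiber_congr _ t v _ rfl).symm

include hS hGt in
/-- The structure sheaf of the fibre extends across the non-Gorenstein points. -/
theorem extends_structureModule_fibre :
    QGorSecLib.Extends ((Y ↘ Spec (CommRingCat.of A)).fiberι t ⁻¹ᵁ QGorBCLib.gorOpen A Y)
      (Coh.structureModule ((Y ↘ Spec (CommRingCat.of A)).fiber t)) := fun V => by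
  let f := Y ↘ Spec (CommRingCat.of A)
  haveI : IsNoetherianRing (CommRingCat.of A) := ‹IsNoetherianRing A›
  haveI : IsLocallyNoetherian (f.fiber t) :=
    haveI := UOpenLib.lft_fiberToSpec f t
    LocallyOfFiniteType.isLocallyNoetherian (f.fiberToSpecResidueField t)
  refine (LocSuppLib.depth_two_iff_bijective _ (DevissLib.isCoh_structureModule _)).1 (fun v hv => ?_) V
  exact le_depth_of_skAt (DevissLib.isCoh_structureModule _) IntMultLib.support_structureModule' specializes_rfl
    (skAt_fibre hS t v) (hGt v hv)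

include hd hω hωt in
/-- The reflexive powers on the Gorenstein locus of the fibre. -/
theorem nonempty_refPowZ_restrict_fibre (m : ℤ) :
    Nonempty (((Scheme.Modules.pullback ((Y ↘ Spec (CommRingCat.of A)).fiberι t)).obj
        (RelCanon.refPowZ ω m)).restrict ((Y ↘ Spec (CommRingCat.of A)).fiberι t ⁻¹ᵁ QGorBCLib.gorOpen A Y).ι ≅
      (RelCanon.refPowZ ωt m).restrict ((Y ↘ Spec (CommRingCat.of A)).fiberι t ⁻¹ᵁ QGorBCLib.gorOpen A Y).ι) := by
  let f := Y ↘ Spec (CommRingCat.of A)
  letI : (f.fiber t).Over (Spec (CommRingCat.of ((Spec (CommRingCat.of A)).residueField t))) :=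
    ⟨f.fiberToSpecResidueField t⟩
  haveI : IsNoetherianRing (CommRingCat.of A) := ‹IsNoetherianRing A›
  haveI : IsLocallyNoetherian Y := LocallyOfFiniteType.isLocallyNoetherian f
  haveI : IsLocallyNoetherian (f.fiber t) :=
    haveI := UOpenLib.lft_fiberToSpec f t
    LocallyOfFiniteType.isLocallyNoetherian (f.fiberToSpecResidueField t)
  obtain ⟨φ, hφ⟩ := Spec.map_surjective ((Spec (CommRingCat.of A)).fromSpecResidueField t)
  have sq : IsPullback (f.fiberι t) (f.fiber t ↘ Spec (CommRingCat.of ((Spec (CommRingCat.of A)).residueField t))) f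
      (Spec.map φ) := hφ.symm ▸ IsPullback.of_hasPullback f ((Spec (CommRingCat.of A)).fromSpecResidueField t)
  haveI : IsProper (f.fiber t ↘ Spec (CommRingCat.of ((Spec (CommRingCat.of A)).residueField t))) :=
    MorphismProperty.of_isPullback (P := @IsProper) sq inferInstance
  let ι := f.fiberι t
  let G := QGorBCLib.gorOpen A Y
  have hcω := QGorSecLib.isCoh_dualizing hd hω
  have hct := QGorSecLib.isCoh_dualizing (FibDimLib.hasRelDim_baseChange sq hd) hωt
  obtain ⟨e⟩ := QGorBCLib.nonempty_restrict_iso hd hω sq hωt G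
    fun y hy => ⟨hy.1, CMFlatLib.cm_of_gorenstein hy.2⟩
  exact QGorBCLib.nonempty_refPowZ_pullback_restrict ι hcω hct (QGorBCLib.isInvertible_gorOpen hd hω) e m

include hd hω hωt in
/-- The reflexive powers of the fibre are invertible on the Gorenstein locus. -/
theorem invertibleAt_refPowZ_gor (m : ℤ) (v : (Y ↘ Spec (CommRingCat.of A)).fiber t)
    (hv : (Y ↘ Spec (CommRingCat.of A)).fiberι t v ∈ QGorBCLib.gorOpen A Y) :
    RelCanon.InvertibleAt (RelCanon.refPowZ ωt m) v := by
  let f := Y ↘ Spec (CommRingCat.of A)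
  letI : (f.fiber t).Over (Spec (CommRingCat.of ((Spec (CommRingCat.of A)).residueField t))) :=
    ⟨f.fiberToSpecResidueField t⟩
  haveI : IsNoetherianRing (CommRingCat.of A) := ‹IsNoetherianRing A›
  haveI : IsLocallyNoetherian Y := LocallyOfFiniteType.isLocallyNoetherian f
  haveI : IsLocallyNoetherian (f.fiber t) :=
    haveI := UOpenLib.lft_fiberToSpec f t
    LocallyOfFiniteType.isLocallyNoetherian (f.fiberToSpecResidueField t)
  obtain ⟨φ, hφ⟩ := Spec.map_surjective ((Spec (CommRingCat.of A)).fromSpecResidueField t)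
  have sq : IsPullback (f.fiberι t) (f.fiber t ↘ Spec (CommRingCat.of ((Spec (CommRingCat.of A)).residueField t))) f
      (Spec.map φ) := hφ.symm ▸ IsPullback.of_hasPullback f ((Spec (CommRingCat.of A)).fromSpecResidueField t)
  haveI : IsProper (f.fiber t ↘ Spec (CommRingCat.of ((Spec (CommRingCat.of A)).residueField t))) :=
    MorphismProperty.of_isPullback (P := @IsProper) sq inferInstance
  let ι := f.fiberι t
  let G := QGorBCLib.gorOpen A Y
  have hcω := QGorSecLib.isCoh_dualizing hd hω
  have hct := QGorSecLib.isCoh_dualizing (FibDimLib.hasRelDim_baseChange sq hd) hωt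
  obtain ⟨e⟩ := nonempty_refPowZ_restrict_fibre hd hω t hωt m
  refine QGorBCLib.invertibleAt_of_isInvertible_restrict (U := ι ⁻¹ᵁ G) ?_ v hv
  exact HilbPolyLib.isInvertible_of_iso (QGorBCLib.restrictPullIso ι _ _ ≪≫ e)
    (AmpleDevLib.isInvertible_pb (ι ∣_ G)
      (QGorBCLib.isInvertible_refPowZ_restrict hcω (QGorBCLib.isInvertible_gorOpen hd hω) m))

include hS hGt in
/-- The reflexive powers of the fibre extend across the non-Gorenstein points. -/
theorem extends_refPowZ_fibre (m : ℤ) :
    QGorSecLib.Extends ((Y ↘ Spec (CommRingCat.of A)).fiberι t ⁻¹ᵁ QGorBCLib.gorOpen A Y)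
      (RelCanon.refPowZ ωt m) := by
  cases m with
  | ofNat n => exact QGorSecLib.extends_homSh _ (extends_structureModule_fibre hS t hGt)
  | negSucc n => exact QGorSecLib.extends_homSh _ (extends_structureModule_fibre hS t hGt)

include hd hω hGt hωt in
/-- A reflexive power of the canonical sheaf of the fibre is supported everywhere. -/
theorem support_refPowZ_fibre (m : ℤ) : CohB1.support (RelCanon.refPowZ ωt m) = Set.univ := by
  let f := Y ↘ Spec (CommRingCat.of A)
  letI : (f.fiber t).Over (Spec (CommRingCat.of ((Spec (CommRingCat.of A)).residueField t))) :=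
    ⟨f.fiberToSpecResidueField t⟩
  haveI : IsNoetherianRing (CommRingCat.of A) := ‹IsNoetherianRing A›
  haveI : IsLocallyNoetherian Y := LocallyOfFiniteType.isLocallyNoetherian f
  haveI : IsLocallyNoetherian (f.fiber t) :=
    haveI := UOpenLib.lft_fiberToSpec f t
    LocallyOfFiniteType.isLocallyNoetherian (f.fiberToSpecResidueField t)
  obtain ⟨φ, hφ⟩ := Spec.map_surjective ((Spec (CommRingCat.of A)).fromSpecResidueField t)
  have sq : IsPullback (f.fiberι t) (f.fiber t ↘ Spec (CommRingCat.of ((Spec (CommRingCat.of A)).residueField t))) f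
      (Spec.map φ) := hφ.symm ▸ IsPullback.of_hasPullback f ((Spec (CommRingCat.of A)).fromSpecResidueField t)
  haveI : IsProper (f.fiber t ↘ Spec (CommRingCat.of ((Spec (CommRingCat.of A)).residueField t))) :=
    MorphismProperty.of_isPullback (P := @IsProper) sq inferInstance
  let ι := f.fiberι t
  let G := QGorBCLib.gorOpen A Y
  have hcω := QGorSecLib.isCoh_dualizing hd hω
  have hct := QGorSecLib.isCoh_dualizing (FibDimLib.hasRelDim_baseChange sq hd) hωt
  have hcm := QGorBCLib.isCoh_refPowZ hct m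
  haveI := hcm.1
  refine Set.eq_univ_of_forall fun v => ?_
  obtain ⟨ξ, hξv, hmax⟩ := AlgSpLib.exists_maximal_generization v
  refine hξv.mem_closed (QCohLib.isClosed_support _ hcm.2) (QGorBCLib.mem_support_of_invertibleAt
    (invertibleAt_refPowZ_gor hd hω t hωt m ξ ?_))
  by_contra hn
  have h := hGt ξ hn
  rw [AlgSpLib.stalkDim_eq_zero_of_maximal ξ hmax] at h
  exact absurd h (by decide)

include hd hω hS hGt hωt in
/-- The reflexive powers of the canonical sheaf of the fibre satisfy `S₂`. -/
theorem skAt_refPowZ_fibre (m : ℤ) (w : (Y ↘ Spec (CommRingCat.of A)).fiber t) :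
    RelCanon.SkAt 2 (RelCanon.refPowZ ωt m) w := by
  let f := Y ↘ Spec (CommRingCat.of A)
  letI : (f.fiber t).Over (Spec (CommRingCat.of ((Spec (CommRingCat.of A)).residueField t))) :=
    ⟨f.fiberToSpecResidueField t⟩
  haveI : IsNoetherianRing (CommRingCat.of A) := ‹IsNoetherianRing A›
  haveI : IsLocallyNoetherian Y := LocallyOfFiniteType.isLocallyNoetherian f
  haveI : IsLocallyNoetherian (f.fiber t) :=
    haveI := UOpenLib.lft_fiberToSpec f t
    LocallyOfFiniteType.isLocallyNoetherian (f.fiberToSpecResidueField t)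
  obtain ⟨φ, hφ⟩ := Spec.map_surjective ((Spec (CommRingCat.of A)).fromSpecResidueField t)
  have sq : IsPullback (f.fiberι t) (f.fiber t ↘ Spec (CommRingCat.of ((Spec (CommRingCat.of A)).residueField t))) f
      (Spec.map φ) := hφ.symm ▸ IsPullback.of_hasPullback f ((Spec (CommRingCat.of A)).fromSpecResidueField t)
  haveI : IsProper (f.fiber t ↘ Spec (CommRingCat.of ((Spec (CommRingCat.of A)).residueField t))) :=
    MorphismProperty.of_isPullback (P := @IsProper) sq inferInstance
  let ι := f.fiberι t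
  let G := QGorBCLib.gorOpen A Y
  have hcω := QGorSecLib.isCoh_dualizing hd hω
  have hct := QGorSecLib.isCoh_dualizing (FibDimLib.hasRelDim_baseChange sq hd) hωt
  have hcm := QGorBCLib.isCoh_refPowZ hct m
  haveI := hcm.1
  let i : (Scheme.Modules.pullback (𝟙 (f.fiber t))).obj (RelCanon.refPowZ ωt m) ≅ RelCanon.refPowZ ωt m :=
    (Scheme.Modules.pullbackId _).app _
  refine DepthLib.hasSk_congr (stalkEquiv i w) 2
    ((DepthLib.hasSk_pullback_stalk_iff (𝟙 (f.fiber t)) _ hcm.2 w 2).2 fun v _ => ?_)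
  rw [Module.supportDim_eq_of_equiv (stalkEquiv i v), CommAlgDim.depth_congr (stalkEquiv i v),
    supportDim_stalk_eq hcm (support_refPowZ_fibre hd hω t hGt hωt m) v]
  by_cases hv : ι v ∈ G
  · obtain ⟨e⟩ := QGorBCLib.nonempty_stalk_equiv (invertibleAt_refPowZ_gor hd hω t hωt m v hv)
    obtain ⟨e₀⟩ := RefHullLib.nonempty_stalk_unit (f.fiber t) v
    rw [CommAlgDim.depth_congr e]
    exact (DepthLib.hasSk_stalk_iff v 2).1 (DepthLib.hasSk_congr e₀.symm 2 (skAt_fibre hS t v)) v specializes_rfl
  · refine le_trans (min_le_left _ _) ?_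
    exact WithBot.coe_le_coe.2 ((LocSuppLib.depth_two_iff_bijective (ι ⁻¹ᵁ G) hcm).2 (extends_refPowZ_fibre hS t hGt m) v hv)

include hd hω hS hGt hωt in
/-- The reflexive power of the relative canonical sheaf is a dual whose restriction to the fibre has the reflexive
power of the fibre as dual. -/
theorem exists_dual_presentation (m : ℤ) :
    ∃ T : Y.Modules, Coh.IsCoh T ∧ PicF.IsInvertible (T.restrict (QGorBCLib.gorOpen A Y).ι) ∧
      RelCanon.refPowZ ω m = RefHull.dual T ∧
      Nonempty (RefHull.dual ((Scheme.Modules.pullback ((Y ↘ Spec (CommRingCat.of A)).fiberι t)).obj T) ≅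
        RelCanon.refPowZ ωt m) := by
  let f := Y ↘ Spec (CommRingCat.of A)
  letI : (f.fiber t).Over (Spec (CommRingCat.of ((Spec (CommRingCat.of A)).residueField t))) :=
    ⟨f.fiberToSpecResidueField t⟩
  haveI : IsNoetherianRing (CommRingCat.of A) := ‹IsNoetherianRing A›
  haveI : IsLocallyNoetherian Y := LocallyOfFiniteType.isLocallyNoetherian f
  haveI : IsLocallyNoetherian (f.fiber t) :=
    haveI := UOpenLib.lft_fiberToSpec f t
    LocallyOfFiniteType.isLocallyNoetherian (f.fiberToSpecResidueField t)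
  obtain ⟨φ, hφ⟩ := Spec.map_surjective ((Spec (CommRingCat.of A)).fromSpecResidueField t)
  have sq : IsPullback (f.fiberι t) (f.fiber t ↘ Spec (CommRingCat.of ((Spec (CommRingCat.of A)).residueField t))) f
      (Spec.map φ) := hφ.symm ▸ IsPullback.of_hasPullback f ((Spec (CommRingCat.of A)).fromSpecResidueField t)
  haveI : IsProper (f.fiber t ↘ Spec (CommRingCat.of ((Spec (CommRingCat.of A)).residueField t))) :=
    MorphismProperty.of_isPullback (P := @IsProper) sq inferInstance
  let ι := f.fiberι t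
  let G := QGorBCLib.gorOpen A Y
  have hcω := QGorSecLib.isCoh_dualizing hd hω
  have hct := QGorSecLib.isCoh_dualizing (FibDimLib.hasRelDim_baseChange sq hd) hωt
  obtain ⟨T, hT, hTG, hTm⟩ := exists_refPowZ_eq_dual hcω (QGorBCLib.isInvertible_gorOpen hd hω) m
  refine ⟨T, hT, hTG, hTm, ?_⟩
  let Tt := (Scheme.Modules.pullback ι).obj T
  obtain ⟨er⟩ := nonempty_refPowZ_restrict_fibre hd hω t hωt m
  have hTtG : PicF.IsInvertible (Tt.restrict (ι ⁻¹ᵁ G).ι) :=
    HilbPolyLib.isInvertible_of_iso (QGorBCLib.restrictPullIso ι G T) (AmpleDevLib.isInvertible_pb (ι ∣_ G) hTG)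
  have h1 : cl ((RefHull.dual Tt).restrict (ι ⁻¹ᵁ G).ι) * pull (ι ∣_ G) (cl (T.restrict G.ι)) = 1 := by
    rw [← QGorBCLib.cl_pullback_restrict]; exact QGorBCLib.cl_dual_mul hTtG
  have h2 : pull (ι ∣_ G) (cl (T.restrict G.ι)) * pull (ι ∣_ G) (cl ((RefHull.dual T).restrict G.ι)) = 1 := by
    rw [← map_mul, mul_comm, QGorBCLib.cl_dual_mul hTG, map_one]
  obtain ⟨e₁⟩ := cl_eq_iff.1 ((left_inv_eq_right_inv h1 h2).trans
    ((congrArg (fun M => pull (ι ∣_ G) (cl (M.restrict G.ι))) hTm.symm).trans
      ((QGorBCLib.cl_pullback_restrict ι G _).symm.trans (cl_eq_iff.2 ⟨er⟩))))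
  let e := QGorBCLib.isoOfExtends _
    (QGorSecLib.extends_homSh _ (extends_structureModule_fibre hS t hGt) (F := Tt))
    (extends_refPowZ_fibre hS t hGt m) e₁
  exact ⟨e⟩

include hd hω hS hGt hωt in
/-- Along a fibre whose reflexive power has depth three outside the Gorenstein locus, the reflexive power of the
relative canonical sheaf is flat and restricts to that of the fibre. -/
theorem flat_refPowZ_and_fibre (m : ℤ) (w : (Y ↘ Spec (CommRingCat.of A)).fiber t)
    (hloc : ∀ v, v ⤳ w → (Y ↘ Spec (CommRingCat.of A)).fiberι t v ∉ QGorBCLib.gorOpen A Y →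
      (3 : ℕ∞) ≤ LocCoh.depth (((Y ↘ Spec (CommRingCat.of A)).fiber t).presheaf.stalk v)
        ((RelCanon.refPowZ ωt m).presheaf.stalk v)) :
    FlatMod.IsFlatOverAt (Y ↘ Spec (CommRingCat.of A)) (RelCanon.refPowZ ω m)
        ((Y ↘ Spec (CommRingCat.of A)).fiberι t w) ∧
      Nonempty (((Scheme.Modules.pullback ((Y ↘ Spec (CommRingCat.of A)).fiberι t)).obj
          (RelCanon.refPowZ ω m)).presheaf.stalk w ≃ₗ[((Y ↘ Spec (CommRingCat.of A)).fiber t).presheaf.stalk w]
        (RelCanon.refPowZ ωt m).presheaf.stalk w) := by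
  let f := Y ↘ Spec (CommRingCat.of A)
  letI : (f.fiber t).Over (Spec (CommRingCat.of ((Spec (CommRingCat.of A)).residueField t))) :=
    ⟨f.fiberToSpecResidueField t⟩
  haveI : IsNoetherianRing (CommRingCat.of A) := ‹IsNoetherianRing A›
  haveI : IsLocallyNoetherian Y := LocallyOfFiniteType.isLocallyNoetherian f
  haveI : IsLocallyNoetherian (f.fiber t) :=
    haveI := UOpenLib.lft_fiberToSpec f t
    LocallyOfFiniteType.isLocallyNoetherian (f.fiberToSpecResidueField t)
  obtain ⟨φ, hφ⟩ := Spec.map_surjective ((Spec (CommRingCat.of A)).fromSpecResidueField t)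
  have sq : IsPullback (f.fiberι t) (f.fiber t ↘ Spec (CommRingCat.of ((Spec (CommRingCat.of A)).residueField t))) f
      (Spec.map φ) := hφ.symm ▸ IsPullback.of_hasPullback f ((Spec (CommRingCat.of A)).fromSpecResidueField t)
  haveI : IsProper (f.fiber t ↘ Spec (CommRingCat.of ((Spec (CommRingCat.of A)).residueField t))) :=
    MorphismProperty.of_isPullback (P := @IsProper) sq inferInstance
  let ι := f.fiberι t
  let G := QGorBCLib.gorOpen A Y
  have hcω := QGorSecLib.isCoh_dualizing hd hω
  have hct := QGorSecLib.isCoh_dualizing (FibDimLib.hasRelDim_baseChange sq hd) hωt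
  obtain ⟨T, hT, hTG, hTm, ⟨e⟩⟩ := exists_dual_presentation hd hω hS t hGt hωt m
  obtain ⟨hflat, ⟨es⟩⟩ := flat_dual_and_fibre f hT t w fun v hv => by
    by_cases hvG : ι v ∈ G
    · exact Or.inl (QGorBCLib.invertibleAt_of_isInvertible_restrict hTG _ hvG)
    · refine Or.inr ⟨?_, ?_⟩
      · exact_mod_cast le_depth_self_of_skAt specializes_rfl (skAt_fibre hS t v)
          (by exact_mod_cast hGt v hvG)
      · rw [CommAlgDim.depth_congr (stalkEquiv e v)]
        exact hloc v hv hvG
  rw [hTm]
  exact ⟨hflat, ⟨es.trans (stalkEquiv e w)⟩⟩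


include hd hω hS hGt hωt in
/-- Along a fibre to which some extension of the tensor power restricts as the reflexive power, the reflexive power
of the relative canonical sheaf is flat and restricts to that of the fibre. -/
theorem flat_refPowZ_and_fibre_of_hom (m : ℤ) {M N : Y.Modules} (hM : Coh.IsCoh M) [Coh.IsQCoh N] (u : M ⟶ N)
    (c : RelCanon.refPowZ ω m ⟶ N)
    (hu : ∀ z ∈ QGorBCLib.gorOpen A Y, Function.Surjective (RefHull.stalkMapₗ u z))
    (w : (Y ↘ Spec (CommRingCat.of A)).fiber t)
    (hc : Function.Bijective (RefHull.stalkMapₗ c ((Y ↘ Spec (CommRingCat.of A)).fiberι t w)))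
    (e : ((Scheme.Modules.pullback ((Y ↘ Spec (CommRingCat.of A)).fiberι t)).obj M).presheaf.stalk w
        ≃ₗ[((Y ↘ Spec (CommRingCat.of A)).fiber t).presheaf.stalk w] (RelCanon.refPowZ ωt m).presheaf.stalk w) :
    FlatMod.IsFlatOverAt (Y ↘ Spec (CommRingCat.of A)) (RelCanon.refPowZ ω m)
        ((Y ↘ Spec (CommRingCat.of A)).fiberι t w) ∧
      Nonempty (((Scheme.Modules.pullback ((Y ↘ Spec (CommRingCat.of A)).fiberι t)).obj
          (RelCanon.refPowZ ω m)).presheaf.stalk w ≃ₗ[((Y ↘ Spec (CommRingCat.of A)).fiber t).presheaf.stalk w]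
        (RelCanon.refPowZ ωt m).presheaf.stalk w) := by
  let f := Y ↘ Spec (CommRingCat.of A)
  letI : (f.fiber t).Over (Spec (CommRingCat.of ((Spec (CommRingCat.of A)).residueField t))) :=
    ⟨f.fiberToSpecResidueField t⟩
  haveI : IsNoetherianRing (CommRingCat.of A) := ‹IsNoetherianRing A›
  haveI : IsLocallyNoetherian Y := LocallyOfFiniteType.isLocallyNoetherian f
  haveI : IsLocallyNoetherian (f.fiber t) :=
    haveI := UOpenLib.lft_fiberToSpec f t
    LocallyOfFiniteType.isLocallyNoetherian (f.fiberToSpecResidueField t)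
  obtain ⟨φ, hφ⟩ := Spec.map_surjective ((Spec (CommRingCat.of A)).fromSpecResidueField t)
  have sq : IsPullback (f.fiberι t) (f.fiber t ↘ Spec (CommRingCat.of ((Spec (CommRingCat.of A)).residueField t))) f
      (Spec.map φ) := hφ.symm ▸ IsPullback.of_hasPullback f ((Spec (CommRingCat.of A)).fromSpecResidueField t)
  haveI : IsProper (f.fiber t ↘ Spec (CommRingCat.of ((Spec (CommRingCat.of A)).residueField t))) :=
    MorphismProperty.of_isPullback (P := @IsProper) sq inferInstance
  let ι := f.fiberι t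
  let G := QGorBCLib.gorOpen A Y
  have hcω := QGorSecLib.isCoh_dualizing hd hω
  have hct := QGorSecLib.isCoh_dualizing (FibDimLib.hasRelDim_baseChange sq hd) hωt
  obtain ⟨T, hT, hTG, hTm, ⟨et⟩⟩ := exists_dual_presentation hd hω hS t hGt hωt m
  revert c hc
  rw [hTm]
  intro c hc
  obtain ⟨hflat, ⟨es⟩⟩ := flat_dual_and_fibre_of_hom f hT hM u c t w hc (e.trans (stalkEquiv et w).symm) fun v _ => by
    by_cases hvG : ι v ∈ G
    · exact Or.inl ⟨QGorBCLib.invertibleAt_of_isInvertible_restrict hTG _ hvG, hu _ hvG⟩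
    · refine Or.inr ?_
      rw [CommAlgDim.depth_congr (stalkEquiv et v)]
      exact (LocSuppLib.depth_two_iff_bijective (ι ⁻¹ᵁ G) (QGorBCLib.isCoh_refPowZ hct m)).2
        (extends_refPowZ_fibre hS t hGt m) v hvG
  exact ⟨hflat, ⟨es.trans (stalkEquiv et w)⟩⟩

end QGorLiftLib
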