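import Groth.Agent.QGorLiftLib.Main
import Groth.Agent.QGorNhdLib.Main
import Groth.Agent.RhoBigLib.DetHull
import Groth.Agent.QCohLib.Push
import Groth.Agent.CohGenLib.Localization

/-!
# Extension near a fibre
-/

set_option autoImplicit false
set_option linter.style.haveILetI false
set_option linter.unusedSectionVars false
set_option backward.isDefEq.respectTransparency false
set_option backward.isDefEq.respectTransparency.types false
set_option maxHeartbeats 1000000
set_option synthInstance.maxHeartbeats 200000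

noncomputable section

universe u

open CategoryTheory CategoryTheory.Limits AlgebraicGeometry TopologicalSpace
open Groth.Agent

attribute [local instance] HasDerivedCategory.standard

namespace QGorLiftLib

/-- The unit of restriction is bijective on stalks over an open on which restriction is bijective on sections. -/
theorem bijective_stalk_unit {X : Scheme.{u}} [IsLocallyNoetherian X] (U : X.Opens) {M : X.Modules} (hM : Coh.IsCoh M)
    (W : X.Opens) (h : ∀ x ∈ W, x ∉ U → (2 : ℕ∞) ≤ LocCoh.depth (X.presheaf.stalk x) (M.presheaf.stalk x))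
    (x : X) (hx : x ∈ W) :
    Function.Bijective (RefHull.stalkMapₗ ((Scheme.Modules.restrictAdjunction U.ι).unit.app M) x) := by
  refine QGorEndLib.bijective_stalk_of_affine _ W (fun V hV hVW => ?_) x hx
  have hb := QGorIdxLib.bijective_res_of_depth U hM hV fun x hx' => h x (hVW hx')
  have himg : U.ι ''ᵁ U.ι ⁻¹ᵁ V = U ⊓ V := by
    rw [Scheme.Hom.image_preimage_eq_opensRange_inf, Scheme.Opens.opensRange_ι]
  haveI : IsIso (homOfLE himg.le) :=
    ⟨homOfLE himg.ge, Subsingleton.elim _ _, Subsingleton.elim _ _⟩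
  rw [Scheme.Modules.restrictAdjunction_unit_app_app,
    show (homOfLE (U.ι.image_preimage_le V)).op =
      (homOfLE (inf_le_right : U ⊓ V ≤ V)).op ≫ (homOfLE himg.le).op from Subsingleton.elim _ _,
    Functor.map_comp]
  exact (ConcreteCategory.bijective_of_isIso (M.presheaf.map (homOfLE himg.le).op)).comp hb

/-- A map into the extension of a module which is an isomorphism on the open. -/
theorem exists_hom_extension {X : Scheme.{u}} [IsLocallyNoetherian X] (U : X.Opens) {M P : X.Modules}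
    (hM : Coh.IsCoh M) (e : M.restrict U.ι ≅ P.restrict U.ι) :
    ∃ u : M ⟶ (Scheme.Modules.pushforward U.ι).obj (P.restrict U.ι),
      ∀ z ∈ U, Function.Surjective (RefHull.stalkMapₗ u z) := by
  let adj := Scheme.Modules.restrictAdjunction U.ι
  refine ⟨adj.unit.app M ≫ (Scheme.Modules.pushforward U.ι).map e.hom, fun z hz => ?_⟩
  intro y
  haveI : IsIso ((Scheme.Modules.pushforward U.ι).map e.hom) := inferInstance
  let j := stalkEquiv (asIso ((Scheme.Modules.pushforward U.ι).map e.hom)) z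
  obtain ⟨m, hm⟩ := (bijective_stalk_unit U hM U (fun x hx hx' => absurd hx hx') z hz).2 (j.symm y)
  refine ⟨m, ?_⟩
  rw [← j.apply_symm_apply y, ← hm]
  obtain ⟨V, hV, t, rfl⟩ := TopCat.Presheaf.exists_germ_eq M.presheaf (x := z) m
  show RefHull.stalkMapₗ _ z _ = RefHull.stalkMapₗ ((Scheme.Modules.pushforward U.ι).map e.hom) z
    (RefHull.stalkMapₗ (adj.unit.app M) z _)
  erw [RefHull.stalkMapₗ_germ, RefHull.stalkMapₗ_germ, RefHull.stalkMapₗ_germ]
  rfl

variable {A : Type u} [CommRing A] [IsNoetherianRing A] {Y : Scheme.{u}} [Y.Over (Spec (CommRingCat.of A))]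
  [IsProper (Y ↘ Spec (CommRingCat.of A))] [Flat (Y ↘ Spec (CommRingCat.of A))]
  (hS : RelCanon.IsSkMor (Y ↘ Spec (CommRingCat.of A)) 2)
  (t : Spec (CommRingCat.of A))
  (hGt : ∀ v : (Y ↘ Spec (CommRingCat.of A)).fiber t,
    (Y ↘ Spec (CommRingCat.of A)).fiberι t v ∉ QGorBCLib.gorOpen A Y →
      (2 : WithBot ℕ∞) ≤ ringKrullDim (((Y ↘ Spec (CommRingCat.of A)).fiber t).presheaf.stalk v))

include hS hGt in
/-- Near the fibre the structure sheaf has depth two outside the Gorenstein locus, and the fibres dimension two. -/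
theorem exists_open_near_fibre :
    ∃ W : Y.Opens, (∀ y, (Y ↘ Spec (CommRingCat.of A)) y = t → y ∈ W) ∧
      ∀ x ∈ W, x ∉ QGorBCLib.gorOpen A Y →
        (2 : WithBot ℕ∞) ≤ ringKrullDim (((Y ↘ Spec (CommRingCat.of A)).fiber
            ((Y ↘ Spec (CommRingCat.of A)) x)).presheaf.stalk ((Y ↘ Spec (CommRingCat.of A)).asFiber x)) ∧
        (2 : ℕ∞) ≤ LocCoh.depth (Y.presheaf.stalk x) (Y.presheaf.stalk x) := by
  let f := Y ↘ Spec (CommRingCat.of A)
  haveI : IsNoetherianRing (CommRingCat.of A) := ‹IsNoetherianRing A›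
  haveI : IsLocallyNoetherian Y := LocallyOfFiniteType.isLocallyNoetherian f
  let G := QGorBCLib.gorOpen A Y
  let O : Set Y := {y | f y = t ∧ y ∉ G}
  have hex : ∀ y : O, ∃ U : Y.Opens, y.1 ∈ U ∧ RelCanon.IsSkMor (U.ι ≫ f) 2 ∧
      (∃ e : ℕ, Cyc.HasRelDim (U.ι ≫ f) e) ∧
      ∀ z : Y, z ∈ U → z ∉ G → (2 : WithBot ℕ∞) ≤ ringKrullDim ((f.fiber (f z)).presheaf.stalk (f.asFiber z)) :=
    fun y => QGorNhdLib.exists_nhd f le_rfl y.1 (hS.2.2 y.1) G y.2.2 fun z hz hzG _ => by
      obtain ⟨v, hv⟩ : z ∈ Set.range (f.fiberι t) := by rw [f.range_fiberι]; exact hz.trans y.2.1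
      exact (hGt v (by rw [hv]; exact hzG)).trans_eq (AlgSpLib.stalkDim_fiber_congr f t v z hv)
  choose U hU hUs hUd hUc using hex
  refine ⟨G ⊔ ⨆ y : O, U y, fun y hy => ?_, fun x hx hxG => ?_⟩
  · by_cases hyG : y ∈ G
    · exact Or.inl hyG
    · exact Or.inr (Opens.mem_iSup.2 ⟨⟨y, hy, hyG⟩, hU _⟩)
  · obtain ⟨y, hy⟩ := Opens.mem_iSup.1 (hx.resolve_left hxG)
    have h2 := hUc y x hy hxG
    refine ⟨h2, ?_⟩
    obtain ⟨e⟩ := RefHullLib.nonempty_stalk_unit Y x
    rw [CommAlgDim.depth_congr e]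
    refine QGorBCLib.two_le_depth_stalk f _ (DevissLib.isCoh_structureModule Y) x
      ((DepthLib.isFlatOverAt_structureModule_iff f x).2 (Flat.stalkMap f x)) ?_
    obtain ⟨e'⟩ := DepthLib.nonempty_pullback_unit_stalk (f.fiberι (f x)) (f.asFiber x)
    rw [CommAlgDim.depth_congr e']
    haveI : IsLocallyNoetherian (f.fiber (f x)) :=
      haveI := UOpenLib.lft_fiberToSpec f (f x)
      LocallyOfFiniteType.isLocallyNoetherian (f.fiberToSpecResidueField (f x))
    exact le_depth_self_of_skAt specializes_rfl (hS.2.2 x) h2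

variable {d : ℕ} (hd : Cyc.HasRelDim (Y ↘ Spec (CommRingCat.of A)) d) {ω : Y.Modules}
  (hω : RelCanon.IsDualizingSheaf A Y d ω)
  {ωt : ((Y ↘ Spec (CommRingCat.of A)).fiber t).Modules}
  (hωt : @RelCanon.IsDualizingSheaf ((Spec (CommRingCat.of A)).residueField t) _
    ((Y ↘ Spec (CommRingCat.of A)).fiber t) ⟨(Y ↘ Spec (CommRingCat.of A)).fiberToSpecResidueField t⟩ d ωt)

include hS hGt hd hω hωt in
/-- An extension of the fibre's reflexive power makes the relative reflexive power flat along the fibre. -/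
theorem flat_refPowZ_and_fibre_of_extension (m : ℤ) {M : Y.Modules} (hM : Coh.IsCoh M)
    (e : M.restrict (QGorBCLib.gorOpen A Y).ι ≅ (RelCanon.refPowZ ω m).restrict (QGorBCLib.gorOpen A Y).ι)
    (w : (Y ↘ Spec (CommRingCat.of A)).fiber t)
    (em : ((Scheme.Modules.pullback ((Y ↘ Spec (CommRingCat.of A)).fiberι t)).obj M).presheaf.stalk w
        ≃ₗ[((Y ↘ Spec (CommRingCat.of A)).fiber t).presheaf.stalk w] (RelCanon.refPowZ ωt m).presheaf.stalk w) :
    FlatMod.IsFlatOverAt (Y ↘ Spec (CommRingCat.of A)) (RelCanon.refPowZ ω m)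
        ((Y ↘ Spec (CommRingCat.of A)).fiberι t w) ∧
      Nonempty (((Scheme.Modules.pullback ((Y ↘ Spec (CommRingCat.of A)).fiberι t)).obj
          (RelCanon.refPowZ ω m)).presheaf.stalk w ≃ₗ[((Y ↘ Spec (CommRingCat.of A)).fiber t).presheaf.stalk w]
        (RelCanon.refPowZ ωt m).presheaf.stalk w) := by
  let f := Y ↘ Spec (CommRingCat.of A)
  haveI : IsNoetherianRing (CommRingCat.of A) := ‹IsNoetherianRing A›
  haveI : IsLocallyNoetherian Y := LocallyOfFiniteType.isLocallyNoetherian f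
  haveI : CompactSpace Y := QuasiCompact.compactSpace_of_compactSpace f
  haveI : IsNoetherian Y := ⟨⟩
  let G := QGorBCLib.gorOpen A Y
  have hcω := QGorSecLib.isCoh_dualizing hd hω
  have hP := QGorBCLib.isCoh_refPowZ hcω m
  obtain ⟨W, hW, hW2⟩ := exists_open_near_fibre hS t hGt
  obtain ⟨u, hu⟩ := exists_hom_extension G hM e
  haveI := (CohGenLib.isCoh_restrict (j := G.ι) hP).1
  haveI : Coh.IsQCoh ((Scheme.Modules.pushforward G.ι).obj ((RelCanon.refPowZ ω m).restrict G.ι)) :=
    QCohLib.isQCoh_pushforward G.ι _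
  refine flat_refPowZ_and_fibre_of_hom hd hω hS t hGt hωt m hM u
    ((Scheme.Modules.restrictAdjunction G.ι).unit.app (RelCanon.refPowZ ω m)) hu w ?_ em
  refine bijective_stalk_unit G hP W (fun x hxW hxG => ?_) _ (hW _ ((f.range_fiberι t).le ⟨w, rfl⟩))
  cases m with
  | ofNat n =>
    exact RhoBigLib.two_le_depth_dual (RefHullLib.isCoh_dual (QGorBCLib.isCoh_tensorPow hcω n)) x (hW2 x hxW hxG).2
  | negSucc n =>
    exact RhoBigLib.two_le_depth_dual (RefHullLib.isCoh_dual
      (QGorBCLib.isCoh_tensorPow (RefHullLib.isCoh_dual hcω) (n + 1))) x (hW2 x hxW hxG).2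

end QGorLiftLib
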