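import Groth.Agent.QGorLiftLib.RootMain

/-!
# The naive conditions near a point
-/

set_option autoImplicit false
set_option linter.style.haveILetI false
set_option linter.unusedSectionVars false
set_option backward.isDefEq.respectTransparency false
set_option backward.isDefEq.respectTransparency.types false
set_option maxHeartbeats 1000000
set_option synthInstance.maxHeartbeats 200000

noncomputable section

universe u

open CategoryTheory CategoryTheory.Limits AlgebraicGeometry TopologicalSpace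
open Groth.Agent
open CubeConsLib (IsoCls cl cl_eq_iff pull pull_cl)

attribute [local instance] HasDerivedCategory.standard

namespace QGorLiftLib

/-- A map bijective on stalks over an open preserves invertibility there. -/
theorem invertibleAt_iff_of_hom {X : Scheme.{u}} {M N : X.Modules} (φ : M ⟶ N) (W : X.Opens)
    (h : ∀ x ∈ W, Function.Bijective (RefHull.stalkMapₗ φ x)) {z : X} (hz : z ∈ W) :
    RelCanon.InvertibleAt M z ↔ RelCanon.InvertibleAt N z := by
  have key : ∀ (V : X.Opens), Nonempty (M.restrict (V ⊓ W).ι ≅ N.restrict (V ⊓ W).ι) := fun V => by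
    haveI := RefHullLib.isIso_restrict (V ⊓ W).ι φ fun v => h v.1 v.2.2
    exact ⟨asIso ((Scheme.Modules.restrictFunctor (V ⊓ W).ι).map φ)⟩
  constructor <;> rintro ⟨V, hzV, hV⟩ <;> obtain ⟨e⟩ := key V
  · exact QGorBCLib.invertibleAt_of_isInvertible_restrict (HilbPolyLib.isInvertible_of_iso e
      (QGorBCLib.isInvertible_restrict_of_invertibleAt fun x hx => ⟨V, hx.1, hV⟩)) z ⟨hzV, hz⟩
  · exact QGorBCLib.invertibleAt_of_isInvertible_restrict (HilbPolyLib.isInvertible_of_iso e.symm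
      (QGorBCLib.isInvertible_restrict_of_invertibleAt fun x hx => ⟨V, hx.1, hV⟩)) z ⟨hzV, hz⟩

/-- Reflexive powers have depth two where the structure sheaf has. -/
theorem two_le_depth_refPowZ_nat {X : Scheme.{u}} [IsLocallyNoetherian X] {F : X.Modules} (hF : Coh.IsCoh F) (r : ℕ)
    (x : X) (h : (2 : ℕ∞) ≤ LocCoh.depth (X.presheaf.stalk x) (X.presheaf.stalk x)) :
    (2 : ℕ∞) ≤ LocCoh.depth (X.presheaf.stalk x) ((RelCanon.refPowZ F (r : ℤ)).presheaf.stalk x) := by
  rw [RelCanon.refPowZ_ofNat]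
  exact RhoBigLib.two_le_depth_dual (RefHullLib.isCoh_dual (QGorBCLib.isCoh_tensorPow hF r)) x h

variable {A : Type u} [CommRing A] [IsNoetherianRing A] {Y : Scheme.{u}} [Y.Over (Spec (CommRingCat.of A))]
  [IsProper (Y ↘ Spec (CommRingCat.of A))] [Flat (Y ↘ Spec (CommRingCat.of A))] {d : ℕ}
  (hd : Cyc.HasRelDim (Y ↘ Spec (CommRingCat.of A)) d) {ω : Y.Modules}
  (hω : RelCanon.IsDualizingSheaf A Y d ω)
  (hS : RelCanon.IsSkMor (Y ↘ Spec (CommRingCat.of A)) 2)
  (U : Y.Opens)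
  (hU : ∀ z ∈ U, z ∉ QGorBCLib.gorOpen A Y → (2 : WithBot ℕ∞) ≤ ringKrullDim (((Y ↘ Spec (CommRingCat.of A)).fiber
    ((Y ↘ Spec (CommRingCat.of A)) z)).presheaf.stalk ((Y ↘ Spec (CommRingCat.of A)).asFiber z)))

include hS hU in
/-- Depth two of the structure sheaf from the dimension of the fibres. -/
theorem two_le_depth_self {x : Y} (hx : x ∈ U) (hxG : x ∉ QGorBCLib.gorOpen A Y) :
    (2 : ℕ∞) ≤ LocCoh.depth (Y.presheaf.stalk x) (Y.presheaf.stalk x) := by
  let f := Y ↘ Spec (CommRingCat.of A)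
  haveI : IsNoetherianRing (CommRingCat.of A) := ‹IsNoetherianRing A›
  haveI : IsLocallyNoetherian Y := LocallyOfFiniteType.isLocallyNoetherian f
  obtain ⟨e⟩ := RefHullLib.nonempty_stalk_unit Y x
  rw [CommAlgDim.depth_congr e]
  refine QGorBCLib.two_le_depth_stalk f _ (DevissLib.isCoh_structureModule Y) x
    ((DepthLib.isFlatOverAt_structureModule_iff f x).2 (Flat.stalkMap f x)) ?_
  obtain ⟨e'⟩ := DepthLib.nonempty_pullback_unit_stalk (f.fiberι (f x)) (f.asFiber x)
  rw [CommAlgDim.depth_congr e']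
  haveI : IsLocallyNoetherian (f.fiber (f x)) :=
    haveI := UOpenLib.lft_fiberToSpec f (f x)
    LocallyOfFiniteType.isLocallyNoetherian (f.fiberToSpecResidueField (f x))
  exact le_depth_self_of_skAt specializes_rfl (hS.2.2 x) (hU x hx hxG)

include hd hω hS hU in
/-- Invertibility of a reflexive power and of the direct image of the tensor power agree there. -/
theorem invertibleAt_pushforward_iff (r : ℕ) {z : Y} (hz : z ∈ U) :
    RelCanon.InvertibleAt ((Scheme.Modules.pushforward (QGorBCLib.gorOpen A Y).ι).obj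
        (CohB1.tensorPow (ω.restrict (QGorBCLib.gorOpen A Y).ι) r)) z ↔
      RelCanon.InvertibleAt (RelCanon.refPowZ ω r) z := by
  let f := Y ↘ Spec (CommRingCat.of A)
  haveI : IsNoetherianRing (CommRingCat.of A) := ‹IsNoetherianRing A›
  haveI : IsLocallyNoetherian Y := LocallyOfFiniteType.isLocallyNoetherian f
  let G := QGorBCLib.gorOpen A Y
  have hcω := QGorSecLib.isCoh_dualizing hd hω
  have hinv := QGorBCLib.isInvertible_gorOpen hd hω
  obtain ⟨e⟩ := cl_eq_iff.1 (show cl ((RelCanon.refPowZ ω r).restrict G.ι) = cl (CohB1.tensorPow (ω.restrict G.ι) r) by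
    rw [cl_refPowZ_nat G hcω hinv, QGorBCLib.cl_tensorPow])
  have hb : ∀ x ∈ U, Function.Bijective (RefHull.stalkMapₗ ((Scheme.Modules.restrictAdjunction G.ι).unit.app
      (RelCanon.refPowZ ω r)) x) := fun x hx =>
    bijective_stalk_unit G (QGorBCLib.isCoh_refPowZ hcω (r : ℤ)) U (fun v hv hvG =>
      two_le_depth_refPowZ_nat hcω r v (two_le_depth_self hS U hU hv hvG)) x hx
  refine Iff.trans ?_ (invertibleAt_iff_of_hom _ U hb hz).symm
  exact ⟨QGorBCLib.invertibleAt_of_iso ((Scheme.Modules.pushforward G.ι).mapIso e.symm),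
    QGorBCLib.invertibleAt_of_iso ((Scheme.Modules.pushforward G.ι).mapIso e)⟩

include hd hω hS hU in
/-- An invertible reflexive power makes the index of the fibre divide its exponent. -/
theorem gorIndex_dvd_of_invertible {r : ℕ} (hr : 0 < r)
    (hUi : ∀ x ∈ U, RelCanon.InvertibleAt (RelCanon.refPowZ ω r) x) {z : Y} (hz : z ∈ U)
    {ωz : ((Y ↘ Spec (CommRingCat.of A)).fiber ((Y ↘ Spec (CommRingCat.of A)) z)).Modules}
    (hωz : @RelCanon.IsDualizingSheaf ((Spec (CommRingCat.of A)).residueField ((Y ↘ Spec (CommRingCat.of A)) z)) _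
      ((Y ↘ Spec (CommRingCat.of A)).fiber ((Y ↘ Spec (CommRingCat.of A)) z))
      ⟨(Y ↘ Spec (CommRingCat.of A)).fiberToSpecResidueField ((Y ↘ Spec (CommRingCat.of A)) z)⟩ d ωz) :
    RelCanon.IsQGorWithAt ωz ((Y ↘ Spec (CommRingCat.of A)).asFiber z) ∧
      RelCanon.gorIndexWithAt ωz ((Y ↘ Spec (CommRingCat.of A)).asFiber z) ∣ r := by
  classical
  let f := Y ↘ Spec (CommRingCat.of A)
  haveI : IsNoetherianRing (CommRingCat.of A) := ‹IsNoetherianRing A›
  haveI : IsLocallyNoetherian Y := LocallyOfFiniteType.isLocallyNoetherian f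
  haveI : IsLocallyNoetherian (f.fiber (f z)) :=
    haveI := UOpenLib.lft_fiberToSpec f (f z)
    LocallyOfFiniteType.isLocallyNoetherian (f.fiberToSpecResidueField (f z))
  letI : (f.fiber (f z)).Over (Spec (CommRingCat.of ((Spec (CommRingCat.of A)).residueField (f z)))) :=
    ⟨f.fiberToSpecResidueField (f z)⟩
  obtain ⟨φ, hφ⟩ := Spec.map_surjective ((Spec (CommRingCat.of A)).fromSpecResidueField (f z))
  have sq : IsPullback (f.fiberι (f z)) (f.fiber (f z) ↘ Spec (CommRingCat.of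
      ((Spec (CommRingCat.of A)).residueField (f z)))) f (Spec.map φ) :=
    hφ.symm ▸ IsPullback.of_hasPullback f ((Spec (CommRingCat.of A)).fromSpecResidueField (f z))
  haveI : IsProper (f.fiber (f z) ↘ Spec (CommRingCat.of ((Spec (CommRingCat.of A)).residueField (f z)))) :=
    MorphismProperty.of_isPullback (P := @IsProper) sq inferInstance
  let ι := f.fiberι (f z)
  let G := QGorBCLib.gorOpen A Y
  have hcω := QGorSecLib.isCoh_dualizing hd hω
  have hct := QGorSecLib.isCoh_dualizing (FibDimLib.hasRelDim_baseChange sq hd) hωz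
  obtain ⟨e⟩ := QGorBCLib.nonempty_restrict_iso hd hω sq hωz G fun x hx => ⟨hx.1, CMFlatLib.cm_of_gorenstein hx.2⟩
  have hinvt : PicF.IsInvertible (ωz.restrict (ι ⁻¹ᵁ G).ι) :=
    HilbPolyLib.isInvertible_of_iso (QGorBCLib.restrictPullIso ι G ω ≪≫ e)
      (AmpleDevLib.isInvertible_pb (ι ∣_ G) (QGorBCLib.isInvertible_gorOpen hd hω))
  have hW : ∀ v ∈ ι ⁻¹ᵁ U, v ∉ ι ⁻¹ᵁ G →
      (2 : ℕ∞) ≤ LocCoh.depth ((f.fiber (f z)).presheaf.stalk v) ((f.fiber (f z)).presheaf.stalk v) :=
    fun v hv hvG => le_depth_self_of_skAt specializes_rfl (skAt_fibre hS (f z) v)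
      ((hU _ hv hvG).trans_eq (AlgSpLib.stalkDim_fiber_congr f (f z) v _ rfl).symm)
  have hzW : f.asFiber z ∈ ι ⁻¹ᵁ U := by
    show f.fiberι (f z) (f.asFiber z) ∈ U
    rw [f.fiberι_asFiber]; exact hz
  have hp := QGorBCLib.invertibleAt_pullback ι (x' := f.asFiber z) (hUi _ hzW)
  have hrt : RelCanon.InvertibleAt (RelCanon.refPowZ ωz r) (f.asFiber z) := by
    obtain ⟨e'⟩ := nonempty_refPowZ_restrict_fibre hd hω (f z) hωz (r : ℤ)
    obtain ⟨a⟩ := nonempty_stalk_equiv_of_restrict_iso (ι ⁻¹ᵁ G) (ι ⁻¹ᵁ U) (QGorBCLib.isCoh_refPowZ hct _)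
      (ConsLib.isCoh_pullback ι (QGorBCLib.isCoh_refPowZ hcω _))
      (fun v hv hvG => two_le_depth_refPowZ_nat hct r v (hW v hv hvG))
      (fun v hv hvG => by
        obtain ⟨b⟩ := QGorBCLib.nonempty_stalk_equiv (QGorBCLib.invertibleAt_pullback ι (x' := v) (hUi _ hv))
        rw [CommAlgDim.depth_congr b]
        exact hW v hv hvG)
      e'.symm hzW
    obtain ⟨b⟩ := QGorBCLib.nonempty_stalk_equiv hp
    exact QGorDescLib.invertibleAt_of_stalk (QGorBCLib.isCoh_refPowZ hct _) (a.trans b)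
  refine ⟨⟨r, hr, hrt⟩, ?_⟩
  obtain ⟨hn0, hni⟩ : RelCanon.gorIndexWithAt ωz (f.asFiber z) ∈
      {n : ℕ | 0 < n ∧ RelCanon.InvertibleAt (RelCanon.refPowZ ωz n) (f.asFiber z)} := Nat.sInf_mem ⟨r, hr, hrt⟩
  generalize hn : RelCanon.gorIndexWithAt ωz (f.asFiber z) = n at *
  refine Nat.dvd_of_mod_eq_zero ?_
  by_contra hb
  have hrt' : RelCanon.InvertibleAt (RelCanon.refPowZ ωz (n * (r / n) + r % n : ℕ)) (f.asFiber z) := by
    rw [Nat.div_add_mod]; exact hrt
  have h2 : n ≤ r % n := hn.symm.trans_le (Nat.sInf_le ⟨Nat.pos_of_ne_zero hb,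
    invertibleAt_refPowZ_sub (ι ⁻¹ᵁ G) (ι ⁻¹ᵁ U) hW hct hinvt hzW hni hrt'⟩)
  exact absurd (Nat.mod_lt r hn0) (by omega)

end QGorLiftLib
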