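import Groth.Agent.QGorLiftLib.Dual
import Groth.Agent.CommAlgDim.Depth

/-!
# Lifting homomorphisms to thickenings across a set of depth three
-/

set_option autoImplicit false

universe u

open IsLocalRing CommAlgDim
open scoped TensorProduct Pointwise

namespace QGorLiftLib

section
variable {B : Type u} [CommRing B]

/-- `a, b` is a weakly regular sequence, in elements. -/
def R2 (a b : B) (X : Type u) [AddCommGroup X] [Module B X] : Prop :=
  (∀ x : X, a • x = 0 → x = 0) ∧ ∀ x y : X, b • x = a • y → ∃ z : X, x = a • z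

theorem R2.pi {a b : B} {X : Type u} [AddCommGroup X] [Module B X] (h : R2 a b X) {ι : Type} :
    R2 a b (ι → X) := by
  refine ⟨fun x hx => funext fun j => h.1 _ (congrFun hx j), fun x y hxy => ?_⟩
  choose z hz using fun j => h.2 (x j) (y j) (congrFun hxy j)
  exact ⟨z, funext hz⟩

theorem R2.of_exact {a b : B} {X' X X'' : Type u} [AddCommGroup X'] [Module B X'] [AddCommGroup X]
    [Module B X] [AddCommGroup X''] [Module B X''] (i : X' →ₗ[B] X) (π : X →ₗ[B] X'')
    (hi : Function.Injective i) (hex : Function.Exact i π) (hπ : Function.Surjective π)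
    (h' : R2 a b X') (h'' : R2 a b X'') : R2 a b X := by
  refine ⟨fun x hx => ?_, fun x y hxy => ?_⟩
  · obtain ⟨x', rfl⟩ := (hex x).1 (h''.1 _ (by rw [← map_smul, hx, map_zero]))
    rw [← map_smul, ← map_zero i] at hx
    rw [h'.1 _ (hi hx), map_zero]
  · obtain ⟨z'', hz''⟩ := h''.2 (π x) (π y) (by rw [← map_smul, hxy, map_smul])
    obtain ⟨z, rfl⟩ := hπ z''
    have e1 : π (x - a • z) = 0 := by rw [map_sub, map_smul, hz'', sub_self]
    have e2 : π (y - b • z) = 0 := h''.1 _ (by
      rw [map_sub, map_smul, smul_sub, smul_comm a b, ← hz'', ← map_smul, ← map_smul, hxy, sub_self])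
    obtain ⟨x', hx'⟩ := (hex _).1 e1
    obtain ⟨y', hy'⟩ := (hex _).1 e2
    obtain ⟨w, hw⟩ := h'.2 x' y' (hi (by
      rw [map_smul, map_smul, hx', hy', smul_sub, smul_sub, hxy, smul_comm b a]))
    exact ⟨z + i w, by rw [smul_add, ← map_smul, ← hw, hx', add_sub_cancel]⟩

variable [IsNoetherianRing B] {P₀ N₀ : Type u} [AddCommGroup P₀] [Module B P₀] [Module.Finite B P₀]
  [AddCommGroup N₀] [Module B N₀] [Module.Finite B N₀]

/-- Common regular sequences from depths. -/
theorem exists_regular (I : Ideal B) (hP : HasSeqIn I P₀ 2) (hN : HasSeqIn I N₀ 3) :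
    ∃ a ∈ I, ∃ b ∈ I, ∃ c ∈ I, R2 a b P₀ ∧
      ∀ x y z : N₀, c • x = a • y + b • z → ∃ s t, x = a • s + b • t := by
  obtain ⟨a, haI, ha⟩ := exists_isSMulRegular_mem (M := P₀ × N₀) (I := I) fun p hp => by
    rw [associatedPrimes.prod] at hp
    rcases hp with h | h
    · exact (hasSeqIn_one_iff I).1 (hP.mono (by omega)) p h
    · exact (hasSeqIn_one_iff I).1 (hN.mono (by omega)) p h
  have haP : IsSMulRegular P₀ a := fun x y h => (Prod.ext_iff.1 (@ha (x, 0) (y, 0) (Prod.ext h rfl))).1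
  have haN : IsSMulRegular N₀ a := fun x y h =>
    (Prod.ext_iff.1 (@ha ((0 : P₀), x) (0, y) (Prod.ext rfl h))).2
  have hP1 : HasSeqIn I (QuotSMulTop a P₀) 1 := hP.quotSMulTop haI haP
  have hN1 : HasSeqIn I (QuotSMulTop a N₀) 2 := hN.quotSMulTop haI haN
  obtain ⟨b, hbI, hb⟩ := exists_isSMulRegular_mem (M := QuotSMulTop a P₀ × QuotSMulTop a N₀) (I := I)
    fun p hp => by
      rw [associatedPrimes.prod] at hp
      rcases hp with h | h
      · exact (hasSeqIn_one_iff I).1 hP1 p h
      · exact (hasSeqIn_one_iff I).1 (hN1.mono (by omega)) p h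
  have hbP : IsSMulRegular (QuotSMulTop a P₀) b := fun x y h =>
    (Prod.ext_iff.1 (@hb (x, 0) (y, 0) (Prod.ext h rfl))).1
  have hbN : IsSMulRegular (QuotSMulTop a N₀) b := fun x y h =>
    (Prod.ext_iff.1 (@hb ((0 : QuotSMulTop a P₀), x) (0, y) (Prod.ext rfl h))).2
  obtain ⟨c, hcI, hc⟩ := exists_isSMulRegular_mem (M := QuotSMulTop b (QuotSMulTop a N₀)) (I := I)
    ((hasSeqIn_one_iff I).1 (hN1.quotSMulTop hbI hbN))
  refine ⟨a, haI, b, hbI, c, hcI, ⟨fun x hx => haP (hx.trans (smul_zero a).symm), fun x y h => ?_⟩,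
    fun x y z h => ?_⟩
  · have h1 : (Submodule.Quotient.mk x : QuotSMulTop a P₀) = 0 := hbP (by
      show b • _ = b • (0 : QuotSMulTop a P₀)
      rw [smul_zero, ← Submodule.Quotient.mk_smul, h]
      exact (Submodule.Quotient.mk_eq_zero _).2 (Submodule.smul_mem_pointwise_smul _ _ _ trivial))
    obtain ⟨w, -, hw⟩ := (Submodule.mem_smul_pointwise_iff_exists _ _ _).1 ((Submodule.Quotient.mk_eq_zero _).1 h1)
    exact ⟨w, hw.symm⟩
  · let q : N₀ →ₗ[B] QuotSMulTop a N₀ := Submodule.mkQ _
    let q' : QuotSMulTop a N₀ →ₗ[B] QuotSMulTop b (QuotSMulTop a N₀) := Submodule.mkQ _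
    have h1 : q' (q x) = 0 := hc (by
      show c • q' (q x) = c • (0 : QuotSMulTop b (QuotSMulTop a N₀))
      rw [smul_zero, ← map_smul, ← map_smul, h, map_add, map_add,
        show q (a • y) = 0 from (Submodule.Quotient.mk_eq_zero _).2 (Submodule.smul_mem_pointwise_smul _ _ _ trivial),
        map_zero, zero_add, map_smul]
      exact (Submodule.Quotient.mk_eq_zero _).2 (Submodule.smul_mem_pointwise_smul _ _ _ trivial))
    obtain ⟨w, -, hw⟩ := (Submodule.mem_smul_pointwise_iff_exists _ _ _).1 ((Submodule.Quotient.mk_eq_zero _).1 h1)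
    obtain ⟨t, rfl⟩ := Submodule.mkQ_surjective _ w
    rw [← map_smul] at hw
    obtain ⟨s, -, hs⟩ := (Submodule.mem_smul_pointwise_iff_exists _ _ _).1 ((Submodule.Quotient.eq _).1 hw.symm)
    exact ⟨s, t, by rw [hs, sub_add_cancel]⟩

end

section
variable {B : Type u} [CommRing B] {K P₀ X Y : Type u} [AddCommGroup K] [Module B K] [AddCommGroup P₀]
  [Module B P₀] [AddCommGroup X] [Module B X] [AddCommGroup Y] [Module B Y]

/-- Multiples which lift, along the regular elements, assemble to a lift. -/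
theorem exists_lift {r : ℕ} (ι : (Fin r → P₀) →ₗ[B] X) (π : X →ₗ[B] Y) (hι : Function.Injective ι)
    (hex : Function.Exact ι π) (φ : K →ₗ[B] Y) {a b c : B} (hX : R2 a b X) (hY : ∀ y : Y, a • y = 0 → y = 0)
    (hN : ∀ x y z : K →ₗ[B] P₀, c • x = a • y + b • z → ∃ s t, x = a • s + b • t)
    (hfa : ∃ h : K →ₗ[B] X, π.comp h = a • φ) (hfb : ∃ h : K →ₗ[B] X, π.comp h = b • φ)
    (hfc : ∃ h : K →ₗ[B] X, π.comp h = c • φ) :
    ∃ ψ : K →ₗ[B] X, π.comp ψ = φ := by
  obtain ⟨h_a, hha⟩ := hfa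
  obtain ⟨h_b, hhb⟩ := hfb
  obtain ⟨h_c, hhc⟩ := hfc
  have key : ∀ (x y : B) (hx hy : K →ₗ[B] X), π.comp hx = x • φ → π.comp hy = y • φ →
      ∃ δ : K →ₗ[B] (Fin r → P₀), ∀ k, ι (δ k) = y • hx k - x • hy k := by
    intro x y hx hy h₁ h₂
    have h0 : ∀ k, π (y • hx k - x • hy k) = 0 := fun k => by
      rw [map_sub, map_smul, map_smul, show π (hx k) = x • φ k from LinearMap.congr_fun h₁ k,
        show π (hy k) = y • φ k from LinearMap.congr_fun h₂ k, smul_comm, sub_self]
    choose δ hδ using fun k => (hex _).1 (h0 k)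
    exact ⟨{ toFun := δ
             map_add' := fun k k' => hι (by
               rw [map_add, hδ, hδ, hδ, map_add, map_add, smul_add, smul_add]; abel)
             map_smul' := fun r k => hι (by
               rw [RingHom.id_apply, map_smul, hδ, hδ, map_smul, map_smul, smul_sub, smul_comm r y,
                 smul_comm r x]) }, hδ⟩
  obtain ⟨δ, hδ⟩ := key a b h_a h_b hha hhb
  obtain ⟨δ₂, hδ₂⟩ := key a c h_a h_c hha hhc
  obtain ⟨δ₃, hδ₃⟩ := key b c h_b h_c hhb hhc
  have hrel : ∀ k, c • δ k = b • δ₂ k - a • δ₃ k := fun k => hι (by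
    simp only [map_sub, map_smul, hδ, hδ₂, hδ₃, smul_sub, smul_comm c b, smul_comm c a, smul_comm b a]
    abel)
  choose s t hst using fun j : Fin r => hN ((LinearMap.proj j).comp δ) ((LinearMap.proj j).comp (-δ₃))
    ((LinearMap.proj j).comp δ₂) (LinearMap.ext fun k => by
      simp only [LinearMap.smul_apply, LinearMap.comp_apply, LinearMap.proj_apply, LinearMap.add_apply,
        LinearMap.neg_apply, Pi.neg_apply, smul_neg]
      rw [← Pi.smul_apply, hrel k, Pi.sub_apply, Pi.smul_apply, Pi.smul_apply]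
      abel)
  let S : K →ₗ[B] (Fin r → P₀) := LinearMap.pi s
  let T : K →ₗ[B] (Fin r → P₀) := LinearMap.pi t
  have hdec : ∀ k, δ k = a • S k + b • T k := fun k => funext fun j =>
    LinearMap.congr_fun (hst j) k
  have hdiv : ∀ k, ∃ e, h_a k - ι (T k) = a • e := fun k =>
    hX.2 _ (h_b k + ι (S k)) (by
      have e := hδ k
      rw [hdec, map_add, map_smul, map_smul] at e
      rw [smul_sub, smul_add]
      linear_combination (norm := abel) -e)
  choose h hh using hdiv
  have hreg : ∀ x y : X, a • x = a • y → x = y := fun x y e =>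
    sub_eq_zero.1 (hX.1 _ (by rw [smul_sub, e, sub_self]))
  let L : K →ₗ[B] X :=
    { toFun := h
      map_add' := fun x y => hreg _ _ (by
        rw [smul_add, ← hh, ← hh, ← hh, map_add, map_add, map_add]; abel)
      map_smul' := fun r k => hreg _ _ (by
        rw [RingHom.id_apply, smul_comm a r, ← hh, ← hh, map_smul, map_smul, map_smul, smul_sub]) }
  refine ⟨L, LinearMap.ext fun k => sub_eq_zero.1 (hY _ ?_)⟩
  show a • (π (h k) - φ k) = 0
  rw [smul_sub, ← map_smul, ← hh, map_sub, show π (h_a k) = a • φ k from LinearMap.congr_fun hha k,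
    show π (ι (T k)) = 0 from (hex _).2 ⟨_, rfl⟩, sub_zero, sub_self]

end

variable {A : Type u} [CommRing A] [IsLocalRing A] [IsNoetherianRing A]
  {B : Type u} [CommRing B] [IsNoetherianRing B] [IsLocalRing B] [Algebra A B] [IsLocalHom (algebraMap A B)]
  (P : Type u) [AddCommGroup P] [Module B P] [Module A P] [IsScalarTower A B P]
  [Module.Finite B P] [Module.Flat A P]

/-- The successive thickenings are extensions by powers of the fibre. -/
theorem exists_thick_exact (n : ℕ) : ∃ (r : ℕ) (ι : (Fin r → Pq (B := B) A P 0) →ₗ[B] Pq (B := B) A P (n + 1))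
    (π : Pq (B := B) A P (n + 1) →ₗ[B] Pq (B := B) A P n),
    Function.Injective ι ∧ Function.Exact ι π ∧ Function.Surjective π ∧
      ∀ z : P, π (Submodule.Quotient.mk z) = Submodule.Quotient.mk z := by
  classical
  obtain ⟨r, g, hg, hmin⟩ := exists_min_gens (maximalIdeal A ^ (n + 1))
  have hgmem : ∀ j, algebraMap A B (g j) ∈ (maximalIdeal A ^ (n + 1)).map (algebraMap A B) := fun j =>
    Ideal.mem_map_of_mem _ (hg ▸ Ideal.subset_span ⟨j, rfl⟩)
  have hle : sub (B := B) (maximalIdeal A ^ (n + 1 + 1)) P ≤ sub (B := B) (maximalIdeal A ^ (n + 1)) P :=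
    Submodule.smul_mono_left (Ideal.map_mono (Ideal.pow_le_pow_right (Nat.le_succ _)))
  let π : Pq (B := B) A P (n + 1) →ₗ[B] Pq (B := B) A P n :=
    (sub (B := B) (maximalIdeal A ^ (n + 1 + 1)) P).mapQ (sub (B := B) (maximalIdeal A ^ (n + 1)) P) LinearMap.id
      hle
  let μ : (Fin r → P) →ₗ[B] Pq (B := B) A P (n + 1) :=
    (Submodule.mkQ _).comp (∑ j, algebraMap A B (g j) • LinearMap.proj j)
  have hμ : ∀ x, μ x = Submodule.Quotient.mk (∑ j, g j • x j) := fun x => by
    rw [LinearMap.comp_apply, Submodule.mkQ_apply]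
    exact congrArg _ (by simp)
  have hker : ∀ x : Fin r → P, μ x = 0 ↔ ∀ j, x j ∈ sub (B := B) (maximalIdeal A ^ (0 + 1)) P := by
    intro x
    rw [hμ, Submodule.Quotient.mk_eq_zero, zero_add, pow_one]
    constructor
    · intro hx j
      rw [sub, pow_succ, Ideal.map_mul, ← smul_eq_mul, Submodule.smul_assoc] at hx
      have : ∃ y : Fin r → P, (∀ i, y i ∈ sub (B := B) (maximalIdeal A) P) ∧ ∑ i, g i • x i = ∑ i, g i • y i := by
        refine Submodule.smul_induction_on (p := fun w => ∃ y : Fin r → P,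
          (∀ i, y i ∈ sub (B := B) (maximalIdeal A) P) ∧ w = ∑ i, g i • y i) hx (fun c hc w hw => ?_) ?_
        · rw [← hg, Ideal.map_span, ← Set.range_comp] at hc
          obtain ⟨d, rfl⟩ := (Submodule.mem_span_range_iff_exists_fun B).1 hc
          refine ⟨fun i => d i • w, fun i => Submodule.smul_mem _ _ hw, ?_⟩
          rw [Finset.sum_smul]
          exact Finset.sum_congr rfl fun i _ => by
            rw [Function.comp_apply, smul_assoc, algebraMap_smul, smul_comm]
        · rintro w w' ⟨y, hy, rfl⟩ ⟨y', hy', rfl⟩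
          exact ⟨y + y', fun i => Submodule.add_mem _ (hy i) (hy' i), by simp [Finset.sum_add_distrib]⟩
      obtain ⟨y, hy, hxy⟩ := this
      have h0 : ∑ i, g i • (x i - y i) = 0 := by simp [smul_sub, Finset.sum_sub_distrib, hxy]
      simpa using Submodule.add_mem _ (mem_sub_max_of_relation (F := P) (B := B) hmin h0 j) (hy j)
    · intro hx
      refine Submodule.sum_mem _ fun j _ => ?_
      rw [← algebraMap_smul B (g j), sub, pow_succ, Ideal.map_mul, ← smul_eq_mul, Submodule.smul_assoc]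
      exact Submodule.smul_mem_smul (hgmem j) (hx j)
  let Z : Submodule B (Fin r → P) := Submodule.pi Set.univ fun _ => sub (B := B) (maximalIdeal A ^ (0 + 1)) P
  let ι : (Fin r → Pq (B := B) A P 0) →ₗ[B] Pq (B := B) A P (n + 1) :=
    (Z.liftQ μ fun x hx => (hker x).2 fun j => hx j trivial).comp
      (Submodule.quotientPi fun _ : Fin r => sub (B := B) (maximalIdeal A ^ (0 + 1)) P).symm.toLinearMap
  have hιmk : ∀ x : Fin r → P, ι (fun j => Submodule.Quotient.mk (x j)) = μ x := fun x => by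
    have h : (Submodule.quotientPi fun _ : Fin r => sub (B := B) (maximalIdeal A ^ (0 + 1)) P).symm
        (fun j => Submodule.Quotient.mk (x j)) = Submodule.Quotient.mk x := by
      rw [LinearEquiv.symm_apply_eq]
      rfl
    rw [LinearMap.comp_apply, LinearEquiv.coe_coe, h, Submodule.liftQ_apply]
  have hlift : ∀ y : Fin r → Pq (B := B) A P 0, ∃ x : Fin r → P, y = fun j => Submodule.Quotient.mk (x j) :=
    fun y => by
      choose x hx using fun j => Submodule.Quotient.mk_surjective _ (y j)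
      exact ⟨x, funext fun j => (hx j).symm⟩
  refine ⟨r, ι, π, ?_, fun w => ?_, ?_, fun z => rfl⟩
  · refine (injective_iff_map_eq_zero _).2 fun y hy => ?_
    obtain ⟨x, rfl⟩ := hlift y
    rw [hιmk] at hy
    exact funext fun j => (Submodule.Quotient.mk_eq_zero _).2 ((hker x).1 hy j)
  · obtain ⟨z, rfl⟩ := Submodule.Quotient.mk_surjective _ w
    constructor
    · intro hz
      obtain ⟨y, rfl⟩ := (mem_sub_iff (F := P) hg z).1 ((Submodule.Quotient.mk_eq_zero _).1 hz)
      exact ⟨fun j => Submodule.Quotient.mk (y j), (hιmk y).trans (hμ y)⟩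
    · rintro ⟨y, hy⟩
      obtain ⟨x, rfl⟩ := hlift y
      rw [hιmk, hμ] at hy
      rw [← hy]
      exact (Submodule.Quotient.mk_eq_zero _).2 ((mem_sub_iff (F := P) hg _).2 ⟨x, rfl⟩)
  · intro w
    obtain ⟨z, rfl⟩ := Submodule.Quotient.mk_surjective _ w
    exact ⟨Submodule.Quotient.mk z, rfl⟩

theorem R2.thick {a b : B} (h : R2 a b (Pq (B := B) A P 0)) : ∀ n, R2 a b (Pq (B := B) A P n)
  | 0 => h
  | n + 1 => by
    obtain ⟨r, ι, π, hι, hex, hπ, -⟩ := exists_thick_exact (A := A) (B := B) P n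
    exact R2.of_exact ι π hι hex hπ h.pi (R2.thick h n)

variable (K : Type u) [AddCommGroup K] [Module B K] [Module.Finite B K]

/-- A multiple of the homomorphism into a thickening lifts to the next one. -/
def LiftsMul (n : ℕ) (φ : K →ₗ[B] Pq (B := B) A P n) (f : B) : Prop :=
  ∃ ψ : K →ₗ[B] Pq (B := B) A P (n + 1), ∀ k z, ψ k = Submodule.Quotient.mk z →
    f • φ k = Submodule.Quotient.mk z

/-- Homomorphisms into the fibre lift to all thickenings when they lift locally outside a set along which the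
fibre has depth two and the homomorphisms into it depth three. -/
theorem exists_lifts
    (hloc : ∀ (p : Ideal B) [p.IsPrime],
      (∀ (n : ℕ) (φ : K →ₗ[B] Pq (B := B) A P n), ∃ f ∉ p, LiftsMul P K n φ f) ∨
      ((2 : ℕ∞) ≤ LocCoh.depth (Localization.AtPrime p) (LocalizedModule p.primeCompl (Pq (B := B) A P 0)) ∧
        (3 : ℕ∞) ≤ LocCoh.depth (Localization.AtPrime p)
          (LocalizedModule p.primeCompl (K →ₗ[B] Pq (B := B) A P 0))))
    (n : ℕ) (φ : K →ₗ[B] Pq (B := B) A P 0) : ∃ ψ : K →ₗ[B] Pq (B := B) A P n,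
      ∀ k z, ψ k = Submodule.Quotient.mk z → φ k = Submodule.Quotient.mk z := by
  induction n with
  | zero => exact ⟨φ, fun k z h => h⟩
  | succ n ih =>
    obtain ⟨φ', hφ'⟩ := ih
    obtain ⟨r, ι, π, hι, hex, hπ, hπmk⟩ := exists_thick_exact (A := A) (B := B) P n
    let I : Ideal B :=
      { carrier := {f | ∃ h : K →ₗ[B] Pq (B := B) A P (n + 1), π.comp h = f • φ'}
        add_mem' := by
          rintro x y ⟨h, hh⟩ ⟨g, hg⟩
          exact ⟨h + g, by rw [LinearMap.comp_add, hh, hg, add_smul]⟩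
        zero_mem' := ⟨0, by rw [LinearMap.comp_zero, zero_smul]⟩
        smul_mem' := by
          rintro x y ⟨h, hh⟩
          exact ⟨x • h, by rw [LinearMap.comp_smul, hh, smul_smul, smul_eq_mul]⟩ }
    have hdepth : ∀ (p : Ideal B) [p.IsPrime], I ≤ p →
        ((2 : ℕ∞) ≤ LocCoh.depth (Localization.AtPrime p) (LocalizedModule p.primeCompl (Pq (B := B) A P 0)) ∧
        (3 : ℕ∞) ≤ LocCoh.depth (Localization.AtPrime p)
          (LocalizedModule p.primeCompl (K →ₗ[B] Pq (B := B) A P 0))) := by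
      intro p hp hle
      refine (hloc p).resolve_left fun h => ?_
      obtain ⟨f, hf, ψ, hψ⟩ := h n φ'
      refine hf (hle ⟨ψ, LinearMap.ext fun k => ?_⟩)
      obtain ⟨z, hz⟩ := Submodule.Quotient.mk_surjective _ (ψ k)
      rw [LinearMap.comp_apply, ← hz, hπmk, LinearMap.smul_apply, hψ k z hz.symm]
    obtain ⟨a, ha, b, hb, c, hc, hP, hN⟩ := exists_regular I
      ((hasSeqIn_iff_forall_localization I 2).2 fun p hp hle => by exact_mod_cast (hdepth p hle).1)
      ((hasSeqIn_iff_forall_localization I 3).2 fun p hp hle => by exact_mod_cast (hdepth p hle).2)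
    obtain ⟨ψ, hψ⟩ := exists_lift ι π hι hex φ' (R2.thick P hP (n + 1)) (R2.thick P hP n).1 hN ha hb hc
    refine ⟨ψ, fun k z hz => hφ' k z ?_⟩
    rw [← hψ, LinearMap.comp_apply, hz, hπmk]

end QGorLiftLib
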