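import Groth.Agent.QGorLiftLib.FibreGeom
import Groth.Agent.QGorLiftLib.CanRoot

/-!
# The local data at a point of the fibre
-/

set_option autoImplicit false
set_option linter.style.haveILetI false
set_option linter.unusedSectionVars false
set_option backward.isDefEq.respectTransparency false
set_option backward.isDefEq.respectTransparency.types false
set_option maxHeartbeats 1000000
set_option synthInstance.maxHeartbeats 200000

noncomputable section

universe u

open CategoryTheory CategoryTheory.Limits AlgebraicGeometry IsLocalRing TopologicalSpace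
open Groth.Agent
open scoped TensorProduct Pointwise

attribute [local instance] HasDerivedCategory.standard

namespace QGorLiftLib

/-- The reduction of a stalk is the stalk of the restriction to the fibre. -/
theorem nonempty_quot_stalk_equiv {X S : Scheme.{u}} (f : X ⟶ S) (M : X.Modules) (s : S) (w : f.fiber s) :
    letI := (f.stalkMap (f.fiberι s w)).hom.toAlgebra
    letI := Module.compHom (((Scheme.Modules.pullback (f.fiberι s)).obj M).presheaf.stalk w) ((f.fiberι s).stalkMap w).hom
    Nonempty ((M.presheaf.stalk (f.fiberι s w) ⧸ sub (B := X.presheaf.stalk (f.fiberι s w))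
        (maximalIdeal (S.presheaf.stalk (f (f.fiberι s w)))) (M.presheaf.stalk (f.fiberι s w)))
      ≃ₗ[X.presheaf.stalk (f.fiberι s w)] ((Scheme.Modules.pullback (f.fiberι s)).obj M).presheaf.stalk w) := by
  let ι := f.fiberι s
  let A := S.presheaf.stalk (f (ι w))
  let B := X.presheaf.stalk (ι w)
  let C := (f.fiber s).presheaf.stalk w
  letI : Algebra A B := (f.stalkMap (ι w)).hom.toAlgebra
  letI : Algebra B C := (ι.stalkMap w).hom.toAlgebra
  letI := Module.compHom (((Scheme.Modules.pullback ι).obj M).presheaf.stalk w) (ι.stalkMap w).hom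
  haveI : IsScalarTower B C (((Scheme.Modules.pullback ι).obj M).presheaf.stalk w) :=
    IsScalarTower.of_algebraMap_smul fun _ _ => rfl
  obtain ⟨hsC, hker⟩ := Groth.Agent.S9501.result f s w
  replace hsC : Function.Surjective (algebraMap B C) := hsC
  let I : Ideal B := (maximalIdeal A).map (algebraMap A B)
  replace hker : RingHom.ker (algebraMap B C) = I := hker
  let eC : (B ⧸ I) ≃ₗ[B] C := ((Ideal.quotientEquivAlgOfEq B hker.symm).trans
    (Ideal.quotientKerAlgEquivOfSurjective (f := Algebra.ofId B C) hsC)).toLinearEquiv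
  let eT : C ⊗[B] M.presheaf.stalk (ι w) ≃ₗ[C] ((Scheme.Modules.pullback ι).obj M).presheaf.stalk w :=
    ((KFlatLib.stalkPullIso ι w).symm.app M).toLinearEquiv
  exact ⟨(TensorProduct.quotTensorEquivQuotSMul (M.presheaf.stalk (ι w)) I).symm.trans
    ((TensorProduct.congr eC (LinearEquiv.refl B _)).trans
      (eT.restrictScalars B))⟩

/-- A stalk map bijective at a generization has an inverse up to a scalar at the prime. -/
theorem exists_inverse_at {X : Scheme.{u}} [IsLocallyNoetherian X] {M N : X.Modules} (hM : Coh.IsCoh M)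
    (hN : Coh.IsCoh N) (φ : M ⟶ N) {v z : X} (h : v ⤳ z) (hb : Function.Bijective (RefHull.stalkMapₗ φ v)) :
    ∃ g ∉ (CycDivLib.primeOf h).asIdeal, ∃ ψ : N.presheaf.stalk z →ₗ[X.presheaf.stalk z] M.presheaf.stalk z,
      (∀ x, ψ (RefHull.stalkMapₗ φ z x) = g • x) ∧ ∀ y, RefHull.stalkMapₗ φ z (ψ y) = g • y := by
  haveI := hM.1
  haveI := hN.1
  haveI : Module.Finite (X.presheaf.stalk z) (M.presheaf.stalk z) := ZClosLib.finite_stalk hM z
  haveI : Module.Finite (X.presheaf.stalk z) (N.presheaf.stalk z) := ZClosLib.finite_stalk hN z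
  haveI : Module.FinitePresentation (X.presheaf.stalk z) (N.presheaf.stalk z) := Module.finitePresentation_of_finite _ _
  letI := (X.presheaf.stalkSpecializes h).hom.toAlgebra
  letI := Module.compHom (M.presheaf.stalk v) (X.presheaf.stalkSpecializes h).hom
  letI := Module.compHom (N.presheaf.stalk v) (X.presheaf.stalkSpecializes h).hom
  haveI := isLocalizedModule_specLin M h
  haveI := isLocalizedModule_specLin N h
  haveI : IsScalarTower (X.presheaf.stalk z) (X.presheaf.stalk v) (M.presheaf.stalk v) :=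
    IsScalarTower.of_algebraMap_smul fun _ _ => rfl
  haveI : IsScalarTower (X.presheaf.stalk z) (X.presheaf.stalk v) (N.presheaf.stalk v) :=
    IsScalarTower.of_algebraMap_smul fun _ _ => rfl
  let S := (CycDivLib.primeOf h).asIdeal.primeCompl
  let e := (LinearEquiv.ofBijective (RefHull.stalkMapₗ φ v) hb).restrictScalars (X.presheaf.stalk z)
  have hnat : ∀ x, specLin N h (RefHull.stalkMapₗ φ z x) = e (specLin M h x) := fun x =>
    RefHullLib.stalkMap_stalkSpecializes φ h x
  obtain ⟨ψ, t, hψ⟩ := Module.FinitePresentation.exists_lift_of_isLocalizedModule S (specLin M h)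
    (e.symm.toLinearMap.comp (specLin N h))
  have hψ' : ∀ y, specLin M h (ψ y) = (t : X.presheaf.stalk z) • e.symm (specLin N h y) := fun y =>
    LinearMap.congr_fun hψ y
  obtain ⟨a, ha⟩ := Module.Finite.exists_smul_of_comp_eq_of_isLocalizedModule S (specLin M h)
    (ψ.comp (RefHull.stalkMapₗ φ z)) ((t : X.presheaf.stalk z) • LinearMap.id) (LinearMap.ext fun x => by
      simp only [LinearMap.comp_apply, LinearMap.smul_apply, LinearMap.id_apply, map_smul]
      erw [hψ', hnat, e.symm_apply_apply])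
  obtain ⟨b, hb'⟩ := Module.Finite.exists_smul_of_comp_eq_of_isLocalizedModule S (specLin N h)
    (LinearMap.comp (RefHull.stalkMapₗ φ z) ψ) ((t : X.presheaf.stalk z) • LinearMap.id) (LinearMap.ext fun x => by
      simp only [LinearMap.comp_apply, LinearMap.smul_apply, LinearMap.id_apply, map_smul]
      erw [hnat, hψ', map_smul, e.apply_symm_apply])
  refine ⟨((a * b : S) : X.presheaf.stalk z) * t, (a * b * t : S).2, ((a * b : S) : X.presheaf.stalk z) • ψ,
    fun x => ?_, fun y => ?_⟩
  · have h1 : (a : X.presheaf.stalk z) • ψ (RefHull.stalkMapₗ φ z x) = (a : X.presheaf.stalk z) • (t : X.presheaf.stalk z) • x :=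
      LinearMap.congr_fun ha x
    rw [LinearMap.smul_apply, Submonoid.coe_mul, mul_comm (a : X.presheaf.stalk z) b, mul_smul, h1, mul_smul, mul_smul]
  · have h1 : (b : X.presheaf.stalk z) • RefHull.stalkMapₗ φ z (ψ y) = (b : X.presheaf.stalk z) • (t : X.presheaf.stalk z) • y :=
      LinearMap.congr_fun hb' y
    rw [LinearMap.smul_apply, map_smul, Submonoid.coe_mul, mul_smul, mul_smul, mul_smul]
    erw [h1]

variable {A : Type u} [CommRing A] [IsNoetherianRing A] {Y : Scheme.{u}} [Y.Over (Spec (CommRingCat.of A))]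
  [IsProper (Y ↘ Spec (CommRingCat.of A))] [Flat (Y ↘ Spec (CommRingCat.of A))] {d : ℕ}
  (hd : Cyc.HasRelDim (Y ↘ Spec (CommRingCat.of A)) d)
  (hS : RelCanon.IsSkMor (Y ↘ Spec (CommRingCat.of A)) 2)
  {ω : Y.Modules} (hω : RelCanon.IsDualizingSheaf A Y d ω) {L : Y.Modules} (hL : Coh.IsCoh L)
  (t : Spec (CommRingCat.of A)) (hLt : RelCanon.IsDualizingSheafFib (Y ↘ Spec (CommRingCat.of A)) d L t)

include hd hS hω hL hLt in
/-- The map to the fibre of the deformation and its properties at the primes of the fibre. -/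
theorem exists_fibre_data (w : (Y ↘ Spec (CommRingCat.of A)).fiber t) :
    letI := ((Y ↘ Spec (CommRingCat.of A)).stalkMap ((Y ↘ Spec (CommRingCat.of A)).fiberι t w)).hom.toAlgebra
    ∃ σ : ω.presheaf.stalk ((Y ↘ Spec (CommRingCat.of A)).fiberι t w)
        →ₗ[Y.presheaf.stalk ((Y ↘ Spec (CommRingCat.of A)).fiberι t w)]
        Pq (B := Y.presheaf.stalk ((Y ↘ Spec (CommRingCat.of A)).fiberι t w))
          ((Spec (CommRingCat.of A)).presheaf.stalk ((Y ↘ Spec (CommRingCat.of A))
            ((Y ↘ Spec (CommRingCat.of A)).fiberι t w)))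
          (L.presheaf.stalk ((Y ↘ Spec (CommRingCat.of A)).fiberι t w)) 0,
      (∀ φ : Pq (B := Y.presheaf.stalk ((Y ↘ Spec (CommRingCat.of A)).fiberι t w))
          ((Spec (CommRingCat.of A)).presheaf.stalk ((Y ↘ Spec (CommRingCat.of A))
            ((Y ↘ Spec (CommRingCat.of A)).fiberι t w)))
          (L.presheaf.stalk ((Y ↘ Spec (CommRingCat.of A)).fiberι t w)) 0
            →ₗ[Y.presheaf.stalk ((Y ↘ Spec (CommRingCat.of A)).fiberι t w)] _,
        ∃ b : Y.presheaf.stalk ((Y ↘ Spec (CommRingCat.of A)).fiberι t w), ∀ z, φ z = b • z) ∧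
      (∀ b : Y.presheaf.stalk ((Y ↘ Spec (CommRingCat.of A)).fiberι t w),
        (∀ z : Pq (B := Y.presheaf.stalk ((Y ↘ Spec (CommRingCat.of A)).fiberι t w))
          ((Spec (CommRingCat.of A)).presheaf.stalk ((Y ↘ Spec (CommRingCat.of A))
            ((Y ↘ Spec (CommRingCat.of A)).fiberι t w)))
          (L.presheaf.stalk ((Y ↘ Spec (CommRingCat.of A)).fiberι t w)) 0, b • z = 0) →
        b ∈ (maximalIdeal ((Spec (CommRingCat.of A)).presheaf.stalk ((Y ↘ Spec (CommRingCat.of A))
            ((Y ↘ Spec (CommRingCat.of A)).fiberι t w)))).map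
          (algebraMap _ (Y.presheaf.stalk ((Y ↘ Spec (CommRingCat.of A)).fiberι t w)))) ∧
      ∀ (p : Ideal (Y.presheaf.stalk ((Y ↘ Spec (CommRingCat.of A)).fiberι t w))) [p.IsPrime],
        (maximalIdeal ((Spec (CommRingCat.of A)).presheaf.stalk ((Y ↘ Spec (CommRingCat.of A))
            ((Y ↘ Spec (CommRingCat.of A)).fiberι t w)))).map
          (algebraMap _ (Y.presheaf.stalk ((Y ↘ Spec (CommRingCat.of A)).fiberι t w))) ≤ p →
        ∃ v : (Y ↘ Spec (CommRingCat.of A)).fiber t, v ⤳ w ∧
          (Y ↘ Spec (CommRingCat.of A)).fiberι t v =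
            EquidimLib.stalkPt ((Y ↘ Spec (CommRingCat.of A)).fiberι t w) ⟨p, ‹_›⟩ ∧
          ((Y ↘ Spec (CommRingCat.of A)).fiberι t v ∈ cmOpen A Y → CanonAt p σ) ∧
          LocCoh.depth (((Y ↘ Spec (CommRingCat.of A)).fiber t).presheaf.stalk v)
              (((Scheme.Modules.pullback ((Y ↘ Spec (CommRingCat.of A)).fiberι t)).obj L).presheaf.stalk v) =
            LocCoh.depth (Localization.AtPrime p) (LocalizedModule p.primeCompl
              (Pq (B := Y.presheaf.stalk ((Y ↘ Spec (CommRingCat.of A)).fiberι t w))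
                ((Spec (CommRingCat.of A)).presheaf.stalk ((Y ↘ Spec (CommRingCat.of A))
                  ((Y ↘ Spec (CommRingCat.of A)).fiberι t w)))
                (L.presheaf.stalk ((Y ↘ Spec (CommRingCat.of A)).fiberι t w)) 0)) ∧
          LocCoh.depth (((Y ↘ Spec (CommRingCat.of A)).fiber t).presheaf.stalk v)
              (((Y ↘ Spec (CommRingCat.of A)).fiber t).presheaf.stalk v) =
            LocCoh.depth (Localization.AtPrime p) (LocalizedModule p.primeCompl
              (Y.presheaf.stalk ((Y ↘ Spec (CommRingCat.of A)).fiberι t w) ⧸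
                (maximalIdeal ((Spec (CommRingCat.of A)).presheaf.stalk ((Y ↘ Spec (CommRingCat.of A))
                  ((Y ↘ Spec (CommRingCat.of A)).fiberι t w)))).map
                (algebraMap _ (Y.presheaf.stalk ((Y ↘ Spec (CommRingCat.of A)).fiberι t w))))) := by
  let f := Y ↘ Spec (CommRingCat.of A)
  let ι := f.fiberι t
  let ωt := (Scheme.Modules.pullback ι).obj L
  letI : (f.fiber t).Over (Spec (CommRingCat.of ((Spec (CommRingCat.of A)).residueField t))) :=
    ⟨f.fiberToSpecResidueField t⟩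
  haveI : IsNoetherianRing (CommRingCat.of A) := ‹IsNoetherianRing A›
  haveI : IsLocallyNoetherian Y := LocallyOfFiniteType.isLocallyNoetherian f
  haveI : IsLocallyNoetherian (f.fiber t) :=
    haveI := UOpenLib.lft_fiberToSpec f t
    LocallyOfFiniteType.isLocallyNoetherian (f.fiberToSpecResidueField t)
  have hLt' : RelCanon.IsDualizingSheaf ((Spec (CommRingCat.of A)).residueField t) (f.fiber t) d ωt := hLt
  obtain ⟨g₀, sq⟩ := exists_fibre_square (A := A) (Y := Y) t
  haveI : IsProper (f.fiber t ↘ Spec (CommRingCat.of ((Spec (CommRingCat.of A)).residueField t))) :=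
    MorphismProperty.of_isPullback (P := @IsProper) sq inferInstance
  haveI : Flat (f.fiber t ↘ Spec (CommRingCat.of ((Spec (CommRingCat.of A)).residueField t))) :=
    MorphismProperty.of_isPullback (P := @Flat) sq inferInstance
  have hdt := FibDimLib.hasRelDim_baseChange sq hd
  have hSt := isSkMor_baseChange hS sq
  obtain ⟨φ, hφ⟩ := exists_canonical_map hd hS hω t hLt'
  have hcω := QGorSecLib.isCoh_dualizing hd hω
  have hct : Coh.IsCoh ωt := ConsLib.isCoh_pullback ι hL
  have hcp := ConsLib.isCoh_pullback ι hcω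
  haveI := hcω.1
  let A₀ := (Spec (CommRingCat.of A)).presheaf.stalk (f (ι w))
  let B := Y.presheaf.stalk (ι w)
  let C := (f.fiber t).presheaf.stalk w
  letI : Algebra A₀ B := (f.stalkMap (ι w)).hom.toAlgebra
  letI : Algebra B C := (ι.stalkMap w).hom.toAlgebra
  let K := ω.presheaf.stalk (ι w)
  let P := L.presheaf.stalk (ι w)
  let N₁ := ((Scheme.Modules.pullback ι).obj ω).presheaf.stalk w
  let N₂ := ωt.presheaf.stalk w
  letI : Module B N₁ := Module.compHom N₁ (algebraMap B C)
  letI : Module B N₂ := Module.compHom N₂ (algebraMap B C)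
  haveI : IsScalarTower B C N₁ := IsScalarTower.of_algebraMap_smul fun _ _ => rfl
  haveI : IsScalarTower B C N₂ := IsScalarTower.of_algebraMap_smul fun _ _ => rfl
  haveI : Module.Finite C N₁ := ZClosLib.finite_stalk hcp w
  haveI : Module.Finite C N₂ := ZClosLib.finite_stalk hct w
  obtain ⟨hsC, hker⟩ := Groth.Agent.S9501.result f t w
  replace hsC : Function.Surjective (algebraMap B C) := hsC
  let I : Ideal B := (maximalIdeal A₀).map (algebraMap A₀ B)
  replace hker : RingHom.ker (algebraMap B C) = I := hker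
  obtain ⟨eK⟩ := nonempty_quot_stalk_equiv f ω t w
  obtain ⟨eP₀⟩ := nonempty_quot_stalk_equiv f L t w
  let eP : Pq (B := B) A₀ P 0 ≃ₗ[B] N₂ :=
    (Submodule.quotEquivOfEq (sub (B := B) (maximalIdeal A₀ ^ (0 + 1)) P) (sub (B := B) (maximalIdeal A₀) P)
      (by rw [zero_add, pow_one])).trans eP₀
  let φw : N₁ →ₗ[C] N₂ := RefHull.stalkMapₗ φ w
  let σ : K →ₗ[B] Pq (B := B) A₀ P 0 :=
    eP.symm.toLinearMap.comp ((φw.restrictScalars B).comp (eK.toLinearMap.comp (Submodule.mkQ _)))
  have hEnd := bijective_smul_stalk hdt hLt' hSt w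
  let eC : (B ⧸ I) ≃ₗ[B] C := ((Ideal.quotientEquivAlgOfEq B hker.symm).trans
    (Ideal.quotientKerAlgEquivOfSurjective (f := Algebra.ofId B C) hsC)).toLinearEquiv
  refine ⟨σ, fun ψ => ?_, fun b hb => ?_, fun p hp hIp => ?_⟩
  · obtain ⟨c, hc⟩ := hEnd.2 ((eP.toLinearMap.comp (ψ.comp eP.symm.toLinearMap)).extendScalarsOfSurjective hsC)
    obtain ⟨b, rfl⟩ := hsC c
    refine ⟨b, fun z => eP.injective ?_⟩
    have h1 : algebraMap B C b • eP z = eP (ψ (eP.symm (eP z))) := LinearMap.congr_fun hc (eP z)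
    rw [eP.symm_apply_apply, algebraMap_smul] at h1
    rw [map_smul, h1]
  · show b ∈ I
    rw [← hker, RingHom.mem_ker]
    refine hEnd.1 (LinearMap.ext fun y => ?_)
    show algebraMap B C b • y = (0 : C) • y
    rw [zero_smul, algebraMap_smul, ← eP.apply_symm_apply y, ← map_smul, hb, map_zero]
  obtain ⟨v, hvw, hιv, key⟩ := exists_generization f t w p (hker.trans_le hIp)
  refine ⟨v, hvw, hιv, fun hvW => ?_, ?_, ?_⟩
  rotate_left
  · rw [depth_localized_congr p eP]
    exact (key ωt hct).symm
  · obtain ⟨u⟩ := RefHullLib.nonempty_stalk_unit (f.fiber t) w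
    obtain ⟨u'⟩ := RefHullLib.nonempty_stalk_unit (f.fiber t) v
    letI : Module B ((Coh.structureModule (f.fiber t)).presheaf.stalk w) := Module.compHom _ (algebraMap B C)
    haveI : IsScalarTower B C ((Coh.structureModule (f.fiber t)).presheaf.stalk w) :=
      IsScalarTower.of_algebraMap_smul fun _ _ => rfl
    refine Eq.trans ?_ (depth_localized_congr p (eC.trans (u.restrictScalars B))).symm
    rw [key _ (DevissLib.isCoh_structureModule _), ← CommAlgDim.depth_congr u']
  -- the Cohen-Macaulay points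
  let q := (CycDivLib.primeOf hvw).asIdeal
  have hpz : CycDivLib.primeOf (hvw.map ι.continuous) = ⟨p, hp⟩ :=
    EquidimLib.stalkPt_injective (ι w) ((CycDivLib.stalkPt_primeOf (hvw.map ι.continuous)).trans hιv)
  have hqp : q.comap (algebraMap B C) = p := by
    have h1 : EquidimLib.stalkPt (ι w) (PrimeSpectrum.comap (ι.stalkMap w).hom (CycDivLib.primeOf hvw)) = ι v := by
      conv_rhs => rw [← CycDivLib.stalkPt_primeOf hvw]
      exact congr($(Scheme.SpecMap_stalkMap_fromSpecStalk (f := ι) (x := w)).base (CycDivLib.primeOf hvw))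
    exact congrArg PrimeSpectrum.asIdeal (EquidimLib.stalkPt_injective (ι w) (h1.trans hιv))
  obtain ⟨g, hg, ρ₀, hρ1, hρ2⟩ := exists_inverse_at hcp hct φ hvw (hφ v hvW)
  obtain ⟨gb, rfl⟩ := hsC g
  have hgp : gb ∉ p := fun h => hg ((Ideal.mem_comap).1 (hqp.ge h))
  refine ⟨?_, fun E _ _ _ i π hI hi hex hπ => ?_, gb, hgp,
    eK.symm.toLinearMap.comp ((ρ₀.restrictScalars B).comp eP.toLinearMap), fun k => eK.injective ?_, fun z k hk => eP.injective ?_⟩
  · have hfl := isFlatOverAt_dualizing hd hω hvW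
    have hfib : ∀ x : f.fiber t, f (ι x) = t := fun x => (f.range_fiberι t).le ⟨x, rfl⟩
    have hrel := relAt_of_flat f ω (hvw.map ι.continuous) ((hfib v).trans (hfib w).symm) hfl
    rw [hpz] at hrel
    exact hrel
  · let sC : C →+* AddMonoid.End E :=
      RingHom.liftOfSurjective (algebraMap B C) hsC ⟨Module.toAddMonoidEnd B E, fun b hb =>
        AddMonoidHom.ext fun x => hI b (hker.le hb) x⟩
    letI : Module C E := Module.compHom E sC
    haveI : IsScalarTower B C E := IsScalarTower.of_algebraMap_smul fun b x => by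
      show sC (algebraMap B C b) x = b • x
      rw [show sC (algebraMap B C b) = Module.toAddMonoidEnd B E b from
        RingHom.liftOfSurjective_comp_apply (algebraMap B C) hsC _ b]
      rfl
    let i' : N₂ →ₗ[C] E := (i.comp eP.symm.toLinearMap).extendScalarsOfSurjective hsC
    let π' : E →ₗ[C] N₁ := (eK.toLinearMap.comp π).extendScalarsOfSurjective hsC
    have hi' : Function.Injective i' := hi.comp eP.symm.injective
    have hex' : Function.Exact i' π' := fun x => by
      constructor
      · intro hx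
        obtain ⟨y, hy⟩ := (hex x).1 (eK.injective (hx.trans (map_zero eK).symm))
        exact ⟨eP y, (congrArg i (eP.symm_apply_apply y)).trans hy⟩
      · rintro ⟨y, rfl⟩
        exact (congrArg eK ((hex _).2 ⟨_, rfl⟩)).trans (map_zero eK)
    have hπ' : Function.Surjective π' := eK.surjective.comp hπ
    -- pull back to an extension of the dualizing stalk by itself
    let E₂ := LinearMap.ker (π'.comp (LinearMap.fst C E N₂) - ρ₀.comp (LinearMap.snd C E N₂))
    have hmem : ∀ x, x ∈ E₂ ↔ π' x.1 = ρ₀ x.2 := fun x => by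
      simp only [E₂, LinearMap.mem_ker, LinearMap.sub_apply, sub_eq_zero]; rfl
    let i₂ : N₂ →ₗ[C] E₂ := (LinearMap.prod i' 0).codRestrict _ fun y =>
      (hmem _).2 (((hex' _).2 ⟨y, rfl⟩).trans (map_zero ρ₀).symm)
    let π₂ : E₂ →ₗ[C] N₂ := (LinearMap.snd C E N₂).comp E₂.subtype
    letI := ((f.fiber t).presheaf.stalkSpecializes hvw).hom.toAlgebra
    letI := Module.compHom (ωt.presheaf.stalk v) ((f.fiber t).presheaf.stalkSpecializes hvw).hom
    haveI : IsScalarTower C ((f.fiber t).presheaf.stalk v) (ωt.presheaf.stalk v) :=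
      IsScalarTower.of_algebraMap_smul fun _ _ => rfl
    haveI := CycDivLib.isLocalization_stalkSpecializes hvw
    haveI := hct.1
    haveI := isLocalizedModule_specLin ωt hvw
    obtain ⟨c, hc, h, hh⟩ := exists_split_of_localization q.primeCompl ((f.fiber t).presheaf.stalk v)
      (specLin ωt hvw) i₂ π₂ (fun a b hab => hi' (congrArg Prod.fst (congrArg Subtype.val hab)))
      (fun x => by
        constructor
        · intro hx
          obtain ⟨y, hy⟩ := (hex' x.1.1).1 (((hmem _).1 x.2).trans ((congrArg ρ₀ hx).trans (map_zero ρ₀)))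
          exact ⟨y, Subtype.ext (Prod.ext hy hx.symm)⟩
        · rintro ⟨y, rfl⟩; rfl)
      (fun y => by
        obtain ⟨x, hx⟩ := hπ' (ρ₀ y)
        exact ⟨⟨(x, y), (hmem _).2 hx⟩, rfl⟩)
      fun X _ _ i'' π'' h1 h2 h3 => split_stalk_of_cm hdt hLt' (isCMAt_of_mem_cmOpen sq hvW) X i'' π'' h1 h2 h3
    obtain ⟨cb, rfl⟩ := hsC c
    refine ⟨cb * gb, fun h => (hp.mem_or_mem h).elim (fun h' => hc ((Ideal.mem_comap).1 (hqp.ge h'))) hgp,
      ((((LinearMap.fst C E N₂).comp E₂.subtype).comp (h.comp φw)).restrictScalars B).comp eK.toLinearMap,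
      LinearMap.ext fun x => eK.injective ?_⟩
    show π' ((h (φw (eK x))).1.1) = eK ((cb * gb) • x)
    have h4 : (h (φw (eK x))).1.2 = algebraMap B C cb • φw (eK x) := LinearMap.congr_fun hh (φw (eK x))
    rw [(hmem _).1 (h (φw (eK x))).2, h4, map_smul, map_smul, hρ1, smul_smul, ← map_mul, algebraMap_smul]
  · show eK (eK.symm (ρ₀ (eP (σ k)))) = eK (gb • Submodule.Quotient.mk k)
    rw [eK.apply_symm_apply, map_smul, show eP (σ k) = φw (eK (Submodule.Quotient.mk k)) from eP.apply_symm_apply _,
      hρ1, algebraMap_smul]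
  · show eP (σ k) = eP (gb • z)
    rw [show eP (σ k) = φw (eK (Submodule.Quotient.mk k)) from eP.apply_symm_apply _, ← hk]
    show φw (eK (eK.symm (ρ₀ (eP z)))) = _
    rw [eK.apply_symm_apply, map_smul, hρ2, algebraMap_smul]

end QGorLiftLib
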