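import Groth.Agent.QGorLiftLib.CanMain
import Groth.Agent.QGorLiftLib.Group

/-!
# Reflexive powers of the relative canonical sheaf along a virtually ℚ-Gorenstein fibre
-/

set_option autoImplicit false
set_option linter.style.haveILetI false
set_option linter.unusedSectionVars false
set_option backward.isDefEq.respectTransparency false
set_option backward.isDefEq.respectTransparency.types false
set_option maxHeartbeats 1000000
set_option synthInstance.maxHeartbeats 200000

noncomputable section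

universe u

open CategoryTheory CategoryTheory.Limits AlgebraicGeometry IsLocalRing TopologicalSpace
open Groth.Agent
open scoped TensorProduct

attribute [local instance] HasDerivedCategory.standard

namespace QGorLiftLib

/-- A property of all points of fibres is checked at the points `asFiber z`. -/
theorem fiber_induction {X S : Scheme.{u}} (f : X ⟶ S) (P : ∀ s : S, f.fiber s → Prop)
    (h : ∀ z : X, P (f z) (f.asFiber z)) (s : S) (v : f.fiber s) : P s v := by
  have hs : f (f.fiberι s v) = s := (f.range_fiberι s).le ⟨v, rfl⟩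
  generalize hz : f.fiberι s v = z at hs
  subst hs
  obtain rfl : f.asFiber z = v := (f.fiberι _).isEmbedding.injective ((f.fiberι_asFiber z).trans hz.symm)
  exact h z

/-- Tensor powers of modules with isomorphic stalks have isomorphic stalks. -/
theorem nonempty_tensorPow_stalk_equiv {X : Scheme.{u}} {M N : X.Modules} (z : X)
    (e : M.presheaf.stalk z ≃ₗ[X.presheaf.stalk z] N.presheaf.stalk z) : ∀ k : ℕ,
    Nonempty ((CohB1.tensorPow M k).presheaf.stalk z ≃ₗ[X.presheaf.stalk z] (CohB1.tensorPow N k).presheaf.stalk z)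
  | 0 => ⟨LinearEquiv.refl _ _⟩
  | k + 1 => by
    obtain ⟨e'⟩ := nonempty_tensorPow_stalk_equiv z e k
    exact ⟨(LinearEquiv.ofBijective (KFlatLib.stalkTensorLin (CohB1.tensorPow M k) M z)
        (KFlatLib.stalkTensorLin_bijective (CohB1.tensorPow M k) M z)).symm.trans
      ((TensorProduct.congr e' e).trans (LinearEquiv.ofBijective (KFlatLib.stalkTensorLin (CohB1.tensorPow N k) N z)
        (KFlatLib.stalkTensorLin_bijective (CohB1.tensorPow N k) N z)))⟩

/-- Duals of modules with isomorphic stalks have isomorphic stalks. -/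
theorem nonempty_dual_stalk_equiv {X : Scheme.{u}} [IsLocallyNoetherian X] {M N : X.Modules} (hM : Coh.IsCoh M)
    (hN : Coh.IsCoh N) (z : X) (e : M.presheaf.stalk z ≃ₗ[X.presheaf.stalk z] N.presheaf.stalk z) :
    Nonempty ((RefHull.dual M).presheaf.stalk z ≃ₗ[X.presheaf.stalk z] (RefHull.dual N).presheaf.stalk z) := by
  obtain ⟨a⟩ := RefHullLib.nonempty_dual_stalk hM z
  obtain ⟨b⟩ := RefHullLib.nonempty_dual_stalk hN z
  exact ⟨a.trans (e.symm.dualMap.trans b.symm)⟩

/-- Reflexive powers of modules with isomorphic stalks have isomorphic stalks. -/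
theorem nonempty_refPowZ_stalk_equiv {X : Scheme.{u}} [IsLocallyNoetherian X] {M N : X.Modules} (hM : Coh.IsCoh M)
    (hN : Coh.IsCoh N) (z : X) (e : M.presheaf.stalk z ≃ₗ[X.presheaf.stalk z] N.presheaf.stalk z) : ∀ m : ℤ,
    Nonempty ((RelCanon.refPowZ M m).presheaf.stalk z ≃ₗ[X.presheaf.stalk z]
      (RelCanon.refPowZ N m).presheaf.stalk z) := by
  have dd : ∀ {P Q : X.Modules}, Coh.IsCoh P → Coh.IsCoh Q →
      (P.presheaf.stalk z ≃ₗ[X.presheaf.stalk z] Q.presheaf.stalk z) →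
      Nonempty ((RefHull.ddual P).presheaf.stalk z ≃ₗ[X.presheaf.stalk z] (RefHull.ddual Q).presheaf.stalk z) := by
    intro P Q hP hQ e
    obtain ⟨a⟩ := nonempty_dual_stalk_equiv hP hQ z e
    exact nonempty_dual_stalk_equiv (RefHullLib.isCoh_dual hP) (RefHullLib.isCoh_dual hQ) z a
  intro m
  cases m with
  | ofNat n =>
    obtain ⟨a⟩ := nonempty_tensorPow_stalk_equiv z e n
    exact dd (QGorBCLib.isCoh_tensorPow hM n) (QGorBCLib.isCoh_tensorPow hN n) a
  | negSucc n =>
    obtain ⟨b⟩ := nonempty_dual_stalk_equiv hM hN z e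
    obtain ⟨a⟩ := nonempty_tensorPow_stalk_equiv z b (n + 1)
    exact dd (QGorBCLib.isCoh_tensorPow (RefHullLib.isCoh_dual hM) _)
      (QGorBCLib.isCoh_tensorPow (RefHullLib.isCoh_dual hN) _) a

/-- A reflexive module is locally its first reflexive power. -/
theorem nonempty_refPowZ_one_stalk_equiv {X : Scheme.{u}} [IsLocallyNoetherian X] {L : X.Modules} (hL : Coh.IsCoh L)
    (hr : RefHull.IsReflexive L) (z : X) :
    Nonempty ((RelCanon.refPowZ L 1).presheaf.stalk z ≃ₗ[X.presheaf.stalk z] L.presheaf.stalk z) := by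
  obtain ⟨a⟩ := nonempty_dual_stalk_equiv (QGorBCLib.isCoh_tensorPow hL 1) hL z (stalkEquiv (HilbPolyLib.unitLeft L) z)
  obtain ⟨b⟩ := nonempty_dual_stalk_equiv (RefHullLib.isCoh_dual (QGorBCLib.isCoh_tensorPow hL 1))
    (RefHullLib.isCoh_dual hL) z a
  haveI : IsIso (RefHull.bidualMap L) := hr
  exact ⟨b.trans (stalkEquiv (asIso (RefHull.bidualMap L)) z).symm⟩

variable {A : Type u} [CommRing A] [IsNoetherianRing A] {Y : Scheme.{u}} [Y.Over (Spec (CommRingCat.of A))]
  [IsProper (Y ↘ Spec (CommRingCat.of A))] [Flat (Y ↘ Spec (CommRingCat.of A))] {d : ℕ}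
  (hd : Cyc.HasRelDim (Y ↘ Spec (CommRingCat.of A)) d)
  (hS : RelCanon.IsSkMor (Y ↘ Spec (CommRingCat.of A)) 2)
  {ω : Y.Modules} (hω : RelCanon.IsDualizingSheaf A Y d ω) {L : Y.Modules} (hL : Coh.IsCoh L)
  (hLf : FlatMod.IsFlatOver (Y ↘ Spec (CommRingCat.of A)) L)
  (t : Spec (CommRingCat.of A)) (hLt : RelCanon.IsDualizingSheafFib (Y ↘ Spec (CommRingCat.of A)) d L t)
  (hG : ∀ y : Y, y ∉ RelCanon.gorLocus (Y ↘ Spec (CommRingCat.of A)) → (2 : WithBot ℕ∞) ≤
    ringKrullDim (((Y ↘ Spec (CommRingCat.of A)).fiber ((Y ↘ Spec (CommRingCat.of A)) y)).presheaf.stalk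
      ((Y ↘ Spec (CommRingCat.of A)).asFiber y)))

include hd hS hω hL hLf hLt hG in
/-- With the power of the canonical sheaf invertible along the fibre, that of the deformation is too. -/
theorem invertibleAt_refPowZ_deformation (r : ℤ)
    (hLr : RelCanon.RelSk (Y ↘ Spec (CommRingCat.of A)) 2 (RelCanon.refPowZ L r))
    (hωr : ∀ y : Y, (Y ↘ Spec (CommRingCat.of A)) y = t → RelCanon.InvertibleAt (RelCanon.refPowZ ω r) y)
    (w : (Y ↘ Spec (CommRingCat.of A)).fiber t) :
    RelCanon.InvertibleAt (RelCanon.refPowZ L r) ((Y ↘ Spec (CommRingCat.of A)).fiberι t w) := by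
  let f := Y ↘ Spec (CommRingCat.of A)
  haveI : IsNoetherianRing (CommRingCat.of A) := ‹IsNoetherianRing A›
  haveI : IsLocallyNoetherian Y := LocallyOfFiniteType.isLocallyNoetherian f
  haveI : IsLocallyNoetherian (f.fiber t) :=
    haveI := UOpenLib.lft_fiberToSpec f t
    LocallyOfFiniteType.isLocallyNoetherian (f.fiberToSpecResidueField t)
  let ι := f.fiberι t
  let ωt := (Scheme.Modules.pullback ι).obj L
  have hfz : ∀ x : f.fiber t, f (ι x) = t := fun x => (f.range_fiberι t).le ⟨x, rfl⟩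
  have hcω := QGorSecLib.isCoh_dualizing hd hω
  have hct : Coh.IsCoh ωt := ConsLib.isCoh_pullback ι hL
  let U : Y.Opens := QGorBCLib.gorOpen A Y ⊓ ⟨{y | RelCanon.InvertibleAt L y}, isOpen_iff_forall_mem_open.2
    fun y ⟨O, hyO, e⟩ => ⟨O, fun x hx => ⟨O, hx, e⟩, O.2, hyO⟩⟩
  have hcm : ∀ v, ι v ∈ U → ι v ∈ cmOpen A Y := fun v hv => ⟨hv.1.1, CMFlatLib.cm_of_gorenstein hv.1.2⟩
  have hout : ∀ v, ι v ∉ U → (2 : WithBot ℕ∞) ≤ ringKrullDim ((f.fiber t).presheaf.stalk v) := by
    intro v hv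
    rw [AlgSpLib.stalkDim_fiber_congr f t v (ι v) rfl]
    refine hG _ fun hg => hv ⟨hg, ?_⟩
    obtain ⟨e₀⟩ := nonempty_stalk_equiv_of_cm hd hS hω hL hLf t hLt v ⟨hg.1, CMFlatLib.cm_of_gorenstein hg.2⟩
    obtain ⟨a⟩ := QGorBCLib.nonempty_stalk_equiv (QGorSecLib.invertibleAt_dualizing hd hω hg)
    exact QGorDescLib.invertibleAt_of_stalk hL (e₀.symm.trans a)
  have hωU : PicF.IsInvertible (ω.restrict U.ι) := QGorBCLib.isInvertible_restrict_of_invertibleAt
    fun y hy => QGorSecLib.invertibleAt_dualizing hd hω hy.1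
  have hLU : PicF.IsInvertible (L.restrict U.ι) := QGorBCLib.isInvertible_restrict_of_invertibleAt fun y hy => hy.2
  obtain ⟨φ, hφ⟩ := exists_canonical_map hd hS hω t hLt
  haveI := RefHullLib.isIso_restrict (ι ⁻¹ᵁ U).ι φ fun v => hφ _ (hcm _ v.2)
  obtain ⟨e₁⟩ := QGorBCLib.nonempty_refPowZ_pullback_restrict ι (F' := ωt) hL hct hLU (Iso.refl _) r
  obtain ⟨e₂⟩ := QGorBCLib.nonempty_refPowZ_pullback_restrict ι (F' := ωt) hcω hct hωU
    (asIso ((Scheme.Modules.restrictFunctor (ι ⁻¹ᵁ U).ι).map φ)) r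
  let M := (Scheme.Modules.pullback ι).obj (RelCanon.refPowZ L r)
  have hM : Coh.IsCoh M := ConsLib.isCoh_pullback ι (QGorBCLib.isCoh_refPowZ hL r)
  have hN := ConsLib.isCoh_pullback ι (QGorBCLib.isCoh_refPowZ hcω r)
  have hsupp : CohB1.support M = Set.univ := Set.eq_univ_of_forall fun v => by
    haveI := hM.1
    obtain ⟨ξ, hξv, hmax⟩ := AlgSpLib.exists_maximal_generization v
    refine hξv.mem_closed (QCohLib.isClosed_support M hM.2) ?_
    have hξ : ι ξ ∈ U := by
      by_contra hn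
      have h := hout ξ hn
      rw [AlgSpLib.stalkDim_eq_zero_of_maximal ξ hmax] at h
      exact absurd h (by decide)
    exact QGorBCLib.mem_support_of_invertibleAt (QGorBCLib.invertibleAt_pullback ι
      (QGorBCLib.invertibleAt_of_isInvertible_restrict (QGorBCLib.isInvertible_refPowZ_restrict hL hLU r) _ hξ))
  have hskM : ∀ v, RelCanon.SkAt 2 M v := fiber_induction f
    (fun s v => RelCanon.SkAt 2 ((Scheme.Modules.pullback (f.fiberι s)).obj (RelCanon.refPowZ L r)) v)
    (fun z => (hLr z).2) t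
  have hskO : ∀ v, RelCanon.SkAt 2 (Coh.structureModule (f.fiber t)) v := fiber_induction f
    (fun s v => RelCanon.SkAt 2 (Coh.structureModule (f.fiber s)) v) hS.2.2 t
  obtain ⟨a⟩ := nonempty_stalk_equiv_of_restrict_iso (ι ⁻¹ᵁ U) ⊤ hM hN
    (fun v _ hv => by exact_mod_cast le_depth_of_skAt hM hsupp specializes_rfl (hskM v) (by exact_mod_cast hout v hv))
    (fun v _ hv => by
      obtain ⟨b⟩ := QGorBCLib.nonempty_stalk_equiv (QGorBCLib.invertibleAt_pullback ι (hωr _ (hfz v)))
      rw [CommAlgDim.depth_congr b]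
      exact_mod_cast le_depth_self_of_skAt specializes_rfl (hskO v) (by exact_mod_cast hout v hv))
    (e₁ ≪≫ e₂.symm) (z := w) trivial
  obtain ⟨b⟩ := QGorBCLib.nonempty_stalk_equiv (QGorBCLib.invertibleAt_pullback ι (hωr _ (hfz w)))
  exact QGorIdxLib.invertibleAt_of_fibre' f (QGorBCLib.isCoh_refPowZ hL r) t w (hLr _).1
    (QGorDescLib.invertibleAt_of_stalk hM (a.trans b))

include hd hS hω hL hLf hLt in
/-- Where the stalks of the canonical sheaf and of the deformation agree, the powers have relative `S₂`. -/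
theorem relSkAt_refPowZ_of_deformation (m : ℤ)
    (hLm : RelCanon.RelSk (Y ↘ Spec (CommRingCat.of A)) 2 (RelCanon.refPowZ L m)) (z : Y)
    (e : ω.presheaf.stalk z ≃ₗ[Y.presheaf.stalk z] L.presheaf.stalk z) :
    RelCanon.RelSkAt (Y ↘ Spec (CommRingCat.of A)) 2 (RelCanon.refPowZ ω m) z := by
  let f := Y ↘ Spec (CommRingCat.of A)
  haveI : IsNoetherianRing (CommRingCat.of A) := ‹IsNoetherianRing A›
  haveI : IsLocallyNoetherian Y := LocallyOfFiniteType.isLocallyNoetherian f
  obtain ⟨E⟩ := nonempty_refPowZ_stalk_equiv (QGorSecLib.isCoh_dualizing hd hω) hL z e m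
  refine ⟨isFlatOverAt_congr f E.symm (hLm z).1, ?_⟩
  obtain ⟨E'⟩ : Nonempty ((RelCanon.refPowZ ω m).presheaf.stalk (f.fiberι (f z) (f.asFiber z))
      ≃ₗ[Y.presheaf.stalk (f.fiberι (f z) (f.asFiber z))]
        (RelCanon.refPowZ L m).presheaf.stalk (f.fiberι (f z) (f.asFiber z))) := by
    rw [f.fiberι_asFiber]; exact ⟨E⟩
  obtain ⟨p⟩ := nonempty_pullback_stalk_equiv (f.fiberι (f z)) (f.asFiber z) E'
  exact DepthLib.hasSk_congr p.symm 2 (hLm z).2

end QGorLiftLib
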