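import Groth.Agent.QGorLiftLib.Surj

/-!
# Lifting of roots of a form across a set of depth two
-/

set_option autoImplicit false

universe u

open IsLocalRing CommAlgDim
open scoped TensorProduct Pointwise

namespace QGorLiftLib

theorem R2.congr {B : Type u} [CommRing B] {a b : B} {X Y : Type u} [AddCommGroup X] [Module B X] [AddCommGroup Y]
    [Module B Y] (e : X ≃ₗ[B] Y) (h : R2 a b X) : R2 a b Y := by
  refine ⟨fun x hx => ?_, fun x y hxy => ?_⟩
  · have := h.1 (e.symm x) (by rw [← map_smul, hx, map_zero])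
    simpa using congrArg e this
  · obtain ⟨z, hz⟩ := h.2 (e.symm x) (e.symm y) (by rw [← map_smul, hxy, map_smul])
    exact ⟨e z, by rw [← map_smul, ← hz, e.apply_symm_apply]⟩

/-- The first two terms of a power of a sum with a square-zero element. -/
theorem add_pow_sq_zero {R : Type u} [CommRing R] (P ε : R) (h : ε * ε = 0) :
    ∀ j : ℕ, (P + ε) ^ j = P ^ j + (j : R) * P ^ (j - 1) * ε
  | 0 => by simp
  | j + 1 => by
    rw [pow_succ, add_pow_sq_zero P ε h j]
    rcases Nat.eq_zero_or_pos j with rfl | hj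
    · simp
    · have hP : P ^ (j - 1) * P = P ^ j := by rw [← pow_succ, Nat.sub_add_cancel hj]
      push_cast
      rw [pow_succ]
      linear_combination ((j : R) * ε) * hP + ((j : R) * P ^ (j - 1)) * h

/-- A power agrees on a square-zero ideal with the power of a congruent element. -/
theorem pow_mul_eq_of_mul_eq {R : Type u} [CommRing R] {x y z : R} (h : x * z = y * z) :
    ∀ j : ℕ, x ^ j * z = y ^ j * z
  | 0 => by simp
  | j + 1 => by linear_combination (x ^ j) * h + y * pow_mul_eq_of_mul_eq h j

variable {B : Type u} [CommRing B] {K : Type u} [AddCommGroup K] [Module B K]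
  {R R' : Type u} [CommRing R] [Algebra B R] [CommRing R'] [Algebra B R']

/-- A root of a form lifts across a square-zero extension when it does so outside a set along which the rings have
depth two. -/
theorem exists_root_lift (π : R →ₐ[B] R') (hπ : Function.Surjective π)
    (hsq : ∀ z z' : R, π z = 0 → π z' = 0 → z * z' = 0) {k : ℕ} (hk : 0 < k) {κ : B} (hκ : κ * k = 1)
    (q : K → B) (hq : ∀ (c : B) (x : K), q (c • x) = c ^ k * q x)
    (φ : K →ₗ[B] R') (hφ : ∀ x, φ x ^ k = algebraMap B R' (q x))
    (hreg : ∀ I : Ideal B,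
      (∀ (p : Ideal B), p.IsPrime → I ≤ p →
        ∀ (g : B) (t : K) (l : K →ₗ[B] B), g ∉ p → (∀ x, g • x = l x • t) → q t ∈ p) →
      ∃ a ∈ I, ∃ b ∈ I, R2 a b R ∧ R2 a b R') :
    ∃ ψ : K →ₗ[B] R, (∀ x, π (ψ x) = φ x) ∧ ∀ x, ψ x ^ k = algebraMap B R (q x) := by
  choose P hP using fun x => hπ (φ x)
  let al := algebraMap B R
  have hker : ∀ (z : R), π z = 0 → ∀ {x y : R}, π x = π y → x * z = y * z := fun z hz x y hxy => by
    have := hsq (x - y) z (by rw [map_sub, hxy, sub_self]) hz
    linear_combination this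
  have hkR : al κ * (k : R) = 1 := by rw [← map_natCast al k, ← map_mul, hκ, map_one]
  let I : Ideal B :=
    { carrier := {f | ∃ ψ : K →ₗ[B] R, (∀ x, π (ψ x) = f • φ x) ∧
        ∀ x, (k : R) * P x ^ (k - 1) * (ψ x - f • P x) = f • (al (q x) - P x ^ k)}
      add_mem' := by
        rintro f g ⟨ψ, h1, h2⟩ ⟨ψ', h1', h2'⟩
        refine ⟨ψ + ψ', fun x => by rw [LinearMap.add_apply, map_add, h1, h1', add_smul], fun x => ?_⟩
        rw [LinearMap.add_apply, add_smul, add_smul]
        linear_combination h2 x + h2' x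
      zero_mem' := ⟨0, fun x => by simp, fun x => by simp⟩
      smul_mem' := by
        rintro c f ⟨ψ, h1, h2⟩
        refine ⟨c • ψ, fun x => by rw [LinearMap.smul_apply, map_smul, h1, smul_smul, smul_eq_mul], fun x => ?_⟩
        rw [LinearMap.smul_apply, smul_eq_mul, mul_smul, ← smul_sub, mul_smul_comm, h2 x, mul_smul] }
  let Good (δ : K →ₗ[B] R) : Prop := ∀ x, π (δ x) = 0 ∧ (k : R) * P x ^ (k - 1) * δ x = 0
  let J : Ideal B :=
    { carrier := {f | ∀ δ, Good δ → ∀ x, f • δ x = 0}
      add_mem' := fun h h' δ hδ x => by rw [add_smul, h δ hδ x, h' δ hδ x, add_zero]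
      zero_mem' := fun δ hδ x => zero_smul _ _
      smul_mem' := fun c f h δ hδ x => by rw [smul_eq_mul, mul_smul, h δ hδ x, smul_zero] }
  have hfac : ∀ (g : B) (t : K) (l : K →ₗ[B] B), (∀ x, g • x = l x • t) → g ^ k * q t ∈ I ∧ g * q t ∈ J := by
    intro g t l hgt
    let G := al g
    let h := al (q t)
    let v := P t
    have hπh : π h = π (v ^ k) := by rw [AlgHom.commutes, map_pow, hP, hφ]
    have hGP : ∀ x, π (G * P x) = π (al (l x) * v) := fun x => by
      rw [map_mul, map_mul, AlgHom.commutes, AlgHom.commutes, hP, hP, ← Algebra.smul_def, ← Algebra.smul_def,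
        ← map_smul, ← map_smul, hgt]
    refine ⟨?_, fun δ hδ x => ?_⟩
    · let d := h - v ^ k
      have hd : π d = 0 := by rw [map_sub, hπh, sub_self]
      refine ⟨l.smulRight (G ^ (k - 1) * (h * v + al κ * d * v)), fun x => ?_, fun x => ?_⟩
      · have hk' : g ^ k = g ^ (k - 1) * g := by rw [← pow_succ, Nat.sub_add_cancel hk]
        rw [LinearMap.smulRight_apply, map_smul, map_mul, map_add, map_mul, map_mul, map_mul, hd, mul_zero, zero_mul,
          add_zero, map_pow, AlgHom.commutes, AlgHom.commutes, hP, Algebra.smul_def, Algebra.smul_def, hk',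
          map_mul, map_mul, map_pow]
        have h1 : algebraMap B R' g * φ x = algebraMap B R' (l x) * φ t := by
          rw [← Algebra.smul_def, ← Algebra.smul_def, ← map_smul, ← map_smul, hgt]
        linear_combination -(algebraMap B R' g ^ (k - 1) * algebraMap B R' (q t)) * h1
      · have hq' : G ^ k * al (q x) = al (l x) ^ k * h := by
          rw [← map_pow, ← map_pow, ← map_mul, ← map_mul, ← hq, ← hq, hgt]
        have hk' : ∀ y : R, y ^ k = y ^ (k - 1) * y := fun y => by rw [← pow_succ, Nat.sub_add_cancel hk]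
        let e := al (l x) * v - G * P x
        have he : π e = 0 := by rw [map_sub, hGP, sub_self]
        rw [LinearMap.smulRight_apply, Algebra.smul_def, Algebra.smul_def, Algebra.smul_def, map_mul, map_pow]
        let W := h * e + al κ * al (l x) * d * v
        have hW : π W = 0 := by
          show π (h * e + al κ * al (l x) * d * v) = 0
          simp [he, hd]
        have e1 : (G * P x) ^ (k - 1) * W = (al (l x) * v) ^ (k - 1) * W :=
          pow_mul_eq_of_mul_eq (hker W hW (hGP x)) _
        have e2 : (al (l x) * v + -e) ^ k =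
            (al (l x) * v) ^ k + (k : R) * (al (l x) * v) ^ (k - 1) * (-e) :=
          add_pow_sq_zero _ _ (by rw [neg_mul_neg]; exact hsq _ _ he he) k
        rw [show al (l x) * v + -e = G * P x by ring] at e2
        have e3 : h * d = v ^ k * d := hker d hd hπh
        rw [mul_pow] at e1
        simp only [mul_pow] at e2
        rw [hk' G, hk' v, hk' (al (l x))] at *
        linear_combination (k : R) * e1 + h * e2 + ((al (l x)) ^ (k - 1) * v ^ (k - 1) * al (l x) * d * v) * hkR
          - (al (l x) ^ (k - 1) * al (l x)) * e3 - h * hq' - (al (l x) ^ (k - 1) * al (l x) * h) * hk' v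
    · obtain ⟨ht0, ht⟩ := hδ t
      have h1 : v ^ k * δ t = 0 := by
        rw [show v ^ k = v ^ (k - 1) * v by rw [← pow_succ, Nat.sub_add_cancel hk]]
        linear_combination (al κ * v) * ht - (v ^ (k - 1) * v * δ t) * hkR
      have h2 : h * δ t = 0 := by rw [hker _ ht0 hπh, h1]
      rw [mul_comm, mul_smul, ← map_smul, hgt, map_smul, Algebra.smul_def, Algebra.smul_def]
      linear_combination al (l x) * h2
  obtain ⟨a, ⟨⟨ψa, ha1, ha2⟩, haJ⟩, b, ⟨⟨ψb, hb1, hb2⟩, hbJ⟩, hR, hR'⟩ := hreg (I ⊓ J) fun p hp hle g t l hg hgt => by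
    by_contra hqt
    obtain ⟨h1, h2⟩ := hfac g t l hgt
    rcases hp.inf_le.1 hle with h | h
    · exact (hp.mem_or_mem (h h1)).elim (fun h3 => hg (hp.mem_of_pow_mem _ h3)) hqt
    · exact (hp.mem_or_mem (h h2)).elim hg hqt
  have hgood : Good (b • ψa - a • ψb) := by
    intro x
    constructor
    · rw [LinearMap.sub_apply, map_sub, LinearMap.smul_apply, LinearMap.smul_apply, map_smul, map_smul, ha1, hb1,
        smul_comm, sub_self]
    · rw [LinearMap.sub_apply, LinearMap.smul_apply, LinearMap.smul_apply]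
      have h1 := ha2 x
      have h2 := hb2 x
      simp only [Algebra.smul_def] at h1 h2 ⊢
      linear_combination algebraMap B R b * h1 - algebraMap B R a * h2
  have hab : ∀ x, b • ψa x = a • ψb x := fun x => sub_eq_zero.1 (hR.1 _ (by
    have := haJ _ hgood x
    rwa [LinearMap.sub_apply] at this))
  choose z hz using fun x => hR.2 (ψa x) (ψb x) (hab x)
  have hinj : ∀ x y : R, a • x = a • y → x = y := fun x y e =>
    sub_eq_zero.1 (hR.1 _ (by rw [smul_sub, e, sub_self]))
  let ψ : K →ₗ[B] R :=
    { toFun := z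
      map_add' := fun x y => hinj _ _ (by rw [smul_add, ← hz, ← hz, ← hz, map_add])
      map_smul' := fun r x => hinj _ _ (by rw [RingHom.id_apply, smul_comm a r, ← hz, ← hz, map_smul]) }
  refine ⟨ψ, fun x => sub_eq_zero.1 (hR'.1 _ ?_), fun x => ?_⟩
  · show a • (π (z x) - φ x) = 0
    rw [smul_sub, ← map_smul, ← hz, ha1, sub_self]
  · have hpx : π (z x) = φ x := sub_eq_zero.1 (hR'.1 _ (by rw [smul_sub, ← map_smul, ← hz, ha1, sub_self]))
    have hε : π (z x - P x) = 0 := by rw [map_sub, hpx, hP, sub_self]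
    have h3 : (k : R) * P x ^ (k - 1) * (z x - P x) = al (q x) - P x ^ k := by
      refine hinj _ _ ?_
      rw [← mul_smul_comm, smul_sub, ← hz, ha2 x]
    show z x ^ k = al (q x)
    have h4 := add_pow_sq_zero (P x) (z x - P x) (hsq _ _ hε hε) k
    rw [add_sub_cancel] at h4
    rw [h4, h3, add_sub_cancel]

end QGorLiftLib
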