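import Groth.Agent.QGorLiftLib.Obstruction
import Mathlib.RingTheory.OrzechProperty

/-!
# Surjectivity of maps between modules of depth two which agree generically
-/

set_option autoImplicit false

universe u

open IsLocalRing CommAlgDim
open scoped TensorProduct Pointwise

namespace QGorLiftLib

variable {B : Type u} [CommRing B] [IsNoetherianRing B] {Q : Type u} [AddCommGroup Q] [Module B Q]
  [Module.Finite B Q]

/-- A regular pair from depth two. -/
theorem exists_R2 (I : Ideal B) (hQ : HasSeqIn I Q 2) : ∃ a ∈ I, ∃ b ∈ I, R2 a b Q := by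
  obtain ⟨a, haI, ha⟩ := exists_isSMulRegular_mem (M := Q) (I := I) ((hasSeqIn_one_iff I).1 (hQ.mono (by omega)))
  obtain ⟨b, hbI, hb⟩ := exists_isSMulRegular_mem (M := QuotSMulTop a Q) (I := I)
    ((hasSeqIn_one_iff I).1 (hQ.quotSMulTop haI ha))
  refine ⟨a, haI, b, hbI, fun x hx => ha (hx.trans (smul_zero a).symm), fun x y h => ?_⟩
  have h1 : (Submodule.Quotient.mk x : QuotSMulTop a Q) = 0 := hb (by
    show b • (Submodule.Quotient.mk x : QuotSMulTop a Q) = b • 0
    rw [smul_zero, ← Submodule.Quotient.mk_smul, h]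
    exact (Submodule.Quotient.mk_eq_zero _).2 (Submodule.smul_mem_pointwise_smul y a ⊤ trivial))
  obtain ⟨z, -, hz⟩ := (Submodule.mem_smul_pointwise_iff_exists _ _ _).1 ((Submodule.Quotient.mk_eq_zero _).1 h1)
  exact ⟨z, hz.symm⟩

/-- An endomorphism of a module of depth two along the points where it is not surjective is surjective. -/
theorem surjective_endo (γ : Q →ₗ[B] Q)
    (hloc : ∀ (p : Ideal B) [p.IsPrime], (∀ q : Q, ∃ f ∉ p, f • q ∈ LinearMap.range γ) ∨
      (2 : ℕ∞) ≤ LocCoh.depth (Localization.AtPrime p) (LocalizedModule p.primeCompl Q)) :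
    Function.Surjective γ := by
  let I : Ideal B := (LinearMap.range γ).colon Set.univ
  have hI : ∀ {c : B}, c ∈ I → ∀ q : Q, c • q ∈ LinearMap.range γ := fun h q =>
    Submodule.mem_colon.1 h q trivial
  obtain ⟨a, ha, b, hb, hab⟩ := exists_R2 (Q := Q) I
    ((hasSeqIn_iff_forall_localization I 2).2 fun p hp hle => by
      refine ?_
      have h2 : (2 : ℕ∞) ≤ LocCoh.depth (Localization.AtPrime p) (LocalizedModule p.primeCompl Q) := by
        refine (hloc p).resolve_left fun h => ?_
        classical
        obtain ⟨n, q, hq⟩ := Submodule.fg_iff_exists_fin_generating_family.1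
          (Module.Finite.fg_top (R := B) (M := Q))
        choose f hf hfq using fun i => h (q i)
        refine (hp.prod_mem_iff.not.2 (by simpa using hf) : ∏ i, f i ∉ p) (hle (Submodule.mem_colon.2 fun x _ => ?_))
        have : (⊤ : Submodule B Q) ≤ (LinearMap.range γ).comap (LinearMap.lsmul B Q (∏ i, f i)) := by
          rw [← hq, Submodule.span_le]
          rintro _ ⟨i, rfl⟩
          show (∏ i, f i) • q i ∈ LinearMap.range γ
          rw [← Finset.prod_erase_mul _ f (Finset.mem_univ i), mul_smul]
          exact Submodule.smul_mem _ _ (hfq i)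
        exact this trivial
      exact_mod_cast h2)
  let S := Submonoid.powers a
  let g := LocalizedModule.mkLinearMap S Q
  let γ' := IsLocalizedModule.map S g g γ
  have hsurj : Function.Surjective γ' := by
    intro z
    obtain ⟨⟨q, s⟩, rfl⟩ := IsLocalizedModule.mk'_surjective S g z
    obtain ⟨u, hu⟩ := hI ha q
    refine ⟨IsLocalizedModule.mk' g u (s * ⟨a, Submonoid.mem_powers a⟩), ?_⟩
    show γ' _ = IsLocalizedModule.mk' g q s
    rw [IsLocalizedModule.map_mk', hu]
    show IsLocalizedModule.mk' g ((⟨a, Submonoid.mem_powers a⟩ : S) • q) _ = _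
    exact IsLocalizedModule.mk'_cancel_right g q s ⟨a, Submonoid.mem_powers a⟩
  haveI : Module.Finite (Localization S) (LocalizedModule S Q) := Module.Finite.of_isLocalizedModule S g
  have hinj' : Function.Injective γ' :=
    OrzechProperty.injective_of_surjective_endomorphism
      (γ'.extendScalarsOfIsLocalization S (Localization S)) hsurj
  have hinj : ∀ q, γ q = 0 → q = 0 := by
    intro q hq
    have h1 : g q = 0 := hinj' (by rw [IsLocalizedModule.map_apply, hq, map_zero, map_zero])
    obtain ⟨⟨_, n, rfl⟩, hc⟩ := (IsLocalizedModule.eq_zero_iff S g).1 h1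
    clear h1 hq
    replace hc : a ^ n • q = 0 := hc
    induction n generalizing q with
    | zero => simpa using hc
    | succ k ih => exact hab.1 q (ih (a • q) (by rw [smul_smul, ← pow_succ]; exact hc))
  intro x
  obtain ⟨u, hu⟩ := hI ha x
  obtain ⟨v, hv⟩ := hI hb x
  obtain ⟨w, hw⟩ := hab.2 u v (sub_eq_zero.1 (hinj _ (by rw [map_sub, map_smul, map_smul, hu, hv, smul_comm,
    sub_self])))
  refine ⟨w, sub_eq_zero.1 (hab.1 _ ?_)⟩
  rw [smul_sub, ← map_smul, ← hw, hu, sub_self]

/-- A map into a module killed by an ideal which is abstractly the reduction of the source is surjective when it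
is so away from a set along which the target has depth two. -/
theorem surjective_of_equiv_quot (I : Ideal B) {N : Type u} [AddCommGroup N] [Module B N] (β : N →ₗ[B] Q)
    (hI : ∀ c ∈ I, ∀ q : Q, c • q = 0) (e : (N ⧸ I • (⊤ : Submodule B N)) ≃ₗ[B] Q)
    (hloc : ∀ (p : Ideal B) [p.IsPrime], (∀ q : Q, ∃ f ∉ p, f • q ∈ LinearMap.range β) ∨
      (2 : ℕ∞) ≤ LocCoh.depth (Localization.AtPrime p) (LocalizedModule p.primeCompl Q)) :
    Function.Surjective β := by
  let β' : (N ⧸ I • (⊤ : Submodule B N)) →ₗ[B] Q := Submodule.liftQ _ β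
    (Submodule.smul_le.2 fun c hc n _ => by rw [LinearMap.mem_ker, map_smul, hI c hc])
  have hr : LinearMap.range (β'.comp e.symm.toLinearMap) = LinearMap.range β := by
    rw [LinearMap.range_comp_of_range_eq_top _ e.symm.range, Submodule.range_liftQ]
  have := surjective_endo (β'.comp e.symm.toLinearMap) fun p hp => by rw [hr]; exact hloc p
  rw [← LinearMap.range_eq_top] at this ⊢
  rwa [hr] at this

end QGorLiftLib
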