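import Groth.Agent.QGorLiftLib.LocalBC

/-!
# Lifting along an infinitesimal thickening of a fibre
-/

set_option autoImplicit false
set_option linter.style.haveILetI false
set_option linter.unusedSectionVars false
set_option backward.isDefEq.respectTransparency false
set_option backward.isDefEq.respectTransparency.types false
set_option maxHeartbeats 1000000
set_option synthInstance.maxHeartbeats 200000

noncomputable section

universe u

open CategoryTheory CategoryTheory.Limits AlgebraicGeometry IsLocalRing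
open Groth.Agent
open CubeConsLib (IsoCls cl cl_eq_iff pull pull_cl)
open scoped TensorProduct

attribute [local instance] HasDerivedCategory.standard

namespace QGorLiftLib

/-- The stalks of a thickened fibre are the expected quotients. -/
theorem ker_stalkMap_thick_le {X S X' : Scheme.{u}} (f : X ⟶ S) (p : X' ⟶ X) (k : ℕ) (y' : X')
    (f' : X' ⟶ Spec (CommRingCat.of (S.presheaf.stalk (f (p y')) ⧸ maximalIdeal (S.presheaf.stalk (f (p y'))) ^ (k + 1))))
    (sq : IsPullback p f' f (Spec.map (CommRingCat.ofHom (Ideal.Quotient.mk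
      (maximalIdeal (S.presheaf.stalk (f (p y'))) ^ (k + 1)))) ≫ S.fromSpecStalk (f (p y')))) :
    RingHom.ker (p.stalkMap y').hom ≤
      (maximalIdeal (S.presheaf.stalk (f (p y'))) ^ (k + 1)).map (f.stalkMap (p y')).hom := by
  intro a ha
  let x := p y'
  let A := X.presheaf.stalk x
  let m := maximalIdeal (S.presheaf.stalk (f x)) ^ (k + 1)
  let I : Ideal A := m.map (f.stalkMap x).hom
  have hI : I ≠ ⊤ := fun h => (maximalIdeal.isMaximal A).ne_top
    (top_le_iff.1 (h.ge.trans (Ideal.map_le_iff_le_comap.2 fun b hb hu =>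
      ((Ideal.pow_le_self (Nat.succ_ne_zero k)) hb : b ∈ maximalIdeal _) (isUnit_of_map_unit (f.stalkMap x).hom b hu))))
  haveI : Nontrivial (A ⧸ I) := Ideal.Quotient.nontrivial_iff.2 hI
  haveI : IsLocalRing (A ⧸ I) := .of_surjective' _ Ideal.Quotient.mk_surjective
  haveI : IsLocalHom (Ideal.Quotient.mk I) := .of_surjective _ Ideal.Quotient.mk_surjective
  haveI : IsPreimmersion (Spec.map (CommRingCat.ofHom (Ideal.Quotient.mk m))) :=
    haveI := IsClosedImmersion.spec_of_surjective (CommRingCat.ofHom (Ideal.Quotient.mk m))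
      Ideal.Quotient.mk_surjective
    inferInstance
  haveI : IsPreimmersion p := MorphismProperty.of_isPullback (P := @IsPreimmersion) sq.flip inferInstance
  let q : Spec (CommRingCat.of (A ⧸ I)) ⟶ X :=
    Spec.map (CommRingCat.ofHom (Ideal.Quotient.mk I)) ≫ X.fromSpecStalk x
  let φ : (S.presheaf.stalk (f x) ⧸ m) →+* A ⧸ I :=
    Ideal.Quotient.lift _ ((Ideal.Quotient.mk I).comp (f.stalkMap x).hom) fun b hb =>
      Ideal.Quotient.eq_zero_iff_mem.2 (Ideal.mem_map_of_mem _ hb)
  have hq : q ≫ f = Spec.map (CommRingCat.ofHom φ) ≫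
      Spec.map (CommRingCat.ofHom (Ideal.Quotient.mk m)) ≫ S.fromSpecStalk (f x) := by
    rw [← Spec.map_comp_assoc, Category.assoc, ← Scheme.SpecMap_stalkMap_fromSpecStalk, ← Spec.map_comp_assoc]
    rfl
  let l := sq.lift q (Spec.map (CommRingCat.ofHom φ)) hq
  have hl : l ≫ p = q := sq.lift_fst _ _ _
  have hzy : l (closedPoint _) = y' := by
    apply p.isEmbedding.injective
    rw [← Scheme.Hom.comp_apply, hl, Scheme.Hom.comp_apply, Spec_closedPoint (f := CommRingCat.ofHom (Ideal.Quotient.mk I))]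
    exact Scheme.fromSpecStalk_closedPoint
  have key : ∀ (z : X') (cl : X'.presheaf.stalk z ⟶ CommRingCat.of (A ⧸ I)), z = y' →
      l = Spec.map cl ≫ X'.fromSpecStalk z →
      ∃ cl' : X'.presheaf.stalk y' ⟶ CommRingCat.of (A ⧸ I), l = Spec.map cl' ≫ X'.fromSpecStalk y' := by
    rintro z cl rfl h
    exact ⟨cl, h⟩
  obtain ⟨cl, hcl⟩ := key _ _ hzy (Scheme.Spec_stalkClosedPointTo_fromSpecStalk l).symm
  have hmk : CommRingCat.ofHom (Ideal.Quotient.mk I) = p.stalkMap y' ≫ cl := by
    apply Spec.map_injective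
    rw [← cancel_mono (X.fromSpecStalk x), Spec.map_comp, Category.assoc,
      Scheme.SpecMap_stalkMap_fromSpecStalk, ← Category.assoc, ← hcl, hl]
  have h := ConcreteCategory.congr_hom hmk a
  rw [CategoryTheory.comp_apply, show p.stalkMap y' a = 0 from ha, map_zero] at h
  exact Ideal.Quotient.eq_zero_iff_mem.1 h

/-- Duals commute with pullback where the module is invertible. -/
theorem nonempty_dual_pullback_restrict {X' X : Scheme.{u}} [IsLocallyNoetherian X] [IsLocallyNoetherian X'] (p : X' ⟶ X)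
    (G : X.Opens) {T : X.Modules} (hTG : PicF.IsInvertible (T.restrict G.ι)) :
    Nonempty ((RefHull.dual ((Scheme.Modules.pullback p).obj T)).restrict (p ⁻¹ᵁ G).ι ≅
      ((Scheme.Modules.pullback p).obj (RefHull.dual T)).restrict (p ⁻¹ᵁ G).ι) := by
  let Tt := (Scheme.Modules.pullback p).obj T
  have hTtG : PicF.IsInvertible (Tt.restrict (p ⁻¹ᵁ G).ι) :=
    HilbPolyLib.isInvertible_of_iso (QGorBCLib.restrictPullIso p G T) (AmpleDevLib.isInvertible_pb (p ∣_ G) hTG)
  have h1 : cl ((RefHull.dual Tt).restrict (p ⁻¹ᵁ G).ι) * pull (p ∣_ G) (cl (T.restrict G.ι)) = 1 := by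
    rw [← QGorBCLib.cl_pullback_restrict]; exact QGorBCLib.cl_dual_mul hTtG
  have h2 : pull (p ∣_ G) (cl (T.restrict G.ι)) * pull (p ∣_ G) (cl ((RefHull.dual T).restrict G.ι)) = 1 := by
    rw [← map_mul, mul_comm, QGorBCLib.cl_dual_mul hTG, map_one]
  exact cl_eq_iff.1 ((left_inv_eq_right_inv h1 h2).trans (QGorBCLib.cl_pullback_restrict p G _).symm)

/-- The property of the points generising a point of a subscheme used below. -/
def HasGenerizations {F X : Scheme.{u}} (j : F ⟶ X) (w : F) : Prop :=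
  ∀ (P : Ideal (X.presheaf.stalk (j w))) [P.IsPrime], RingHom.ker (j.stalkMap w).hom ≤ P →
    ∃ v : F, v ⤳ w ∧ ∃ hP : P.IsPrime, j v = EquidimLib.stalkPt (j w) ⟨P, hP⟩ ∧
      ∀ M : F.Modules, Coh.IsCoh M →
        letI := Module.compHom (M.presheaf.stalk w) (j.stalkMap w).hom
        LocCoh.depth (Localization.AtPrime P) (LocalizedModule P.primeCompl (M.presheaf.stalk w)) =
          LocCoh.depth (F.presheaf.stalk v) (M.presheaf.stalk v)

/-- A dual which commutes with restriction to the fibre of a thickening lifts the homomorphisms. -/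
theorem exists_lift_thick {F X' X S : Scheme.{u}} [IsLocallyNoetherian F] [IsLocallyNoetherian X']
    [IsLocallyNoetherian X] (f : X ⟶ S) (p : X' ⟶ X) (q : F ⟶ X') [IsPreimmersion q]
    (j : F ⟶ X) (hj : q ≫ p = j) [IsPreimmersion j] (w : F) (k : ℕ)
    (f' : X' ⟶ Spec (CommRingCat.of (S.presheaf.stalk (f (j w)) ⧸ maximalIdeal (S.presheaf.stalk (f (j w))) ^ (k + 1))))
    (sq : IsPullback p f' f (Spec.map (CommRingCat.ofHom (Ideal.Quotient.mk
      (maximalIdeal (S.presheaf.stalk (f (j w))) ^ (k + 1)))) ≫ S.fromSpecStalk (f (j w))))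
    {T : X.Modules} (hT : Coh.IsCoh T) (hgen : HasGenerizations j w)
    (hJ : (maximalIdeal (S.presheaf.stalk (f (j w))) ^ (k + 1)).map (f.stalkMap (j w)).hom ≤
      RingHom.ker (j.stalkMap w).hom)
    (hloc : ∀ v : F, v ⤳ w → RelCanon.InvertibleAt T (j v) ∨
      (2 : ℕ∞) ≤ LocCoh.depth (F.presheaf.stalk v)
        ((RefHull.dual ((Scheme.Modules.pullback j).obj T)).presheaf.stalk v))
    (e : ((Scheme.Modules.pullback q).obj (RefHull.dual ((Scheme.Modules.pullback p).obj T))).presheaf.stalk w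
      ≃ₗ[F.presheaf.stalk w] (RefHull.dual ((Scheme.Modules.pullback j).obj T)).presheaf.stalk w) :
    ∀ φ : T.presheaf.stalk (j w) →ₛₗ[(j.stalkMap w).hom] F.presheaf.stalk w,
      ∃ ψ : T.presheaf.stalk (j w) →ₗ[X.presheaf.stalk (j w)]
          (X.presheaf.stalk (j w) ⧸ (maximalIdeal (S.presheaf.stalk (f (j w))) ^ (k + 1)).map (f.stalkMap (j w)).hom),
        ∀ x z, ψ x = Ideal.Quotient.mk _ z → φ x = j.stalkMap w z := by
  subst hj
  intro φ
  let B := X.presheaf.stalk (p (q w))
  let B' := X'.presheaf.stalk (q w)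
  let C := F.presheaf.stalk w
  let K := T.presheaf.stalk (p (q w))
  let T' := (Scheme.Modules.pullback p).obj T
  let Tt := (Scheme.Modules.pullback (q ≫ p)).obj T
  have hT' := ConsLib.isCoh_pullback p hT
  have hTt := ConsLib.isCoh_pullback (q ≫ p) hT
  have hD := RefHullLib.isCoh_dual hTt
  haveI : IsPreimmersion p := by
    haveI : IsPreimmersion (Spec.map (CommRingCat.ofHom (Ideal.Quotient.mk
        (maximalIdeal (S.presheaf.stalk (f (p (q w)))) ^ (k + 1))))) :=
      haveI := IsClosedImmersion.spec_of_surjective (CommRingCat.ofHom (Ideal.Quotient.mk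
        (maximalIdeal (S.presheaf.stalk (f (p (q w)))) ^ (k + 1)))) Ideal.Quotient.mk_surjective
      inferInstance
    exact MorphismProperty.of_isPullback (P := @IsPreimmersion) sq.flip inferInstance
  letI : Algebra B B' := (p.stalkMap (q w)).hom.toAlgebra
  letI : Algebra B' C := (q.stalkMap w).hom.toAlgebra
  letI : Algebra B C := ((q ≫ p).stalkMap w).hom.toAlgebra
  haveI : IsScalarTower B B' C := IsScalarTower.of_algebraMap_eq fun b =>
    ConcreteCategory.congr_hom (Scheme.Hom.stalkMap_comp q p w) b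
  have hs' : Function.Surjective (algebraMap B B') := p.stalkMap_surjective (q w)
  have hsC' : Function.Surjective (algebraMap B' C) := q.stalkMap_surjective w
  have hsC : Function.Surjective (algebraMap B C) := (q ≫ p).stalkMap_surjective w
  haveI : Module.Finite B K := ZClosLib.finite_stalk hT (p (q w))
  obtain ⟨ed'⟩ := RefHullLib.nonempty_dual_stalk hT' (q w)
  obtain ⟨ed⟩ := RefHullLib.nonempty_dual_stalk hTt w
  let eT' : B' ⊗[B] K ≃ₗ[B'] T'.presheaf.stalk (q w) := ((KFlatLib.stalkPullIso p (q w)).symm.app T).toLinearEquiv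
  let eT : C ⊗[B] K ≃ₗ[C] Tt.presheaf.stalk w := ((KFlatLib.stalkPullIso (q ≫ p) w).symm.app T).toLinearEquiv
  let eN : (K →ₗ[B] B') ≃ₗ[B'] (RefHull.dual T').presheaf.stalk (q w) :=
    (LinearMap.liftBaseChangeEquiv B').trans ((LinearEquiv.congrLeft B' B' eT').trans ed'.symm)
  let D := (RefHull.dual Tt).presheaf.stalk w
  letI : Module B D := Module.compHom D (algebraMap B C)
  haveI : IsScalarTower B C D := IsScalarTower.of_algebraMap_smul fun _ _ => rfl
  let eQ : (K →ₗ[B] C) ≃ₗ[B] D :=
    ((LinearMap.liftBaseChangeEquiv C).trans ((LinearEquiv.congrLeft C C eT).trans ed.symm)).restrictScalars B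
  haveI : Module.Finite C D := ZClosLib.finite_stalk hD w
  haveI : Module.Finite B C := Module.Finite.of_surjective (Algebra.linearMap B C) hsC
  haveI : Module.Finite B D := Module.Finite.trans C D
  haveI : Module.Finite B (K →ₗ[B] C) := Module.Finite.equiv eQ.symm
  let I : Ideal B := RingHom.ker (algebraMap B C)
  have hI : ∀ c ∈ I, ∀ x : K →ₗ[B] C, c • x = 0 := fun c hc x => LinearMap.ext fun v => by
    rw [LinearMap.smul_apply, Algebra.smul_def, show algebraMap B C c = 0 from RingHom.mem_ker.1 hc, zero_mul,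
      LinearMap.zero_apply]
  let β : (K →ₗ[B] B') →ₗ[B] (K →ₗ[B] C) := LinearMap.compRight B (IsScalarTower.toAlgHom B B' C).toLinearMap
  let eS : (B ⧸ I) ≃ₗ[B] C := (Ideal.quotientKerAlgEquivOfSurjective (f := Algebra.ofId B C) hsC).toLinearEquiv
  haveI : TensorProduct.CompatibleSMul B B' C (K →ₗ[B] B') := ⟨fun b' c n => by
    obtain ⟨b, rfl⟩ := hs' b'
    rw [algebraMap_smul, algebraMap_smul, TensorProduct.smul_tmul]⟩
  let eqq : C ⊗[B'] (RefHull.dual T').presheaf.stalk (q w) ≃ₗ[C]
      ((Scheme.Modules.pullback q).obj (RefHull.dual T')).presheaf.stalk w :=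
    ((KFlatLib.stalkPullIso q w).symm.app (RefHull.dual T')).toLinearEquiv
  let eM : C ⊗[B] (K →ₗ[B] B') ≃ₗ[B] D :=
    (TensorProduct.equivOfCompatibleSMul (S := B) B B' C (K →ₗ[B] B')).symm.trans
      (((LinearEquiv.baseChange B' C _ _ eN).trans (eqq.trans e)).restrictScalars B)
  let eI : ((K →ₗ[B] B') ⧸ I • (⊤ : Submodule B (K →ₗ[B] B'))) ≃ₗ[B] (K →ₗ[B] C) :=
    (TensorProduct.quotTensorEquivQuotSMul (K →ₗ[B] B') I).symm.trans
      ((TensorProduct.congr eS (LinearEquiv.refl B _)).trans (eM.trans eQ.symm))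
  have hsurj : Function.Surjective β := by
    refine surjective_of_equiv_quot I β hI eI fun P hP => ?_
    by_cases hIp : I ≤ P
    swap
    · obtain ⟨c, hcI, hcp⟩ := SetLike.not_le_iff_exists.1 hIp
      exact Or.inl fun x => ⟨c, hcp, by rw [hI c hcI x]; exact zero_mem _⟩
    obtain ⟨v, hvw, hP', hjv, key⟩ := hgen P hIp
    rcases hloc v hvw with hinv | h2
    · left
      intro x
      obtain ⟨g, hg, t, l, hgt, -⟩ := exists_factor_of_invertibleAt hT (p (q w)) ⟨P, hP⟩ (hjv ▸ hinv)
      obtain ⟨c, hc⟩ := hsC (x t)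
      refine ⟨g, hg, c • (Algebra.linearMap B B').comp l, LinearMap.ext fun v => ?_⟩
      show algebraMap B' C (c • algebraMap B B' (l v)) = g • x v
      rw [Algebra.smul_def, map_mul, ← IsScalarTower.algebraMap_apply, ← IsScalarTower.algebraMap_apply, hc,
        ← map_smul, hgt, map_smul, Algebra.smul_def, mul_comm]
    · right
      rw [depth_localized_congr P eQ]
      exact h2.trans (key _ hD).ge
  obtain ⟨n, hn⟩ := hsurj
    { toFun := φ
      map_add' := φ.map_add
      map_smul' := fun c v => by rw [LinearMap.map_smulₛₗ, Algebra.smul_def]; rfl }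
  let J : Ideal B := (maximalIdeal (S.presheaf.stalk (f (p (q w)))) ^ (k + 1)).map (f.stalkMap (p (q w))).hom
  have hker : LinearMap.ker (Algebra.linearMap B B') ≤ LinearMap.ker J.mkQ := fun b hb => by
    rw [Submodule.ker_mkQ]
    exact ker_stalkMap_thick_le f p k (q w) f' sq hb
  let π : B' →ₗ[B] B ⧸ J :=
    ((LinearMap.ker (Algebra.linearMap B B')).liftQ J.mkQ hker).comp
      ((Algebra.linearMap B B').quotKerEquivOfSurjective hs').symm.toLinearMap
  refine ⟨π.comp n, fun x z hz => ?_⟩
  obtain ⟨b, hb⟩ := hs' (n x)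
  have hπ : π (algebraMap B B' b) = Ideal.Quotient.mk J b := by
    show Submodule.liftQ _ _ hker ((LinearMap.quotKerEquivOfSurjective _ hs').symm (Algebra.linearMap B B' b)) = _
    rw [LinearMap.quotKerEquivOfSurjective_symm_apply]
    rfl
  have h1 : π (n x) = Ideal.Quotient.mk J z := hz
  rw [← hb, hπ] at h1
  have hφ : algebraMap B' C (n x) = φ x := LinearMap.congr_fun hn x
  rw [← hφ, ← hb, ← IsScalarTower.algebraMap_apply]
  exact sub_eq_zero.1 ((map_sub _ _ _).symm.trans (hJ (Ideal.Quotient.eq.1 h1)))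

end QGorLiftLib
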